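import Cfsg.Agent.LThreePlane.Points

/-!
# The semilinear action of the stabiliser of a point
-/

set_option autoImplicit false

namespace Cfsg.Lib.LTP

open Subgroup

variable {F : Type*} [Field F] {G : Type*} [Group G]

namespace Blk

variable (B : Blk F G)

/-- conjugation in coordinates -/
noncomputable def coordAct (g : G) (w : F × F) : F × F :=
  @dite _ (∃ p : F × F, g * B.v w.1 w.2 * g⁻¹ = B.v p.1 p.2) (Classical.propDecidable _)
    (fun h => h.choose) (fun _ => 0)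

theorem coordAct_eq {g : G} {w p : F × F} (h : g * B.v w.1 w.2 * g⁻¹ = B.v p.1 p.2) : B.coordAct g w = p := by
  classical
  have hex : ∃ p : F × F, g * B.v w.1 w.2 * g⁻¹ = B.v p.1 p.2 := ⟨p, h⟩
  rw [coordAct, dif_pos hex]
  obtain ⟨e1, e2⟩ := B.v_inj _ _ _ _ (hex.choose_spec.symm.trans h)
  exact Prod.ext e1 e2

theorem coordAct_spec {g : G} (hg : g ∈ normalizer (B.V : Set G)) (w : F × F) :
    g * B.v w.1 w.2 * g⁻¹ = B.v (B.coordAct g w).1 (B.coordAct g w).2 := by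
  obtain ⟨p1, p2, h⟩ := (B.mem_V _).1 ((mem_normalizer_iff.1 hg _).1 (B.v_mem w.1 w.2))
  rw [B.coordAct_eq (p := (p1, p2)) h]
  exact h

theorem coordAct_one (w : F × F) : B.coordAct 1 w = w := B.coordAct_eq (by simp)

theorem coordAct_mul {g h : G} (hg : g ∈ normalizer (B.V : Set G)) (hh : h ∈ normalizer (B.V : Set G))
    (w : F × F) : B.coordAct (g * h) w = B.coordAct g (B.coordAct h w) := by
  refine B.coordAct_eq ?_
  rw [show g * h * B.v w.1 w.2 * (g * h)⁻¹ = g * (h * B.v w.1 w.2 * h⁻¹) * g⁻¹ by group,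
    B.coordAct_spec hh, B.coordAct_spec hg]

theorem coordAct_add {g : G} (hg : g ∈ normalizer (B.V : Set G)) (w w' : F × F) :
    B.coordAct g (w + w') = B.coordAct g w + B.coordAct g w' := by
  refine B.coordAct_eq ?_
  rw [Prod.fst_add, Prod.snd_add, B.v_add, Prod.fst_add, Prod.snd_add, B.v_add, ← B.coordAct_spec hg,
    ← B.coordAct_spec hg]
  group

theorem coordAct_inj {g : G} (hg : g ∈ normalizer (B.V : Set G)) : Function.Injective (B.coordAct g) := by
  intro w w' e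
  have := congrArg (B.coordAct g⁻¹) e
  rwa [← B.coordAct_mul (inv_mem hg) hg, ← B.coordAct_mul (inv_mem hg) hg, inv_mul_cancel,
    B.coordAct_one, B.coordAct_one] at this

/-- semilinear with a given field automorphism -/
def Sem (g : G) (σ : F ≃+* F) : Prop := ∀ (c : F) (w : F × F), B.coordAct g (c • w) = σ c • B.coordAct g w

/-- acting as a scalar -/
def Scal (g : G) : Prop := ∃ c : F, ∀ w : F × F, B.coordAct g w = c • w

theorem Sem.mul {g h : G} {σ τ : F ≃+* F} (hg : g ∈ normalizer (B.V : Set G))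
    (hh : h ∈ normalizer (B.V : Set G)) (S : B.Sem g σ) (T : B.Sem h τ) : B.Sem (g * h) (σ * τ) := by
  intro c w
  rw [B.coordAct_mul hg hh, B.coordAct_mul hg hh, T, S]
  rfl

theorem Sem.unique {g : G} {σ τ : F ≃+* F} (hg : g ∈ normalizer (B.V : Set G)) (S : B.Sem g σ)
    (T : B.Sem g τ) : σ = τ := by
  ext c
  have h := (S c (1, 0)).symm.trans (T c (1, 0))
  refine smul_left_injective F ?_ h
  intro e
  have h0 : B.coordAct g 0 = 0 := by simpa using S 0 (0 : F × F)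
  exact one_ne_zero (congrArg Prod.fst (B.coordAct_inj hg (e.trans h0.symm)))

theorem sem_L {l : G} (hl : l ∈ B.L) : B.Sem l 1 := by
  intro c w
  have key : ∀ w : F × F, B.coordAct l w =
      ((B.π ⟨l, hl⟩).1 0 0 * w.1 + (B.π ⟨l, hl⟩).1 0 1 * w.2,
        (B.π ⟨l, hl⟩).1 1 0 * w.1 + (B.π ⟨l, hl⟩).1 1 1 * w.2) := fun w => B.coordAct_eq (B.act l hl w.1 w.2)
  rw [key, key]
  show _ = c • _
  refine Prod.ext ?_ ?_ <;> simp <;> ring

theorem scal_one : B.Scal 1 := ⟨1, fun w => by rw [B.coordAct_one, one_smul]⟩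

theorem Scal.mul {g h : G} (hg : g ∈ normalizer (B.V : Set G)) (hh : h ∈ normalizer (B.V : Set G))
    (S : B.Scal g) (T : B.Scal h) : B.Scal (g * h) := by
  obtain ⟨c, hc⟩ := S
  obtain ⟨d, hd⟩ := T
  exact ⟨c * d, fun w => by rw [B.coordAct_mul hg hh, hd, hc, smul_smul]⟩

theorem Scal.conj {g b : G} {σ : F ≃+* F} (hg : g ∈ normalizer (B.V : Set G))
    (hb : b ∈ normalizer (B.V : Set G)) (S : B.Sem g σ) (T : B.Scal b) : B.Scal (g * b * g⁻¹) := by
  obtain ⟨c, hc⟩ := T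
  refine ⟨σ c, fun w => ?_⟩
  rw [B.coordAct_mul (mul_mem hg hb) (inv_mem hg), B.coordAct_mul hg hb, hc, S,
    ← B.coordAct_mul hg (inv_mem hg), mul_inv_cancel, B.coordAct_one]

theorem Scal.inv {g : G} (hg : g ∈ normalizer (B.V : Set G)) (S : B.Scal g) : B.Scal g⁻¹ := by
  obtain ⟨c, hc⟩ := S
  refine ⟨c⁻¹, fun w => B.coordAct_inj hg ?_⟩
  rw [← B.coordAct_mul hg (inv_mem hg), mul_inv_cancel, B.coordAct_one, hc, smul_smul]
  by_cases h0 : c = 0
  · have h1 := hc (1, 0)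
    have h2 := hc 0
    rw [h0, zero_smul] at h1 h2
    exact absurd (congrArg Prod.fst (B.coordAct_inj hg (h1.trans h2.symm))) one_ne_zero
  · rw [mul_inv_cancel₀ h0, one_smul]

/-- the scalar elements -/
def scalSub (M : Subgroup G) (hM : M ≤ normalizer (B.V : Set G)) : Subgroup G where
  carrier := {g | g ∈ M ∧ B.Scal g}
  one_mem' := ⟨one_mem M, B.scal_one⟩
  mul_mem' := fun {a b} ha hb => ⟨mul_mem ha.1 hb.1, ha.2.mul B (hM ha.1) (hM hb.1) hb.2⟩
  inv_mem' := fun {a} ha => ⟨inv_mem ha.1, ha.2.inv B (hM ha.1)⟩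

theorem scal_spec {b : G} (hb : b ∈ normalizer (B.V : Set G)) (S : B.Scal b) :
    ∃ c : F, ∀ z y, b * B.v z y * b⁻¹ = B.v (c * z) (c * y) := by
  obtain ⟨c, hc⟩ := S
  refine ⟨c, fun z y => ?_⟩
  have h := B.coordAct_spec hb (z, y)
  rw [hc] at h
  simpa using h

end Blk

variable [Fintype F] [CharP F 2] [Finite G] {D : Duo F G} {H : Subgroup G}

/-- the stabiliser of the standard point -/
def ptStab (D : Duo F G) (H : Subgroup G) : Subgroup G := H ⊓ normalizer (D.one.V : Set G)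

omit [Fintype F] [CharP F 2] [Finite G] in
theorem ptStab_norm : ptStab D H ≤ normalizer (D.one.V : Set G) := inf_le_right

namespace Sub

variable (s : Sub D H)
include s

theorem exists_sem {g : G} (hg : g ∈ ptStab D H) : ∃ σ, D.one.Sem g σ := by
  have h1 : g * D.one.v 1 0 * g⁻¹ ∈ D.one.V := (mem_normalizer_iff.1 hg.2 _).1 (D.one.v_mem 1 0)
  obtain ⟨c, hc, z, hz, e⟩ := D.one.conj_axis h1 (fun e =>
    one_ne_zero (D.one.v_eq_one.1 (conj_eq_one_iff.1 e)).1)
  have hs : c⁻¹ * g ∈ D.stab := s.align (mul_mem (inv_mem (s.L1 hc)) hg.1) one_ne_zero (z' := z) (by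
    rw [show c⁻¹ * g * D.one.v 1 0 * (c⁻¹ * g)⁻¹ = c⁻¹ * (g * D.one.v 1 0 * g⁻¹) * c by group, e]; group)
  obtain ⟨σ, α, δ, T⟩ := D.exists_tri hs.1 hs.2
  obtain ⟨β, hβ⟩ := s.hyp.tri_upper T hs.1
  have S : D.one.Sem (c⁻¹ * g) σ := by
    intro r w
    have key : ∀ w : F × F, D.one.coordAct (c⁻¹ * g) w = (α * σ w.1 + β * σ w.2, δ * σ w.2) :=
      fun w => D.one.coordAct_eq (hβ w.1 w.2)
    rw [key, key]
    refine Prod.ext ?_ ?_ <;> simp <;> ring
  have := (D.one.sem_L hc).mul D.one (D.one.L_le_norm hc) hs.1 S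
  rw [mul_inv_cancel_left] at this
  exact ⟨_, this⟩

/-- a scalar element without fixed point -/
theorem scal_fpf {b : G} (hb : b ∈ ptStab D H) (hS : D.one.Scal b) {v : G} (hv : v ∈ D.one.V)
    (hc : b * v = v * b) (hbV : b ∉ D.one.V) : v = 1 := by
  obtain ⟨c, hc'⟩ := D.one.scal_spec hb.2 hS
  obtain ⟨z, y, rfl⟩ := (D.one.mem_V v).1 hv
  have h1 := hc' z y
  rw [hc, mul_inv_cancel_right] at h1
  obtain ⟨e1, e2⟩ := D.one.v_inj _ _ _ _ h1
  have hc1 : c ≠ 1 := fun e => hbV (s.hyp.cent_V1 fun v hv => by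
    obtain ⟨z, y, rfl⟩ := (D.one.mem_V v).1 hv
    refine mul_inv_eq_iff_eq_mul.1 ?_
    rw [hc', e, one_mul, one_mul])
  rw [D.one.v_eq_one]
  constructor <;> by_contra h0
  · exact hc1 (mul_right_cancel₀ h0 (by rw [one_mul]; exact e1.symm))
  · exact hc1 (mul_right_cancel₀ h0 (by rw [one_mul]; exact e2.symm))

omit s in
/-- elements of the module in an odd group -/
theorem odd_V {K : Subgroup G} (hK : Odd (Nat.card ↥K)) {g : G} (hg : g ∈ K) (hV : g ∈ D.one.V) : g = 1 := by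
  obtain ⟨m, hm⟩ := hK
  have h1 : g ^ Nat.card ↥K = 1 := congrArg Subtype.val (pow_card_eq_one' (x := (⟨g, hg⟩ : ↥K)))
  rwa [hm, pow_succ, pow_mul, pow_two, D.one.sq_V hV, one_pow, one_mul] at h1

/-- scalars in an odd group commute -/
theorem scal_comm {K : Subgroup G} (hKM : K ≤ ptStab D H) (hK : Odd (Nat.card ↥K)) {a b : G} (ha : a ∈ K)
    (hb : b ∈ K) (hSa : D.one.Scal a) (hSb : D.one.Scal b) : a * b = b * a := by
  refine mul_inv_eq_one.1 (odd_V (D := D) hK (mul_mem (mul_mem ha hb) (inv_mem (mul_mem hb ha))) (s.hyp.cent_V1 ?_))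
  intro v hv
  obtain ⟨z, y, rfl⟩ := (D.one.mem_V v).1 hv
  obtain ⟨c, hc⟩ := hSa
  obtain ⟨d, hd⟩ := hSb
  have ha' := (hKM ha).2
  have hb' := (hKM hb).2
  have hab : ∀ w, D.one.coordAct (a * b) w = D.one.coordAct (b * a) w := fun w => by
    rw [D.one.coordAct_mul ha' hb', D.one.coordAct_mul hb' ha', hd, hc, hc, hd, smul_smul, smul_smul, mul_comm]
  have e : D.one.coordAct (a * b * (b * a)⁻¹) (z, y) = (z, y) := by
    rw [D.one.coordAct_mul (mul_mem ha' hb') (inv_mem (mul_mem hb' ha')), hab,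
      ← D.one.coordAct_mul (mul_mem hb' ha') (inv_mem (mul_mem hb' ha')), mul_inv_cancel, D.one.coordAct_one]
  have h := D.one.coordAct_spec (mul_mem (mul_mem ha' hb') (inv_mem (mul_mem hb' ha'))) (z, y)
  rw [e] at h
  exact mul_inv_eq_iff_eq_mul.1 h

end Sub

end Cfsg.Lib.LTP
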