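import Cfsg.Agent.LThreePlane.Mat

/-!
# A natural block `q² : SL₂(q)` inside a group
-/

set_option autoImplicit false

namespace Cfsg.Lib.LTP

open Subgroup

variable (F : Type*) [Field F] (G : Type*) [Group G]

/-- a subgroup `L` with normal subgroup `V` parametrised by pairs, on which `L` acts through `SL₂` -/
structure Blk where
  /-- the whole subgroup -/
  L : Subgroup G
  /-- the module -/
  V : Subgroup G
  /-- the parametrisation of the module -/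
  v : F → F → G
  /-- the map onto the linear group -/
  π : ↥L →* SL2 F
  vle : V ≤ L
  surj : Function.Surjective π
  ker : π.ker = V.subgroupOf L
  mem_V : ∀ g : G, g ∈ V ↔ ∃ z y, g = v z y
  v_add : ∀ z y z' y', v (z + z') (y + y') = v z y * v z' y'
  v_inj : ∀ z y z' y', v z y = v z' y' → z = z' ∧ y = y'
  act : ∀ (l : G) (hl : l ∈ L) (z y : F), l * v z y * l⁻¹ =
    v ((π ⟨l, hl⟩).1 0 0 * z + (π ⟨l, hl⟩).1 0 1 * y) ((π ⟨l, hl⟩).1 1 0 * z + (π ⟨l, hl⟩).1 1 1 * y)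

variable {F G}

namespace Blk

variable (B : Blk F G)

theorem v_mem (z y : F) : B.v z y ∈ B.V := (B.mem_V _).2 ⟨z, y, rfl⟩

theorem v_memL (z y : F) : B.v z y ∈ B.L := B.vle (B.v_mem z y)

theorem v_zero : B.v 0 0 = 1 := by
  have h := B.v_add 0 0 0 0
  rw [add_zero] at h
  exact left_eq_mul.1 h

theorem v_eq_one {z y : F} : B.v z y = 1 ↔ z = 0 ∧ y = 0 := by
  refine ⟨fun h => B.v_inj _ _ _ _ (h.trans B.v_zero.symm), ?_⟩
  rintro ⟨rfl, rfl⟩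
  exact B.v_zero

theorem v_comm (z y z' y' : F) : B.v z y * B.v z' y' = B.v z' y' * B.v z y := by
  rw [← B.v_add, ← B.v_add, add_comm z, add_comm y]

theorem v_split (z y : F) : B.v z y = B.v z 0 * B.v 0 y := by rw [← B.v_add, add_zero, zero_add]

theorem comm_V {g h : G} (hg : g ∈ B.V) (hh : h ∈ B.V) : g * h = h * g := by
  obtain ⟨z, y, rfl⟩ := (B.mem_V g).1 hg
  obtain ⟨z', y', rfl⟩ := (B.mem_V h).1 hh
  exact B.v_comm z y z' y'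

section CharTwo

variable [CharP F 2]

theorem v_sq (z y : F) : B.v z y * B.v z y = 1 := by
  rw [← B.v_add, CharTwo.add_self_eq_zero, CharTwo.add_self_eq_zero, B.v_zero]

theorem v_inv (z y : F) : (B.v z y)⁻¹ = B.v z y := inv_eq_of_mul_eq_one_right (B.v_sq z y)

theorem sq_V {g : G} (hg : g ∈ B.V) : g * g = 1 := by
  obtain ⟨z, y, rfl⟩ := (B.mem_V g).1 hg
  exact B.v_sq z y

theorem inv_V {g : G} (hg : g ∈ B.V) : g⁻¹ = g := inv_eq_of_mul_eq_one_right (B.sq_V hg)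

end CharTwo

theorem V_two [CharP F 2] : IsPGroup 2 ↥B.V := fun g => ⟨1, Subtype.ext (by
  rw [pow_one, pow_two]; exact B.sq_V g.2)⟩

theorem card_V : Nat.card ↥B.V = Nat.card F ^ 2 := by
  rw [pow_two, ← Nat.card_prod]
  exact (Nat.card_congr (Equiv.ofBijective
    (fun p : F × F => (⟨B.v p.1 p.2, B.v_mem p.1 p.2⟩ : ↥B.V))
    ⟨fun p p' h => by
      obtain ⟨h1, h2⟩ := B.v_inj _ _ _ _ (congrArg Subtype.val h)
      exact Prod.ext h1 h2,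
    fun g => by
      obtain ⟨z, y, h⟩ := (B.mem_V g).1 g.2
      exact ⟨(z, y), Subtype.ext h.symm⟩⟩)).symm

theorem π_eq_one {l : G} (hl : l ∈ B.L) : B.π ⟨l, hl⟩ = 1 ↔ l ∈ B.V := by
  rw [← MonoidHom.mem_ker, B.ker, mem_subgroupOf]

theorem π_v (z y : F) : B.π ⟨B.v z y, B.v_memL z y⟩ = 1 := (B.π_eq_one _).2 (B.v_mem z y)

theorem π_mul {a b : G} (ha : a ∈ B.L) (hb : b ∈ B.L) :
    B.π ⟨a * b, mul_mem ha hb⟩ = B.π ⟨a, ha⟩ * B.π ⟨b, hb⟩ := B.π.map_mul ⟨a, ha⟩ ⟨b, hb⟩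

theorem π_inv {a : G} (ha : a ∈ B.L) : B.π ⟨a⁻¹, inv_mem ha⟩ = (B.π ⟨a, ha⟩)⁻¹ := B.π.map_inv ⟨a, ha⟩

theorem exists_lift (A : SL2 F) : ∃ l, ∃ hl : l ∈ B.L, B.π ⟨l, hl⟩ = A := by
  obtain ⟨l, h⟩ := B.surj A
  exact ⟨l, l.2, h⟩

theorem mem_of_π_eq {a b : G} (ha : a ∈ B.L) (hb : b ∈ B.L) (h : B.π ⟨a, ha⟩ = B.π ⟨b, hb⟩) :
    a⁻¹ * b ∈ B.V := by
  rw [← B.π_eq_one (mul_mem (inv_mem ha) hb), B.π_mul (inv_mem ha) hb, B.π_inv ha, h, inv_mul_cancel]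

theorem conj_mem {l g : G} (hl : l ∈ B.L) (hg : g ∈ B.V) : l * g * l⁻¹ ∈ B.V := by
  obtain ⟨z, y, rfl⟩ := (B.mem_V g).1 hg
  rw [B.act l hl]
  exact B.v_mem _ _

theorem L_le_norm : B.L ≤ normalizer (B.V : Set G) := fun l hl => mem_normalizer_iff.2 fun g =>
  ⟨fun hg => B.conj_mem hl hg, fun hg => by
    have h := B.conj_mem (inv_mem hl) hg
    simpa [mul_assoc] using h⟩

/-- an element of `L` centralising the module lies in it -/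
theorem mem_V_of_cent {l : G} (hl : l ∈ B.L) (hc : ∀ g ∈ B.V, l * g = g * l) : l ∈ B.V := by
  rw [← B.π_eq_one hl]
  refine eq_one_of_fix fun z y => ?_
  have h := B.act l hl z y
  rw [hc _ (B.v_mem z y), mul_inv_cancel_right] at h
  obtain ⟨h1, h2⟩ := B.v_inj _ _ _ _ h
  exact ⟨h1.symm, h2.symm⟩

theorem act_up {l : G} (hl : l ∈ B.L) {x : F} (h : B.π ⟨l, hl⟩ = up x) (z y : F) :
    l * B.v z y * l⁻¹ = B.v (z + x * y) y := by
  rw [B.act l hl, h]; simp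

theorem act_lo {l : G} (hl : l ∈ B.L) {x : F} (h : B.π ⟨l, hl⟩ = lo x) (z y : F) :
    l * B.v z y * l⁻¹ = B.v z (x * z + y) := by
  rw [B.act l hl, h]; simp

theorem act_dg {l : G} (hl : l ∈ B.L) {t : Fˣ} (h : B.π ⟨l, hl⟩ = dg t) (z y : F) :
    l * B.v z y * l⁻¹ = B.v ((t : F) * z) (((t⁻¹ : Fˣ) : F) * y) := by
  rw [B.act l hl, h]; simp

/-- containment of the whole block -/
theorem L_le {K : Subgroup G} (hV : B.V ≤ K) (hu : ∀ x, ∃ l ∈ K, ∃ hl : l ∈ B.L, B.π ⟨l, hl⟩ = up x)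
    (hl : ∀ x, ∃ l ∈ K, ∃ hl : l ∈ B.L, B.π ⟨l, hl⟩ = lo x) : B.L ≤ K := by
  intro g hg
  have key : B.π ⟨g, hg⟩ ∈ (K.subgroupOf B.L).map B.π := by
    refine gen _ (fun x => ?_) (fun x => ?_) _
    · obtain ⟨l, hK, hlL, h⟩ := hu x
      exact ⟨⟨l, hlL⟩, hK, h⟩
    · obtain ⟨l, hK, hlL, h⟩ := hl x
      exact ⟨⟨l, hlL⟩, hK, h⟩
  obtain ⟨⟨k, hk⟩, hkK, h⟩ := key
  have h1 := hV (B.mem_of_π_eq hk hg h)
  simpa using K.mul_mem (mem_subgroupOf.1 hkK) h1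

/-- change of coordinates by an automorphism of the linear group -/
def twist (κ : SL2 F ≃* SL2 F) (f₁ f₂ : F → F → F)
    (hadd₁ : ∀ z y z' y', f₁ (z + z') (y + y') = f₁ z y + f₁ z' y')
    (hadd₂ : ∀ z y z' y', f₂ (z + z') (y + y') = f₂ z y + f₂ z' y')
    (hinj : ∀ z y z' y', f₁ z y = f₁ z' y' → f₂ z y = f₂ z' y' → z = z' ∧ y = y')
    (hsurj : ∀ a b, ∃ z y, f₁ z y = a ∧ f₂ z y = b)
    (hcomp₁ : ∀ (A : SL2 F) (z y : F), f₁ ((κ A).1 0 0 * z + (κ A).1 0 1 * y) ((κ A).1 1 0 * z + (κ A).1 1 1 * y) =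
      A.1 0 0 * f₁ z y + A.1 0 1 * f₂ z y)
    (hcomp₂ : ∀ (A : SL2 F) (z y : F), f₂ ((κ A).1 0 0 * z + (κ A).1 0 1 * y) ((κ A).1 1 0 * z + (κ A).1 1 1 * y) =
      A.1 1 0 * f₁ z y + A.1 1 1 * f₂ z y) : Blk F G where
  L := B.L
  V := B.V
  v z y := B.v (f₁ z y) (f₂ z y)
  π := κ.toMonoidHom.comp B.π
  vle := B.vle
  surj := κ.surjective.comp B.surj
  ker := by
    ext l
    rw [MonoidHom.mem_ker, ← B.ker, MonoidHom.mem_ker]
    exact κ.map_eq_one_iff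
  mem_V g := by
    rw [B.mem_V g]
    constructor
    · rintro ⟨a, b, rfl⟩
      obtain ⟨z, y, h1, h2⟩ := hsurj a b
      exact ⟨z, y, by rw [h1, h2]⟩
    · rintro ⟨z, y, rfl⟩
      exact ⟨_, _, rfl⟩
  v_add z y z' y' := by rw [hadd₁, hadd₂, B.v_add]
  v_inj z y z' y' h := by
    obtain ⟨h1, h2⟩ := B.v_inj _ _ _ _ h
    exact hinj _ _ _ _ h1 h2
  act l hl z y := by
    rw [B.act l hl]
    simp only [MonoidHom.comp_apply, MulEquiv.coe_toMonoidHom]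
    rw [hcomp₁, hcomp₂]

end Blk

end Cfsg.Lib.LTP
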