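import Cfsg.Agent.LThreePlane.Duo
import Cfsg.Agent.JComp.Basic

/-!
# Further facts on blocks: tori, perfectness, rigidity, maximality of the common subgroup
-/

set_option autoImplicit false

namespace Cfsg.Lib.LTP

open Subgroup

variable {F : Type*} [Field F] {G : Type*} [Group G]

/-- conjugation of a subgroup -/
def cjg (g : G) (A : Subgroup G) : Subgroup G := A.map (MulAut.conj g).toMonoidHom

theorem mem_cjg {g x : G} {A : Subgroup G} : x ∈ cjg g A ↔ g⁻¹ * x * g ∈ A := by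
  constructor
  · rintro ⟨a, ha, rfl⟩
    simpa [mul_assoc] using ha
  · intro h
    exact ⟨_, h, by simp [mul_assoc]⟩

theorem cjg_mem {g a : G} {A : Subgroup G} (ha : a ∈ A) : g * a * g⁻¹ ∈ cjg g A := ⟨a, ha, rfl⟩

theorem card_cjg (g : G) (A : Subgroup G) : Nat.card ↥(cjg g A) = Nat.card ↥A :=
  (Nat.card_congr (A.equivMapOfInjective _ (MulAut.conj g).injective).toEquiv).symm

theorem cjg_eq_iff {g : G} {A : Subgroup G} : cjg g A = A ↔ g ∈ normalizer (A : Set G) := by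
  rw [mem_normalizer_iff]
  constructor
  · intro h x
    rw [← h, mem_cjg (g := g) (x := g * x * g⁻¹), mem_cjg]
    refine ⟨fun hx => ?_, fun hx => ?_⟩
    · rw [show g⁻¹ * (g * x * g⁻¹) * g = x by group]
      rw [← mem_cjg, h] at hx
      exact hx
    · rw [← mem_cjg, h]
      rw [show g⁻¹ * (g * x * g⁻¹) * g = x by group] at hx
      exact hx
  · intro h
    ext x
    rw [mem_cjg, h, show g * (g⁻¹ * x * g) * g⁻¹ = x by group]

theorem cjg_mul (g h : G) (A : Subgroup G) : cjg (g * h) A = cjg g (cjg h A) := by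
  ext x
  simp [mem_cjg, mul_assoc]

theorem cjg_one (A : Subgroup G) : cjg 1 A = A := by ext x; simp [mem_cjg]

theorem two_pow_eq_one {t : Fˣ} [CharP F 2] {k : ℕ} (h : t ^ 2 ^ k = 1) : t = 1 := by
  have h1 : ((t : F) - 1) ^ 2 ^ k = 0 := by
    rw [sub_pow_char_pow, one_pow, ← Units.val_pow_eq_pow_val, h, Units.val_one, sub_self]
  exact Units.ext (sub_eq_zero.1 (pow_eq_zero_iff (pow_ne_zero k two_ne_zero) |>.1 h1))

namespace Blk

variable (B : Blk F G)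

/-- a nontrivial diagonal element fixes only the identity -/
theorem dg_fix {a : G} (ha : a ∈ B.L) {t : Fˣ} (hπ : B.π ⟨a, ha⟩ = dg t) (ht : t ≠ 1) {g : G}
    (hg : g ∈ B.V) (h : a * g = g * a) : g = 1 := by
  obtain ⟨z, y, rfl⟩ := (B.mem_V g).1 hg
  have h1 := B.act_dg ha hπ z y
  rw [h, mul_inv_cancel_right] at h1
  obtain ⟨e1, e2⟩ := B.v_inj _ _ _ _ h1
  rw [B.v_eq_one]
  constructor
  · have : ((t : F) - 1) * z = 0 := by linear_combination -e1
    exact (mul_eq_zero.1 this).resolve_left fun e => ht (Units.ext (sub_eq_zero.1 e))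
  · have : (((t⁻¹ : Fˣ) : F) - 1) * y = 0 := by linear_combination -e2
    exact (mul_eq_zero.1 this).resolve_left fun e => ht (inv_eq_one.1 (Units.ext (sub_eq_zero.1 e)))

variable [CharP F 2]

/-- a torus element of odd order -/
theorem exists_tor [Fintype F] (t : Fˣ) :
    ∃ a, ∃ ha : a ∈ B.L, B.π ⟨a, ha⟩ = dg t ∧ a ^ (Fintype.card F - 1) = 1 := by
  obtain ⟨l, hl, hπ⟩ := B.exists_lift (dg t)
  obtain ⟨n, -, hn⟩ := FiniteField.card F 2
  set q := Fintype.card F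
  have htp : t ^ (q - 1) = 1 := Units.ext (by simpa using FiniteField.pow_card_sub_one_eq_one (t : F) t.ne_zero)
  refine ⟨l ^ q, pow_mem hl q, ?_, ?_⟩
  · show B.π (⟨l, hl⟩ ^ q) = _
    rw [map_pow, hπ, ← dg_pow, show q = q - 1 + 1 by have := Fintype.card_pos (α := F); omega, pow_succ, htp,
      one_mul]
  · have hv : l ^ (q - 1) ∈ B.V := by
      rw [← B.π_eq_one (pow_mem hl _)]
      show B.π (⟨l, hl⟩ ^ (q - 1)) = 1
      rw [map_pow, hπ, ← dg_pow, htp, dg_one]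
    rw [← pow_mul, mul_comm, pow_mul]
    obtain ⟨m, hm⟩ : ∃ m, q = 2 * m := ⟨2 ^ ((n : ℕ) - 1), by
      rw [show q = (2 : ℕ) ^ (n : ℕ) from hn, ← pow_succ']; congr 1; have := n.pos; omega⟩
    generalize l ^ (q - 1) = u at hv ⊢
    rw [hm, pow_mul, pow_two, B.sq_V hv, one_pow]

/-- an element centralising the module and a Borel part centralises the block -/
theorem cent_of_borel {g : G} (hgN : g ∈ normalizer (B.L : Set G)) (hgV : ∀ v ∈ B.V, g * v = v * g)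
    (hup : ∀ x, ∃ l, ∃ hl : l ∈ B.L, B.π ⟨l, hl⟩ = up x ∧ g * l = l * g)
    {a : G} (ha : a ∈ B.L) {t : Fˣ} (hπ : B.π ⟨a, ha⟩ = dg t) (ht : t ≠ 1) (hga : g * a = a * g) :
    ∀ l ∈ B.L, g * l = l * g := by
  set K := centralizer ({g} : Set G)
  have hK : ∀ x, x ∈ K ↔ g * x = x * g := fun x => by
    rw [mem_centralizer_singleton_iff]; exact eq_comm
  have hgc : ∀ v ∈ B.V, g * v * g⁻¹ = v := fun v hv => by rw [hgV v hv, mul_inv_cancel_right]
  obtain ⟨w, hw, hπw⟩ := B.exists_lift wl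
  have hwg : g * w * g⁻¹ ∈ B.L := (mem_normalizer_iff.1 hgN w).1 hw
  have hf : w⁻¹ * (g * w * g⁻¹) ∈ B.V := by
    refine B.mem_V_of_cent (mul_mem (inv_mem hw) hwg) fun v hv => ?_
    have hgi : g⁻¹ * v * g = v := by
      rw [mul_assoc, ← hgV v hv, inv_mul_cancel_left]
    have hm := B.conj_mem hw hv
    rw [show w⁻¹ * (g * w * g⁻¹) * v = w⁻¹ * (g * (w * (g⁻¹ * v * g) * w⁻¹) * g⁻¹) * (g * w * g⁻¹) by group,
      hgi, hgc _ hm]
    group
  set f := w⁻¹ * (g * w * g⁻¹) with hfdef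
  have hgw : g * w * g⁻¹ = w * f := by rw [hfdef, ← mul_assoc, mul_inv_cancel, one_mul]
  set a' := w⁻¹ * a * w with ha'def
  have ha'L : a' ∈ B.L := mul_mem (mul_mem (inv_mem hw) ha) hw
  have hπa' : B.π ⟨a', ha'L⟩ = dg t⁻¹ := by
    rw [show (⟨a', ha'L⟩ : ↥B.L) = ⟨w, hw⟩⁻¹ * ⟨a, ha⟩ * ⟨w, hw⟩ from rfl, map_mul, map_mul, map_inv, hπw, hπ,
      mul_assoc, inv_mul_eq_iff_eq_mul, dg_wl]
  have hprod : a * a' ∈ B.V := by
    rw [← B.π_eq_one (mul_mem ha ha'L), B.π_mul ha ha'L, hπ, hπa', ← dg_mul, mul_inv_cancel, dg_one]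
  have ha'g : g * a' = a' * g := by
    have h1 : a' = a⁻¹ * (a * a') := by group
    rw [← hK, h1]
    exact mul_mem (inv_mem ((hK a).2 hga)) ((hK _).2 (hgV _ hprod))
  have hfix : a' * f = f * a' := by
    have e1 : g * (a * w) * g⁻¹ = a * (w * f) := by
      rw [← mul_assoc g, hga, mul_assoc a, mul_assoc, hgw]
    have e2 : g * (w * a') * g⁻¹ = w * f * a' := by
      rw [← hgw, ← mul_assoc g, show g * w * g⁻¹ * a' = g * w * (g⁻¹ * (a' * g)) * g⁻¹ by group, ← ha'g,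
        inv_mul_cancel_left]
    have e3 : w * a' = a * w := by rw [ha'def]; group
    rw [e3, e1] at e2
    have e4 : w * (a' * f) = w * (f * a') := by
      rw [← mul_assoc w, e3, mul_assoc a, e2, mul_assoc]
    exact mul_left_cancel e4
  have hw1 : f = 1 := B.dg_fix ha'L hπa' (fun e => ht (inv_eq_one.1 e)) hf hfix
  have hwK : w ∈ K := by
    rw [hK]
    rw [hw1, mul_one] at hgw
    exact mul_inv_eq_iff_eq_mul.1 hgw
  have hLK : B.L ≤ K := B.L_le (fun v hv => (hK v).2 (hgV v hv))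
    (fun x => by
      obtain ⟨l, hl, h1, h2⟩ := hup x
      exact ⟨l, (hK l).2 h2, hl, h1⟩)
    (fun x => by
      obtain ⟨l, hl, h1, h2⟩ := hup x
      refine ⟨w * l * w⁻¹, mul_mem (mul_mem hwK ((hK l).2 h2)) (inv_mem hwK),
        mul_mem (mul_mem hw hl) (inv_mem hw), ?_⟩
      rw [show (⟨w * l * w⁻¹, _⟩ : ↥B.L) = ⟨w, hw⟩ * ⟨l, hl⟩ * ⟨w, hw⟩⁻¹ from rfl, map_mul, map_mul, map_inv,
        hπw, h1, mul_inv_eq_iff_eq_mul, wl_up, CharTwo.neg_eq])
  exact fun l hl => (hK l).1 (hLK hl)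

/-- the block lies in every normal subgroup of index two -/
theorem le_of_index_two [Fintype F] (hq : 4 ≤ Fintype.card F) (K : Subgroup G) [K.Normal]
    (hK : K.index = 2) : B.L ≤ K := by
  have hab : ∀ a b : G, a * b * a⁻¹ * b⁻¹ ∈ K := fun a b => by
    have h2 : ∀ u : G, u ∈ K ∨ ∀ u', u' ∉ K → u * u' ∈ K := fun u => by
      by_cases hu : u ∈ K
      · exact Or.inl hu
      · exact Or.inr fun u' hu' => (mul_mem_iff_of_index_two hK).2 (iff_of_false hu hu')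
    have e := mul_mem_iff_of_index_two hK (a := a * b * a⁻¹) (b := b⁻¹)
    rw [e, Subgroup.inv_mem_iff]
    exact ⟨fun h => by
      have := (inferInstance : K.Normal).conj_mem _ h a⁻¹
      simpa [mul_assoc] using this, fun h => (inferInstance : K.Normal).conj_mem b h a⟩
  obtain ⟨t, ht⟩ : ∃ t : Fˣ, t ≠ 1 := by
    classical
    have h3 : Fintype.card Fˣ = Fintype.card F - 1 := Fintype.card_units F
    haveI : Nontrivial Fˣ := Fintype.one_lt_card_iff_nontrivial.1 (by omega)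
    exact exists_ne 1
  have ht0 : (t : F) - 1 ≠ 0 := fun e => ht (Units.ext (sub_eq_zero.1 e))
  have ht1 : ((t⁻¹ : Fˣ) : F) - 1 ≠ 0 := fun e => ht (inv_eq_one.1 (Units.ext (sub_eq_zero.1 e)))
  have ht2 : (t : F) * t - 1 ≠ 0 := fun e => ht (two_pow_eq_one (k := 1) (Units.ext (by
    rw [pow_one, Units.val_pow_eq_pow_val, pow_two, Units.val_one]; exact sub_eq_zero.1 e)))
  obtain ⟨a, ha, hπ⟩ := B.exists_lift (dg t)
  have hV : B.V ≤ K := fun g hg => by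
    obtain ⟨z, y, rfl⟩ := (B.mem_V g).1 hg
    have h1 := hab a (B.v (z / ((t : F) - 1)) (y / (((t⁻¹ : Fˣ) : F) - 1)))
    rw [B.act_dg ha hπ, B.v_inv, ← B.v_add] at h1
    convert h1 using 2
    · field_simp; linear_combination (-z) * CharTwo.two_eq_zero (R := F)
    · field_simp; linear_combination (-y) * CharTwo.two_eq_zero (R := F)
  refine B.L_le hV (fun x => ?_) (fun x => ?_)
  · obtain ⟨u, hu, hπu⟩ := B.exists_lift (up (x / ((t : F) * t - 1)))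
    refine ⟨a * u * a⁻¹ * u⁻¹, hab a u, mul_mem (mul_mem (mul_mem ha hu) (inv_mem ha)) (inv_mem hu), ?_⟩
    rw [show (⟨a * u * a⁻¹ * u⁻¹, _⟩ : ↥B.L) = ⟨a, ha⟩ * ⟨u, hu⟩ * ⟨a, ha⟩⁻¹ * ⟨u, hu⟩⁻¹ from rfl]
    rw [map_mul, map_mul, map_mul, map_inv, map_inv, hπ, hπu, dg_up, mul_inv_cancel_right,
      mul_inv_eq_iff_eq_mul, ← up_add]
    congr 1
    have e := div_mul_cancel₀ x ht2
    linear_combination e
  · obtain ⟨u, hu, hπu⟩ := B.exists_lift (lo (x / ((t : F) * t - 1)))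
    refine ⟨a⁻¹ * u * a⁻¹⁻¹ * u⁻¹, hab a⁻¹ u,
      mul_mem (mul_mem (mul_mem (inv_mem ha) hu) (inv_mem (inv_mem ha))) (inv_mem hu), ?_⟩
    rw [show (⟨a⁻¹ * u * a⁻¹⁻¹ * u⁻¹, _⟩ : ↥B.L) = ⟨a, ha⟩⁻¹ * ⟨u, hu⟩ * ⟨a, ha⟩⁻¹⁻¹ * ⟨u, hu⟩⁻¹ from rfl]
    rw [map_mul, map_mul, map_mul]
    simp only [map_inv, inv_inv]
    rw [hπ, hπu, mul_assoc (dg t)⁻¹, dg_lo,
      inv_mul_cancel_left, mul_inv_eq_iff_eq_mul, ← lo_add]
    congr 1
    have e := div_mul_cancel₀ x ht2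
    linear_combination e

end Blk

namespace Duo

variable (D : Duo F G) [CharP F 2] [Finite G]

/-- the common subgroup is a maximal 2-subgroup of the block -/
theorem J_max {P : Subgroup G} (hP : IsPGroup 2 ↥P) (hJP : D.J ≤ P) (hPL : P ≤ D.one.L) : P = D.J := by
  refine (eq_or_lt_of_le hJP).elim Eq.symm fun hlt => False.elim ?_
  haveI : Fact (Nat.Prime 2) := ⟨Nat.prime_two⟩
  haveI := hP.isNilpotent
  have hsub : D.J.subgroupOf P < ⊤ := lt_top_iff_ne_top.2 fun e => hlt.not_ge (subgroupOf_eq_top.1 e)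
  obtain ⟨p, hpn, hpJ⟩ := SetLike.exists_of_lt (normalizerCondition_of_isNilpotent _ hsub)
  obtain ⟨k, hk⟩ := hP p
  obtain ⟨hl, hA⟩ : ∃ hl : (p : G) ∈ D.one.L, D.one.π ⟨p, hl⟩ = D.one.π ⟨p, hl⟩ := ⟨hPL p.2, rfl⟩
  clear hA
  set A := D.one.π ⟨(p : G), hl⟩ with hAdef
  obtain ⟨u, hu, hπu⟩ := D.one.exists_lift (up 1)
  have huJ : u ∈ D.J := D.mem_J_iff.2 ⟨hu, by rw [hπu]; exact up_mem 1⟩
  have hpu : (p : G) * u * (p : G)⁻¹ ∈ D.J :=
    (mem_normalizer_iff.1 hpn ⟨u, hJP huJ⟩).1 huJ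
  obtain ⟨hl2, h2⟩ := D.mem_J_iff.1 hpu
  obtain ⟨x, hx⟩ := mem_upGroup.1 h2
  have hconj : A * up 1 = up x * A := by
    rw [← hx, show (⟨(p : G) * u * (p : G)⁻¹, hl2⟩ : ↥D.one.L) = ⟨p, hl⟩ * ⟨u, hu⟩ * ⟨p, hl⟩⁻¹ from rfl,
      map_mul, map_mul, map_inv, hπu, inv_mul_cancel_right]
  have h10 : A.1 1 0 = 0 := by
    have := congrArg (fun M : SL2 F => M.1 1 1) hconj
    simp [mul_11] at this
    exact this
  obtain ⟨t, y, hty⟩ := triangular h10
  have hpk : A ^ 2 ^ k = 1 := by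
    rw [hAdef, ← map_pow]
    rw [show (⟨(p : G), hl⟩ : ↥D.one.L) ^ 2 ^ k = 1 from Subtype.ext (congrArg Subtype.val hk :), map_one]
  have hmul : ∀ n : ℕ, ∃ r, (dg t * up y) ^ n = dg (t ^ n) * up r := by
    intro n
    induction n with
    | zero => exact ⟨0, by simp [up_zero, dg_one]⟩
    | succ n ih =>
      obtain ⟨r, hr⟩ := ih
      refine ⟨((t⁻¹ : Fˣ) : F) * ((t⁻¹ : Fˣ) : F) * r + y, ?_⟩
      have e := dg_up t (((t⁻¹ : Fˣ) : F) * ((t⁻¹ : Fˣ) : F) * r)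
      rw [show (t : F) * t * (((t⁻¹ : Fˣ) : F) * ((t⁻¹ : Fˣ) : F) * r) = r by
        rw [show (t : F) * t * (((t⁻¹ : Fˣ) : F) * ((t⁻¹ : Fˣ) : F) * r) =
          ((t : F) * ((t⁻¹ : Fˣ) : F)) * ((t : F) * ((t⁻¹ : Fˣ) : F)) * r by ring, ← Units.val_mul,
          mul_inv_cancel, Units.val_one, one_mul, one_mul]] at e
      rw [pow_succ, hr, pow_succ, dg_mul, up_add]
      rw [show dg (t ^ n) * up r * (dg t * up y) = dg (t ^ n) * (up r * dg t) * up y by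
        simp only [mul_assoc], ← e]
      simp only [mul_assoc]
  obtain ⟨r, hr⟩ := hmul (2 ^ k)
  rw [← hty, hpk] at hr
  have h00 := congrArg (fun M : SL2 F => M.1 0 0) hr
  simp [mul_00] at h00
  have ht : t = 1 := two_pow_eq_one (k := k) (Units.ext (by rw [Units.val_pow_eq_pow_val]; exact h00.symm))
  refine hpJ ?_
  show (p : G) ∈ D.J
  refine D.mem_J_iff.2 ⟨hl, ?_⟩
  rw [show D.one.π ⟨(p : G), hl⟩ = A from rfl, hty, ht, dg_one, one_mul]
  exact up_mem y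

end Duo

end Cfsg.Lib.LTP
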