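import Cfsg.Agent.LThreePlane.BlkMore
import Cfsg.Prelude.Def_CaseTheorems

/-!
# The two maximal local subgroups: centralisers of the blocks and of their modules
-/

set_option autoImplicit false

namespace Cfsg.Lib.LTP

open Subgroup

variable {G : Type*} [Group G]

/-- the constraint of a local subgroup -/
theorem loc_core (hc : Cfsg.IsCharacteristicTwoType G) {T : Subgroup G} (hT : IsPGroup 2 ↥T) (hne : T ≠ ⊥)
    {g : G} (hg : g ∈ normalizer (T : Set G))
    (h : ∀ r ∈ Cfsg.pCoreOf 2 (normalizer (T : Set G)), g * r = r * g) :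
    g ∈ Cfsg.pCoreOf 2 (normalizer (T : Set G)) := by
  have h1 := hc.2 T hT hne (x := ⟨g, hg⟩) (mem_centralizer_iff.2 fun r hr =>
    Subtype.ext (h r ⟨r, hr, rfl⟩).symm)
  exact ⟨⟨g, hg⟩, h1, rfl⟩

/-- no odd normal subgroup in a local subgroup -/
theorem odd_normal_eq_bot [Finite G] (hc : Cfsg.IsCharacteristicTwoType G) {T : Subgroup G}
    (hT : IsPGroup 2 ↥T) (hne : T ≠ ⊥) {O : Subgroup G} (hON : O ≤ normalizer (T : Set G))
    (hn : normalizer (T : Set G) ≤ normalizer (O : Set G)) (hodd : Odd (Nat.card ↥O)) : O = ⊥ := by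
  haveI : Fact (Nat.Prime 2) := ⟨Nat.prime_two⟩
  set N := normalizer (T : Set G)
  set R := Cfsg.pCoreOf 2 N
  have hR : IsPGroup 2 ↥R := Cfsg.Lib.JComp.isPGroup_pCoreOf _
  have hRn : N ≤ normalizer (R : Set G) := le_normalizer.trans (Cfsg.Lib.JComp.normalizer_le_pCoreOf 2 N)
  have hdis : O ⊓ R = ⊥ := by
    obtain ⟨n, hn2⟩ := IsPGroup.iff_card.1 hR
    have h1 := Subgroup.card_dvd_of_le (inf_le_left : O ⊓ R ≤ O)
    have h2 := Subgroup.card_dvd_of_le (inf_le_right : O ⊓ R ≤ R)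
    rw [hn2] at h2
    obtain ⟨i, -, hi⟩ := (Nat.dvd_prime_pow Nat.prime_two).1 h2
    have hodd' := hodd.of_dvd_nat h1
    rw [hi] at hodd'
    have : i = 0 := by
      by_contra h0
      exact (Nat.not_odd_iff_even.2 (Nat.even_pow.2 ⟨even_two, h0⟩)) hodd'
    rw [this, pow_zero] at hi
    exact Subgroup.card_eq_one.1 hi
  have hOR : O ≤ R := fun g hg => loc_core hc hT hne (hON hg) fun r hr => by
    have e : g * r * g⁻¹ * r⁻¹ ∈ O ⊓ R := by
      refine ⟨?_, R.mul_mem ((mem_normalizer_iff.1 (hRn (hON hg)) r).1 hr) (inv_mem hr)⟩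
      have hrN : r ∈ normalizer (O : Set G) := hn (Cfsg.Lib.JComp.pCoreOf_le N hr)
      have := O.mul_mem hg ((mem_normalizer_iff.1 hrN g⁻¹).1 (inv_mem hg))
      simpa [mul_assoc] using this
    rw [hdis, mem_bot] at e
    exact mul_inv_eq_iff_eq_mul.1 (mul_inv_eq_one.1 e)
  exact (inf_eq_left.2 hOR).symm.trans hdis

variable {F : Type*} [Field F] [Fintype F] [Finite G]

theorem Blk.V_ne_bot (B : Blk F G) : B.V ≠ ⊥ := fun h => by
  have := h ▸ B.v_mem 1 0
  rw [mem_bot, B.v_eq_one] at this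
  exact one_ne_zero this.1

/-- the normaliser of a block is the normaliser of its module -/
theorem norm_eq [CharP F 2] (B : Blk F G) (hV : B.V = Cfsg.pCoreOf 2 B.L)
    (hmax : Cfsg.IsMaximalTwoLocal (normalizer (B.L : Set G))) :
    normalizer (B.V : Set G) = normalizer (B.L : Set G) := by
  refine hmax.2 _ ⟨B.V, B.V_two, B.V_ne_bot, rfl⟩ ?_
  rw [hV]
  exact Cfsg.Lib.JComp.normalizer_le_pCoreOf 2 B.L

variable [CharP F 2]

namespace Duo

variable (D : Duo F G)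

/-- an element of the first normaliser moving the common subgroup into itself normalises the second module -/
theorem norm_V2 {g : G} (h1 : g ∈ normalizer (D.one.V : Set G)) (hJ : ∀ u ∈ D.J, g * u * g⁻¹ ∈ D.J) :
    g ∈ normalizer (D.two.V : Set G) := by
  rw [← cjg_eq_iff]
  have hle : cjg g D.two.V ≤ D.J := by
    rintro _ ⟨u, hu, rfl⟩
    exact hJ u (D.V2_le_J hu)
  rcases D.elem_le hle (fun a ha => by
      obtain ⟨u, hu, rfl⟩ := ha
      rw [← map_mul, D.two.sq_V hu, map_one]) with h | h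
  · exfalso
    refine D.V1_ne_V2 ?_
    have e : cjg g D.two.V = D.one.V :=
      eq_of_le_of_card_ge h (by rw [card_cjg, D.two.card_V, D.one.card_V])
    rw [← cjg_eq_iff] at h1
    have := congrArg (cjg g⁻¹) (e.trans h1.symm)
    rwa [← cjg_mul, ← cjg_mul, inv_mul_cancel, cjg_one, cjg_one, eq_comm] at this
  · exact eq_of_le_of_card_ge h (by rw [card_cjg])

/-- a torus element normalises the common subgroup -/
theorem tor_J {a : G} (ha : a ∈ D.one.L) {t : Fˣ} (hπ : D.one.π ⟨a, ha⟩ = dg t) :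
    ∀ u ∈ D.J, a * u * a⁻¹ ∈ D.J := by
  intro u hu
  obtain ⟨hl, h⟩ := D.mem_J_iff.1 hu
  obtain ⟨x, hx⟩ := mem_upGroup.1 h
  refine D.mem_J_iff.2 ⟨mul_mem (mul_mem ha hl) (inv_mem ha), ?_⟩
  rw [show (⟨a * u * a⁻¹, _⟩ : ↥D.one.L) = ⟨a, ha⟩ * ⟨u, hl⟩ * ⟨a, ha⟩⁻¹ from rfl, map_mul, map_mul,
    map_inv, hπ, hx, dg_up, mul_inv_cancel_right]
  exact up_mem _

/-- the coordinates after conjugation by a torus element -/
theorem tor_two {a : G} (ha : a ∈ D.one.L) {t : Fˣ} (hπ : D.one.π ⟨a, ha⟩ = dg t)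
    (h2 : a ∈ normalizer (D.two.V : Set G)) (z x : F) :
    ∃ z', a * D.two.v z x * a⁻¹ = D.two.v z' ((t : F) * t * x) := by
  obtain ⟨z', x', h⟩ := (D.two.mem_V _).1 ((mem_normalizer_iff.1 h2 _).1 (D.two.v_mem z x))
  refine ⟨z', h.trans ?_⟩
  have hu : D.two.v z x ∈ D.one.L := D.h21 (D.two.v_mem z x)
  have e1 : D.one.π ⟨a * D.two.v z x * a⁻¹, mul_mem (mul_mem ha hu) (inv_mem ha)⟩ = up ((t : F) * t * x) := by
    rw [show (⟨a * D.two.v z x * a⁻¹, _⟩ : ↥D.one.L) = ⟨a, ha⟩ * ⟨_, hu⟩ * ⟨a, ha⟩⁻¹ from rfl, map_mul,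
      map_mul, map_inv, hπ, D.up1, dg_up, mul_inv_cancel_right]
  have e2 : x' = (t : F) * t * x := up_inj (by
    rw [← e1, ← D.up1 z' x']
    exact congrArg D.one.π (Subtype.ext h.symm))
  rw [e2]

theorem exists_unit (hq : 4 ≤ Fintype.card F) : ∃ t : Fˣ, t ≠ 1 := by
  classical
  have h3 : Fintype.card Fˣ = Fintype.card F - 1 := Fintype.card_units F
  haveI : Nontrivial Fˣ := Fintype.one_lt_card_iff_nontrivial.1 (by omega)
  exact exists_ne 1

/-- correcting an element which centralises the common subgroup -/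
theorem exists_cent (hq : 4 ≤ Fintype.card F) {d : G} (hN : d ∈ normalizer (D.one.L : Set G))
    (hd : ∀ u ∈ D.J, d * u = u * d) :
    ∃ z, ∀ l ∈ D.one.L, d * D.one.v z 0 * l = l * (d * D.one.v z 0) := by
  obtain ⟨t, ht⟩ := exists_unit hq
  obtain ⟨a, ha, hπ, -⟩ := D.one.exists_tor t
  have hdV : ∀ v ∈ D.one.V, d * v = v * d := fun v hv => hd v (D.V1_le_J hv)
  set c := a⁻¹ * d * a * d⁻¹ with hcdef
  have hcL : c ∈ D.one.L := by
    rw [hcdef, mul_assoc, mul_assoc, ← mul_assoc d]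
    exact mul_mem (inv_mem ha) ((mem_normalizer_iff.1 hN a).1 ha)
  have hJa : ∀ u ∈ D.J, a * u * a⁻¹ ∈ D.J := D.tor_J ha hπ
  have hcJ : ∀ u ∈ D.J, c * u = u * c := fun u hu => by
    have h1 : d⁻¹ * u = u * d⁻¹ := by
      rw [inv_mul_eq_iff_eq_mul, ← mul_assoc, hd u hu, mul_inv_cancel_right]
    have h2 := hd _ (hJa u hu)
    rw [hcdef, show a⁻¹ * d * a * d⁻¹ * u = a⁻¹ * d * a * (d⁻¹ * u) by group, h1,
      show a⁻¹ * d * a * (u * d⁻¹) = a⁻¹ * (d * (a * u * a⁻¹)) * a * d⁻¹ by group, h2]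
    group
  have hcV : c ∈ D.one.V := D.one.mem_V_of_cent hcL fun v hv => hcJ v (D.V1_le_J hv)
  obtain ⟨z0, hz0⟩ := D.center_mem (D.V1_le_J hcV) (fun v hv => hcJ v (D.V1_le_J hv))
    (fun v hv => hcJ v (D.V2_le_J hv))
  have ht1 : ((t⁻¹ : Fˣ) : F) + 1 ≠ 0 := fun e => ht (inv_eq_one.1 (Units.ext (CharTwo.add_eq_zero.1 e)))
  refine ⟨z0 / (((t⁻¹ : Fˣ) : F) + 1), ?_⟩
  set z := z0 / (((t⁻¹ : Fˣ) : F) + 1)
  have hd'J : ∀ u ∈ D.J, d * D.one.v z 0 * u = u * (d * D.one.v z 0) := fun u hu => by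
    rw [mul_assoc, D.z_central z hu, ← mul_assoc, hd u hu, mul_assoc]
  refine D.one.cent_of_borel (mul_mem hN (le_normalizer (D.one.v_memL z 0)))
    (fun v hv => hd'J v (D.V1_le_J hv))
    (fun x => ⟨_, D.h21 (D.two.v_mem 0 x), D.up1 0 x, hd'J _ (D.V2_le_J (D.two.v_mem 0 x))⟩) ha hπ ht ?_
  have hai : a⁻¹ * D.one.v z 0 * a = D.one.v (((t⁻¹ : Fˣ) : F) * z) 0 := by
    have := D.one.act_dg (inv_mem ha) (t := t⁻¹) (by rw [D.one.π_inv ha, hπ, dg_inv]) z 0
    simpa using this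
  have key : a⁻¹ * (d * D.one.v z 0) * a = d * D.one.v z 0 := by
    rw [show a⁻¹ * (d * D.one.v z 0) * a = c * d * (a⁻¹ * D.one.v z 0 * a) by rw [hcdef]; group, hai, hz0,
      mul_assoc (D.one.v z0 0), ← mul_assoc, show D.one.v z0 0 * d = d * D.one.v z0 0 from
      (hd _ (D.V1_le_J (D.one.v_mem z0 0))).symm, mul_assoc, ← D.one.v_add, add_zero]
    congr 2
    have e := div_mul_cancel₀ z0 ht1
    linear_combination e.symm + ((t⁻¹ : Fˣ) : F) * z * CharTwo.two_eq_zero (R := F)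
  calc d * D.one.v z 0 * a = a * (a⁻¹ * (d * D.one.v z 0) * a) := by group
    _ = _ := by rw [key]

/-- no central element in a block -/
theorem z_cent {z : F} (h : ∀ l ∈ D.one.L, D.one.v z 0 * l = l * D.one.v z 0) : z = 0 := by
  obtain ⟨l, hl, hπ⟩ := D.one.exists_lift (lo 1)
  have h1 := D.one.act_lo hl hπ z 0
  rw [← h l hl, mul_inv_cancel_right, one_mul, add_zero] at h1
  exact (D.one.v_inj _ _ _ _ h1).2.symm

end Duo

/-- the standing facts about two blocks -/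
structure Hyp (D : Duo F G) : Prop where
  char2 : Cfsg.IsCharacteristicTwoType G
  card : 4 ≤ Fintype.card F
  norm1 : normalizer (D.one.V : Set G) = normalizer (D.one.L : Set G)
  norm2 : normalizer (D.two.V : Set G) = normalizer (D.two.L : Set G)
  cl1 : ∀ g : G, (∀ l ∈ D.one.L, g * l = l * g) → g = 1
  cl2 : ∀ g : G, (∀ l ∈ D.two.L, g * l = l * g) → g = 1

theorem Hyp.swap {D : Duo F G} (h : Hyp D) : Hyp D.swap :=
  ⟨h.char2, h.card, h.norm2, h.norm1, h.cl2, h.cl1⟩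

/-- the centraliser of a block without 2-elements is trivial -/
theorem cl_of_two (hc : Cfsg.IsCharacteristicTwoType G) (B : Blk F G)
    (hnorm : normalizer (B.V : Set G) = normalizer (B.L : Set G))
    (h2 : ∀ g : G, (∀ l ∈ B.L, g * l = l * g) → g * g = 1 → g = 1) :
    ∀ g : G, (∀ l ∈ B.L, g * l = l * g) → g = 1 := by
  intro g hg
  set C := centralizer (B.L : Set G)
  have hCN : C ≤ normalizer (B.V : Set G) := fun x hx => mem_normalizer_iff.2 fun v => by
    constructor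
    · intro hv
      rw [← mem_centralizer_iff.1 hx v (B.vle hv), mul_inv_cancel_right]; exact hv
    · intro hv
      have h1 := mem_centralizer_iff.1 hx _ (B.vle hv)
      have h2 : x * v * x⁻¹ = v :=
        calc x * v * x⁻¹ = x⁻¹ * (x * (x * v * x⁻¹)) := by group
          _ = x⁻¹ * (x * v * x⁻¹ * x) := by rw [h1]
          _ = v := by group
      rwa [h2] at hv
  have hodd : Odd (Nat.card ↥C) := by
    rw [Nat.odd_iff]
    by_contra h
    haveI : Fact (Nat.Prime 2) := ⟨Nat.prime_two⟩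
    obtain ⟨x, hx⟩ := exists_prime_orderOf_dvd_card' (G := ↥C) 2 (by omega)
    have hx1 := h2 (x : G) (fun l hl => (mem_centralizer_iff.1 x.2 l hl).symm) (by
      have := pow_orderOf_eq_one x
      rw [hx, pow_two] at this
      exact congrArg Subtype.val this)
    rw [show x = 1 from Subtype.ext hx1, orderOf_one] at hx
    omega
  have := odd_normal_eq_bot hc B.V_two B.V_ne_bot hCN (hnorm ▸ fun x hx => mem_normalizer_iff.2 fun y => by
    simp only [C, mem_centralizer_iff]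
    constructor
    · intro hy l hl
      have h1 := hy _ ((mem_normalizer_iff''.1 hx l).1 hl)
      calc l * (x * y * x⁻¹) = x * (x⁻¹ * l * x * y) * x⁻¹ := by group
        _ = x * (y * (x⁻¹ * l * x)) * x⁻¹ := by rw [h1]
        _ = x * y * x⁻¹ * l := by group
    · intro hy l hl
      have h1 := hy _ ((mem_normalizer_iff.1 hx l).1 hl)
      calc l * y = x⁻¹ * (x * l * x⁻¹ * (x * y * x⁻¹)) * x := by group
        _ = x⁻¹ * (x * y * x⁻¹ * (x * l * x⁻¹)) * x := by rw [h1]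
        _ = y * l := by group) hodd
  exact this.le (mem_centralizer_iff.2 fun l hl => (hg l hl).symm)

/-- the standing facts follow from the hypotheses of the theorem -/
theorem hyp_of (hc : Cfsg.IsCharacteristicTwoType G) (hq : 4 ≤ Fintype.card F) (D : Duo F G)
    (h1 : normalizer (D.one.V : Set G) = normalizer (D.one.L : Set G))
    (h2 : normalizer (D.two.V : Set G) = normalizer (D.two.L : Set G))
    (T : Subgroup G) (hT : IsPGroup 2 ↥T) (hJT : D.J ≤ T) (hTN : T ≤ normalizer (D.one.L : Set G))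
    (hTmax : ∀ x ∈ normalizer (D.one.L : Set G), orderOf x = 2 →
      ∃ n ∈ normalizer (D.one.L : Set G), n⁻¹ * x * n ∈ T)
    (hO : Cfsg.pCoreOf 2 (T ⊔ D.one.L ⊔ D.two.L) = ⊥) : Hyp D := by
  obtain ⟨t, ht⟩ := Duo.exists_unit hq
  have hTJ : ∀ x ∈ T, ∀ u ∈ D.J, x * u * x⁻¹ ∈ D.J := by
    intro x hx u hu
    have hmax : T ⊓ D.one.L = D.J := D.J_max (hT.to_le inf_le_left) (le_inf hJT D.J_le_L1) inf_le_right
    rw [← hmax]
    exact ⟨T.mul_mem (T.mul_mem hx (hJT hu)) (inv_mem hx),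
      (mem_normalizer_iff.1 (hTN hx) u).1 (D.J_le_L1 hu)⟩
  have hTN2 : T ≤ normalizer (D.two.L : Set G) := fun x hx =>
    h2 ▸ D.norm_V2 (h1.symm ▸ hTN hx) (hTJ x hx)
  have hd1 : ∀ d ∈ T, (∀ l ∈ D.one.L, d * l = l * d) → d = 1 := by
    intro d hdT hdL
    have hdJ : ∀ u ∈ D.J, d * u = u * d := fun u hu => hdL u (D.J_le_L1 hu)
    obtain ⟨z, hz⟩ := D.swap.exists_cent hq (hTN2 hdT) (by rw [D.J_swap]; exact hdJ)
    obtain ⟨b, hb, hπb, -⟩ := D.one.exists_tor t
    have hbN : b ∈ normalizer (D.two.L : Set G) :=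
      h2 ▸ D.norm_V2 (D.one.L_le_norm hb) (D.tor_J hb hπb)
    have hw : ∀ l ∈ D.two.L, D.one.v (((t : F) + 1) * z) 0 * l = l * D.one.v (((t : F) + 1) * z) 0 := by
      intro l hl
      set d' := d * D.two.v z 0
      set C := centralizer ({l} : Set G)
      have hmemC : ∀ x, x ∈ C ↔ x * l = l * x := fun x => mem_centralizer_singleton_iff
      have hd'b : b * d' * b⁻¹ ∈ C := by
        rw [hmemC]
        have hl' : b⁻¹ * l * b ∈ D.two.L := (mem_normalizer_iff''.1 hbN l).1 hl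
        have h1 : d' * (b⁻¹ * l * b) = (b⁻¹ * l * b) * d' := hz _ hl'
        calc b * d' * b⁻¹ * l = b * (d' * (b⁻¹ * l * b)) * b⁻¹ := by group
          _ = b * ((b⁻¹ * l * b) * d') * b⁻¹ := by rw [h1]
          _ = l * (b * d' * b⁻¹) := by group
      have hd'C : d' ∈ C := (hmemC _).2 (hz l hl)
      have key : d'⁻¹ * (b * d' * b⁻¹) = D.one.v (((t : F) + 1) * z) 0 := by
        have e1 : b * d * b⁻¹ = d := by rw [← hdL b hb, mul_inv_cancel_right]
        have e2 := D.one.act_dg hb hπb z 0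
        rw [mul_zero] at e2
        rw [show d'⁻¹ * (b * d' * b⁻¹) = (D.two.v z 0)⁻¹ * (d⁻¹ * (b * d * b⁻¹)) * (b * D.two.v z 0 * b⁻¹) by
          simp only [d']; group, e1, inv_mul_cancel, mul_one, ← D.hz, e2, D.one.v_inv, ← D.one.v_add, add_zero]
        congr 1; ring
      rw [← hmemC, ← key]
      exact mul_mem (inv_mem hd'C) hd'b
    have hz0 : ((t : F) + 1) * z = 0 := D.swap.z_cent (z := ((t : F) + 1) * z) (fun l hl => by
      show D.two.v _ 0 * l = l * D.two.v _ 0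
      rw [← D.hz]; exact hw l hl)
    have hz1 : z = 0 := (mul_eq_zero.1 hz0).resolve_left fun e => ht (Units.ext (CharTwo.add_eq_zero.1 e))
    have hd2 : ∀ l ∈ D.two.L, d * l = l * d := fun l hl => by
      have h3 : d * D.two.v z 0 * l = l * (d * D.two.v z 0) := hz l hl
      rwa [hz1, D.two.v_zero, mul_one] at h3
    set C := centralizer ((D.one.L : Set G) ∪ (D.two.L : Set G)) ⊓ T
    have hnorm : ∀ x, x ∈ normalizer (D.one.L : Set G) → x ∈ normalizer (D.two.L : Set G) →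
        x ∈ normalizer (T : Set G) → x ∈ normalizer (C : Set G) := by
      intro x h1 h2 h3
      refine mem_normalizer_iff.2 fun y => ?_
      simp only [C, mem_inf, mem_centralizer_iff, ← mem_normalizer_iff.1 h3 y]
      refine and_congr_left fun _ => ⟨fun hy l hl => ?_, fun hy l hl => ?_⟩
      · have h4 := hy (x⁻¹ * l * x) (hl.imp (mem_normalizer_iff''.1 h1 l).1 (mem_normalizer_iff''.1 h2 l).1)
        calc l * (x * y * x⁻¹) = x * (x⁻¹ * l * x * y) * x⁻¹ := by group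
          _ = x * (y * (x⁻¹ * l * x)) * x⁻¹ := by rw [h4]
          _ = x * y * x⁻¹ * l := by group
      · have h4 := hy (x * l * x⁻¹) (hl.imp (mem_normalizer_iff.1 h1 l).1 (mem_normalizer_iff.1 h2 l).1)
        calc l * y = x⁻¹ * (x * l * x⁻¹ * (x * y * x⁻¹)) * x := by group
          _ = x⁻¹ * (x * y * x⁻¹ * (x * l * x⁻¹)) * x := by rw [h4]
          _ = y * l := by group
    have hcent : ∀ (L : Subgroup G), (∀ y ∈ C, ∀ l ∈ L, l * y = y * l) → L ≤ normalizer (C : Set G) := by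
      intro L hL x hx
      refine mem_normalizer_iff.2 fun y => ⟨fun hy => ?_, fun hy => ?_⟩
      · rw [hL y hy x hx, mul_inv_cancel_right]; exact hy
      · have e := hL _ hy x⁻¹ (inv_mem hx)
        have e2 : y = x * y * x⁻¹ := by
          calc y = x⁻¹ * (x * y * x⁻¹) * x := by group
            _ = _ := by rw [e, inv_mul_cancel_right]
        rw [e2]; exact hy
    have hCle : C ≤ Cfsg.pCoreOf 2 (T ⊔ D.one.L ⊔ D.two.L) :=
      Cfsg.Lib.JComp.le_pCoreOf (hT.to_le inf_le_right) (inf_le_right.trans (le_sup_left.trans le_sup_left))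
        (sup_le (sup_le (fun x hx => hnorm x (hTN hx) (hTN2 hx) (le_normalizer hx))
          (hcent _ fun y hy l hl => mem_centralizer_iff.1 hy.1 l (Or.inl hl)))
          (hcent _ fun y hy l hl => mem_centralizer_iff.1 hy.1 l (Or.inr hl)))
    rw [hO] at hCle
    exact mem_bot.1 (hCle ⟨mem_centralizer_iff.2 fun l hl =>
      hl.elim (fun h => (hdL l h).symm) (fun h => (hd2 l h).symm), hdT⟩)
  have c1 := cl_of_two hc D.one h1 fun g hg hg2 => by
    by_contra hne
    have hgN : g ∈ normalizer (D.one.L : Set G) := mem_normalizer_iff.2 fun l =>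
      ⟨fun hl => by rw [hg l hl, mul_inv_cancel_right]; exact hl, fun hl => by
        have e := hg _ hl
        have e2 : g * l * g⁻¹ = l := by
          calc g * l * g⁻¹ = g⁻¹ * (g * (g * l * g⁻¹)) := by group
            _ = g⁻¹ * (g * l * g⁻¹ * g) := by rw [e]
            _ = l := by group
        rwa [e2] at hl⟩
    obtain ⟨n, hn, hnT⟩ := hTmax g hgN (orderOf_eq_prime (by rw [pow_two]; exact hg2) hne)
    refine hne ?_
    have h1 := hd1 _ hnT (fun l hl => by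
      have e := hg _ ((mem_normalizer_iff.1 hn l).1 hl)
      calc n⁻¹ * g * n * l = n⁻¹ * (g * (n * l * n⁻¹)) * n := by group
        _ = n⁻¹ * (n * l * n⁻¹ * g) * n := by rw [e]
        _ = l * (n⁻¹ * g * n) := by group)
    calc g = n * (n⁻¹ * g * n) * n⁻¹ := by group
      _ = 1 := by rw [h1, mul_one, mul_inv_cancel]
  refine ⟨hc, hq, h1, h2, c1, cl_of_two hc D.two h2 fun g hg hg2 => ?_⟩
  have hgJ : ∀ u ∈ D.J, g * u = u * g := fun u hu => hg u (D.J_le_L2 hu)
  have hgN : g ∈ normalizer (D.one.L : Set G) := h1 ▸ mem_normalizer_iff.2 fun v => by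
    have e : ∀ w ∈ D.one.V, g * w * g⁻¹ = w := fun w hw => by rw [hgJ w (D.V1_le_J hw), mul_inv_cancel_right]
    refine ⟨fun hv => by rw [e v hv]; exact hv, fun hv => ?_⟩
    have e2 : v = g * v * g⁻¹ := by
      calc v = g⁻¹ * (g * v * g⁻¹) * g := by group
        _ = g⁻¹ * (g * (g * v * g⁻¹) * g⁻¹) * g := by rw [e _ hv]
        _ = _ := by group
    rw [e2]; exact hv
  obtain ⟨z, hz⟩ := D.exists_cent hq hgN hgJ
  have h3 := c1 _ hz
  have h4 : g = (D.one.v z 0)⁻¹ := eq_inv_of_mul_eq_one_left h3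
  rw [D.one.v_inv] at h4
  have : z = 0 := D.swap.z_cent (z := z) (fun l hl => by
    show D.two.v z 0 * l = l * D.two.v z 0
    rw [← D.hz, ← h4]; exact hg l hl)
  rw [h4, this, D.one.v_zero]

namespace Hyp

variable {D : Duo F G} (h : Hyp D)
include h

/-- the module is its own centraliser -/
theorem cent_V1 {c : G} (hc : ∀ v ∈ D.one.V, c * v = v * c) : c ∈ D.one.V := by
  obtain ⟨t, ht⟩ := Duo.exists_unit h.card
  obtain ⟨a, ha, hπ, -⟩ := D.one.exists_tor t
  have hcN : ∀ g : G, (∀ v ∈ D.one.V, g * v = v * g) → g ∈ normalizer (D.one.L : Set G) := fun g hg =>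
    h.norm1 ▸ mem_normalizer_iff.2 fun v => by
      have e : ∀ w ∈ D.one.V, g * w * g⁻¹ = w := fun w hw => by rw [hg w hw, mul_inv_cancel_right]
      refine ⟨fun hv => by rw [e v hv]; exact hv, fun hv => ?_⟩
      have e2 : v = g * v * g⁻¹ := by
        calc v = g⁻¹ * (g * v * g⁻¹) * g := by group
          _ = g⁻¹ * (g * (g * v * g⁻¹) * g⁻¹) * g := by rw [e _ hv]
          _ = _ := by group
      rw [e2]; exact hv
  have hshift : ∀ g : G, (∀ v ∈ D.one.V, g * v = v * g) → ∀ l ∈ D.one.L, l⁻¹ * (g * l * g⁻¹) ∈ D.one.V := by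
    intro g hg l hl
    refine D.one.mem_V_of_cent (mul_mem (inv_mem hl) ((mem_normalizer_iff.1 (hcN g hg) l).1 hl)) fun v hv => ?_
    have h1 : g⁻¹ * v * g = v := by rw [mul_assoc, ← hg v hv, inv_mul_cancel_left]
    have hm := D.one.conj_mem hl hv
    have h2 : g * (l * v * l⁻¹) * g⁻¹ = l * v * l⁻¹ := by rw [hg _ hm, mul_inv_cancel_right]
    rw [show l⁻¹ * (g * l * g⁻¹) * v = l⁻¹ * (g * (l * (g⁻¹ * v * g) * l⁻¹) * g⁻¹) * (g * l * g⁻¹) by group,
      h1, h2]
    group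
  obtain ⟨v0, y0, hv0⟩ := (D.one.mem_V _).1 (hshift c hc a ha)
  have ht1 : ((t⁻¹ : Fˣ) : F) + 1 ≠ 0 := fun e => ht (inv_eq_one.1 (Units.ext (CharTwo.add_eq_zero.1 e)))
  have ht0 : (t : F) + 1 ≠ 0 := fun e => ht (Units.ext (CharTwo.add_eq_zero.1 e))
  set w := D.one.v (v0 / (((t⁻¹ : Fˣ) : F) + 1)) (y0 / ((t : F) + 1))
  have hw : w ∈ D.one.V := D.one.v_mem _ _
  set c' := c * w with hc'def
  have hc' : ∀ v ∈ D.one.V, c' * v = v * c' := fun v hv => by
    rw [hc'def, mul_assoc, D.one.comm_V hw hv, ← mul_assoc, hc v hv, mul_assoc]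
  have hfix : c' * a = a * c' := by
    have hai : a⁻¹ * w * a = D.one.v (((t⁻¹ : Fˣ) : F) * (v0 / (((t⁻¹ : Fˣ) : F) + 1)))
        ((t : F) * (y0 / ((t : F) + 1))) := by
      have := D.one.act_dg (inv_mem ha) (t := t⁻¹) (by rw [D.one.π_inv ha, hπ, dg_inv])
        (v0 / (((t⁻¹ : Fˣ) : F) + 1)) (y0 / ((t : F) + 1))
      rw [inv_inv, inv_inv] at this
      exact this
    have key : a⁻¹ * c' * a = c' := by
      rw [show a⁻¹ * c' * a = a⁻¹ * (c * a * c⁻¹) * c * (a⁻¹ * w * a) by rw [hc'def]; group, hv0, hai,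
        show D.one.v v0 y0 * c = c * D.one.v v0 y0 from (hc _ (D.one.v_mem _ _)).symm, mul_assoc,
        ← D.one.v_add, hc'def]
      congr 2
      · have e := div_mul_cancel₀ v0 ht1
        linear_combination e.symm + ((t⁻¹ : Fˣ) : F) * (v0 / (((t⁻¹ : Fˣ) : F) + 1)) * CharTwo.two_eq_zero (R := F)
      · have e := div_mul_cancel₀ y0 ht0
        linear_combination e.symm + (t : F) * (y0 / ((t : F) + 1)) * CharTwo.two_eq_zero (R := F)
    calc c' * a = a * (a⁻¹ * c' * a) := by group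
      _ = _ := by rw [key]
  have hJ' : ∀ u ∈ D.J, c' * u * c'⁻¹ ∈ D.J := fun u hu => by
    have h1 := hshift c' hc' u (D.J_le_L1 hu)
    simpa using D.J.mul_mem hu (D.V1_le_J h1)
  have hN2 : c' ∈ normalizer (D.two.L : Set G) :=
    h.norm2 ▸ D.norm_V2 (h.norm1.symm ▸ hcN c' hc') hJ'
  have hN2V : c' ∈ normalizer (D.two.V : Set G) := h.norm2.symm ▸ hN2
  have hφ : ∀ x, ∃ p, c' * D.two.v 0 x * c'⁻¹ = D.two.v p x := fun x => by
    have hu := D.two.v_mem 0 x
    have h2 := (mem_normalizer_iff.1 hN2V _).1 hu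
    have h1 := hshift c' hc' _ (D.h21 hu)
    obtain ⟨p, hp⟩ := D.inter_eq h1 (mul_mem (inv_mem hu) h2)
    refine ⟨p, ?_⟩
    rw [inv_mul_eq_iff_eq_mul, D.hz, ← D.two.v_add, zero_add, add_zero] at hp
    exact hp
  choose φ hφ using hφ
  have hZ : ∀ z, c' * D.two.v z 0 * c'⁻¹ = D.two.v z 0 := fun z => by
    rw [← D.hz, hc' _ (D.one.v_mem z 0), mul_inv_cancel_right]
  have hP : ∀ z x, c' * D.two.v z x * c'⁻¹ = D.two.v (z + φ x) x := fun z x => by
    have e : D.two.v z x = D.two.v z 0 * D.two.v 0 x := D.two.v_split z x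
    rw [e, show c' * (D.two.v z 0 * D.two.v 0 x) * c'⁻¹ =
      c' * D.two.v z 0 * c'⁻¹ * (c' * D.two.v 0 x * c'⁻¹) by group, hZ, hφ, ← D.two.v_add, zero_add]
  have hlin : ∀ x, φ x = x * φ 1 := fun x => by
    obtain ⟨l, hl, hπl⟩ := D.two.exists_lift (lo 1)
    have hl' := (mem_normalizer_iff.1 hN2 l).1 hl
    set M := D.two.π ⟨c' * l * c'⁻¹, hl'⟩
    have e : ∀ x, φ x + x = M.1 1 1 * x := fun x => by
      have hm := D.two.act _ hl' 0 x
      have h0 : D.two.v 0 x = c' * D.two.v (φ x) x * c'⁻¹ := by rw [hP, CharTwo.add_self_eq_zero]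
      rw [h0, show c' * l * c'⁻¹ * (c' * D.two.v (φ x) x * c'⁻¹) * (c' * l * c'⁻¹)⁻¹ =
        c' * (l * D.two.v (φ x) x * l⁻¹) * c'⁻¹ by group, D.two.act_lo hl hπl, hP] at hm
      have h2 := (D.two.v_inj _ _ _ _ hm).2
      rw [mul_zero, zero_add, one_mul] at h2
      exact h2
    linear_combination e x - x * e 1
  have hφ0 : φ 1 = 0 := by
    have hb := D.norm_V2 (D.one.L_le_norm ha) (D.tor_J ha hπ)
    obtain ⟨z', hz'⟩ := D.tor_two ha hπ hb 0 1
    have ez : a * D.two.v (φ 1) 0 * a⁻¹ = D.two.v ((t : F) * φ 1) 0 := by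
      rw [← D.hz, D.one.act_dg ha hπ, mul_zero, D.hz]
    have h1 : a * (c' * D.two.v 0 1 * c'⁻¹) * a⁻¹ = c' * (a * D.two.v 0 1 * a⁻¹) * c'⁻¹ := by
      rw [show a * (c' * D.two.v 0 1 * c'⁻¹) * a⁻¹ = (a * c') * D.two.v 0 1 * (a * c')⁻¹ by group, ← hfix]
      group
    rw [hφ, hz', hP, D.two.v_split (φ 1) 1, show a * (D.two.v (φ 1) 0 * D.two.v 0 1) * a⁻¹ =
      a * D.two.v (φ 1) 0 * a⁻¹ * (a * D.two.v 0 1 * a⁻¹) by group, ez, hz', ← D.two.v_add, hlin ((t : F) * t * 1),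
      zero_add] at h1
    have h2 := (D.two.v_inj _ _ _ _ h1).1
    have h3 : (t : F) * ((t : F) + 1) * φ 1 = 0 := by
      linear_combination h2 + ((t:F)*t*φ 1) * CharTwo.two_eq_zero (R := F)
    exact (mul_eq_zero.1 h3).resolve_left (mul_ne_zero t.ne_zero ht0)
  have hcV2 : ∀ v ∈ D.two.V, c' * v = v * c' := fun v hv => by
    obtain ⟨z, x, rfl⟩ := (D.two.mem_V v).1 hv
    have := hP z x
    rw [hlin, hφ0, mul_zero, add_zero] at this
    exact mul_inv_eq_iff_eq_mul.1 this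
  have hc1 := h.cl1 c' (D.one.cent_of_borel (hcN c' hc') hc'
    (fun x => ⟨_, D.h21 (D.two.v_mem 0 x), D.up1 0 x, hcV2 _ (D.two.v_mem 0 x)⟩) ha hπ ht hfix)
  rw [hc'def] at hc1
  rw [eq_inv_of_mul_eq_one_left hc1]
  exact inv_mem hw

theorem cent_V2 {c : G} (hc : ∀ v ∈ D.two.V, c * v = v * c) : c ∈ D.two.V := h.swap.cent_V1 hc

end Hyp

end Cfsg.Lib.LTP
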