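import Cfsg.Agent.LThreePlane.Torus

/-!
# The core of the centraliser of a central involution lies in the common subgroup
-/

set_option autoImplicit false

namespace Cfsg.Lib.LTP

open Subgroup

variable {F : Type*} [Field F] [Fintype F] [CharP F 2] {G : Type*} [Group G] [Finite G]

namespace Hyp

variable {D : Duo F G} (h : Hyp D) (hq : 8 ≤ Fintype.card F)
include h hq

/-- field parts of elements normalised by the torus are trivial -/
theorem field_trivial {r c k : G} {σ : F ≃+* F} {α δ : F} {t : Fˣ} (T : D.Tri r σ α δ)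
    (hk : D.Tri k (RingEquiv.refl F) 1 ((t⁻¹ : Fˣ) * ((t⁻¹ : Fˣ) : F) * ((t⁻¹ : Fˣ) : F)))
    (hc : c ∈ D.stab) {n : ℕ} (hn : c ^ 2 ^ n = 1) (e : r * k = c * (k * r)) :
    σ ((t⁻¹ : Fˣ) * ((t⁻¹ : Fˣ) : F) * ((t⁻¹ : Fˣ) : F)) =
      (t⁻¹ : Fˣ) * ((t⁻¹ : Fˣ) : F) * ((t⁻¹ : Fˣ) : F) := by
  obtain ⟨τ, β, ε, Tc⟩ := D.exists_tri hc.1 hc.2
  have L := T.mul hk
  have R := Tc.mul (hk.mul T)
  rw [e] at L
  obtain ⟨e1, -, e3⟩ := Duo.Tri.unique L R
  have hτ : τ = RingEquiv.refl F := RingEquiv.ext fun x => by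
    obtain ⟨w, rfl⟩ := σ.surjective x
    exact (congrArg (fun f : F ≃+* F => f w) e1).symm
  subst hτ
  have hcJ := h.two_mem_J Tc hc.1 hn
  obtain ⟨-, hb, he⟩ := Duo.Tri.unique Tc (Duo.tri_of_J hcJ)
  rw [he, one_mul, RingEquiv.refl_apply, RingEquiv.refl_apply, mul_comm δ] at e3
  exact mul_right_cancel₀ T.δ0 e3

/-- a 2-subgroup normalised by the torus meets the stabiliser inside the common subgroup -/
theorem core_inf_stab {R : Subgroup G} (hR : IsPGroup 2 ↥R)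
    (hk : ∀ (t : Fˣ) (k : G), k ∈ D.stab →
      D.Tri k (RingEquiv.refl F) 1 ((t⁻¹ : Fˣ) * ((t⁻¹ : Fˣ) : F) * ((t⁻¹ : Fˣ) : F)) →
      (∀ w, k * D.one.v w 0 = D.one.v w 0 * k) → k ∈ normalizer (R : Set G)) :
    R ⊓ D.stab ≤ D.J := by
  rintro r ⟨hrR, hrs⟩
  obtain ⟨σ, α, δ, T⟩ := D.exists_tri hrs.1 hrs.2
  have hfix : ∀ t : Fˣ, σ ((t : F) * t * t) = (t : F) * t * t := fun t => by
    obtain ⟨k, hks, Tk, hkz⟩ := h.exists_h t⁻¹
    set c := r * k * r⁻¹ * k⁻¹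
    have hcR : c ∈ R := by
      have := (mem_normalizer_iff.1 (hk t⁻¹ k hks Tk hkz) r⁻¹).1 (inv_mem hrR)
      have h2 := R.mul_mem hrR this
      rwa [show r * (k * r⁻¹ * k⁻¹) = c by simp only [c]; group] at h2
    obtain ⟨n, hn⟩ := hR ⟨c, hcR⟩
    have := h.field_trivial hq T Tk (mul_mem (mul_mem (mul_mem hrs hks) (inv_mem hrs)) (inv_mem hks))
      (n := n) (congrArg Subtype.val hn) (by show r * k = c * (k * r); simp only [c]; group)
    simpa using this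
  have hσ : σ = RingEquiv.refl F := RingEquiv.ext fun x =>
    cubes_subfield hq (S := {x | σ x = x}) (map_zero σ) (map_one σ)
      (fun a ha b hb => by show σ (a - b) = a - b; rw [map_sub, ha, hb])
      (fun a ha b hb => by show σ (a * b) = a * b; rw [map_mul, ha, hb]) hfix x
  subst hσ
  obtain ⟨n, hn⟩ := hR ⟨r, hrR⟩
  exact h.two_mem_J T hrs.1 (k := n) (congrArg Subtype.val hn)

/-- a core meeting the normaliser outside the common subgroup contains it -/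
theorem swap_case {X : Subgroup G} (hJX : D.J ≤ X)
    (hC : ∀ g ∈ X, (∀ r ∈ Cfsg.pCoreOf 2 X, g * r = r * g) → g ∈ Cfsg.pCoreOf 2 X)
    (hk : ∀ k : G, (∀ w, k * D.one.v w 0 = D.one.v w 0 * k) → k ∈ X) {r : G}
    (hrR : r ∈ Cfsg.pCoreOf 2 X) (hrn : r ∈ normalizer (D.J : Set G)) (hrs : r ∉ D.stab) :
    D.J ≤ Cfsg.pCoreOf 2 X := by
  set R := Cfsg.pCoreOf 2 X
  have hR : IsPGroup 2 ↥R := Cfsg.Lib.JComp.isPGroup_pCoreOf _
  have hXR : X ≤ normalizer (R : Set G) :=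
    le_normalizer.trans (Cfsg.Lib.JComp.normalizer_le_pCoreOf 2 X)
  have hRX : R ≤ X := Cfsg.Lib.JComp.pCoreOf_le X
  have hkR : ∀ (t : Fˣ) (k : G), k ∈ D.stab →
      D.Tri k (RingEquiv.refl F) 1 ((t⁻¹ : Fˣ) * ((t⁻¹ : Fˣ) : F) * ((t⁻¹ : Fˣ) : F)) →
      (∀ w, k * D.one.v w 0 = D.one.v w 0 * k) → k ∈ normalizer (R : Set G) :=
    fun _ k _ _ hkz => hXR (hk k hkz)
  have hin := h.core_inf_stab hq hR hkR
  have hRn : R ≤ normalizer (D.J : Set G) :=
    le_sup_left.trans (h.le_norm_J (hR.to_sup_of_normal_left' D.J_two (hJX.trans hXR)) le_sup_right)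
  have hsw := (D.norm_J_cases hrn).resolve_left hrs
  obtain ⟨σ, α, δ, T⟩ := D.exists_swa hsw.1 hsw.2
  have hr2 : r * r ∈ D.J := hin ⟨R.mul_mem hrR hrR, D.swa_mul_mem hsw hsw⟩
  have hα : ∀ w, α * σ (α * σ w) = w := fun w => by
    have e := T.za (α * σ w)
    rw [← T.za w, show r * (r * D.one.v w 0 * r⁻¹) * r⁻¹ = r * r * D.one.v w 0 * (r * r)⁻¹ by group,
      ← D.z_central w hr2, mul_inv_cancel_right] at e
    exact (D.one.v_inj _ _ _ _ e).1.symm
  have hα1 : α * σ α = 1 := by simpa using hα 1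
  have hσ2 : σ * σ = 1 := RingEquiv.ext fun w => by
    have e := hα w
    rw [map_mul, ← mul_assoc, hα1, one_mul] at e
    exact e
  have hinv : ∀ t : Fˣ, σ ((t : F) * t * t) * ((t : F) * t * t) = 1 := fun t => by
    obtain ⟨k, hks, Tk, hkz⟩ := h.exists_h t⁻¹
    rw [inv_inv] at Tk
    set s := (t : F) * t * t
    set c := r * k * r⁻¹ * k⁻¹
    have hcR : c ∈ R := by
      have := (mem_normalizer_iff.1 (hXR (hk k hkz)) r⁻¹).1 (inv_mem hrR)
      have h2 := R.mul_mem hrR this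
      rwa [show r * (k * r⁻¹ * k⁻¹) = c by simp only [c]; group] at h2
    have hrki : r * k * r⁻¹ ∈ D.stab := by
      have hki : cjg (r⁻¹) D.one.V = D.two.V ∧ cjg (r⁻¹) D.two.V = D.one.V := by
        constructor
        · conv_lhs => rw [← hsw.2]
          rw [← cjg_mul, inv_mul_cancel, cjg_one]
        · conv_lhs => rw [← hsw.1]
          rw [← cjg_mul, inv_mul_cancel, cjg_one]
      refine D.swa_mul_mem ⟨?_, ?_⟩ hki
      · rw [cjg_mul, cjg_eq_iff.2 hks.1, hsw.1]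
      · rw [cjg_mul, cjg_eq_iff.2 hks.2, hsw.2]
    have hcJ : c ∈ D.J := hin ⟨hcR, D.stab.mul_mem hrki (D.stab.inv_mem hks)⟩
    have Tc := Duo.tri_of_J hcJ
    obtain ⟨p, hp⟩ := Tk.full 0 1
    obtain ⟨p', hp'⟩ := T.full p (s * RingEquiv.refl F 1)
    obtain ⟨q, hq'⟩ := T.ya 1
    obtain ⟨q', hq''⟩ := Tk.full2 q (δ * σ 1)
    obtain ⟨q'', hq3⟩ := Tc.full2 q' (1 / s * RingEquiv.refl F (δ * σ 1))
    have e : r * (k * D.one.v 0 1 * k⁻¹) * r⁻¹ = c * (k * (r * D.one.v 0 1 * r⁻¹) * k⁻¹) * c⁻¹ := by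
      simp only [c]; group
    rw [hp, hp', hq', hq'', hq3] at e
    have e2 := (D.two.v_inj _ _ _ _ e).2
    simp only [RingEquiv.refl_apply, mul_one, map_one, div_one, one_mul] at e2
    have e3 : δ * σ s = δ * (1 / s) := e2.trans (mul_comm _ _)
    rw [mul_left_cancel₀ T.δ0 e3, one_div_mul_cancel (mul_ne_zero (mul_ne_zero t.ne_zero t.ne_zero) t.ne_zero)]
  have hσ1 : σ ≠ 1 := by
    intro e
    subst e
    have hall : ∀ t : Fˣ, (t : F) * t * t ∈ ({0, 1} : Set F) := fun t => by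
      have e2 : ((t : F) * t * t) * ((t : F) * t * t) = 1 := hinv t
      right
      rcases mul_self_eq_one_iff.1 e2 with e3 | e3
      · exact e3
      · rw [Set.mem_singleton_iff, e3, CharTwo.neg_eq]
    have := cubes_card (S := ({0, 1} : Set F)) (Or.inl rfl) hall
    have h2 : Nat.card ({0, 1} : Set F) ≤ 2 := by
      rw [Nat.card_coe_set_eq]
      exact (Set.ncard_insert_le _ _).trans (by rw [Set.ncard_singleton])
    omega
  by_contra hJR
  -- the core meets the common subgroup in the centre and a diagonal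
  set R0 := R ⊓ D.J
  choose P hP using T.ya
  have hd : ∀ y, ∃ z, D.j z y (δ * σ y) ∈ R0 := fun y => by
    set u := D.one.v 0 y
    have hu : u ∈ D.J := D.V1_le_J (D.one.v_mem 0 y)
    have h1 : r * u * r⁻¹ * u⁻¹ ∈ R0 := ⟨by
      have := R.mul_mem hrR ((mem_normalizer_iff.1 (hXR (hJX hu)) r⁻¹).1 (inv_mem hrR))
      rwa [show r * u * r⁻¹ * u⁻¹ = r * (u * r⁻¹ * u⁻¹) by group], D.J.mul_mem ((mem_normalizer_iff.1 hrn u).1 hu) (inv_mem hu)⟩
    rw [hP, D.one.v_inv, D.two_eq_j, D.one_eq_j, D.j_mul, zero_add, add_zero, add_zero] at h1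
    exact ⟨_, h1⟩
  have hcomm : ∀ g ∈ D.J, ∀ u ∈ R0, g * u * g⁻¹ * u⁻¹ ∈ R0 := fun g hg u hu =>
    ⟨R.mul_mem ((mem_normalizer_iff.1 (hXR (hJX hg)) u).1 hu.1) (inv_mem hu.1),
      D.J.mul_mem (D.J.mul_mem (D.J.mul_mem hg hu.2) (inv_mem hg)) (inv_mem hu.2)⟩
  have hcj : ∀ z y x z' y' x', D.j z y x * D.j z' y' x' * (D.j z y x)⁻¹ * (D.j z' y' x')⁻¹ =
      D.one.v (x * y' + x' * y) 0 := fun z y x z' y' x' => by
    rw [mul_inv_eq_iff_eq_mul, mul_inv_eq_iff_eq_mul, D.one_eq_j, D.j_mul, D.j_mul, D.j_mul]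
    congr 1
    · linear_combination (-(x' * y)) * CharTwo.two_eq_zero (R := F)
    · ring
    · ring
  have hZ : ∀ w, D.one.v w 0 ∈ R0 := fun w => by
    obtain ⟨z, hz⟩ := hd 1
    have h1 := hcomm _ (D.V1_le_J (D.one.v_mem 0 (w / (δ * σ 1)))) _ hz
    rw [D.one_eq_j, hcj, zero_mul, zero_add] at h1
    have : δ * σ 1 * (w / (δ * σ 1)) = w := by
      have := T.δ0
      simp; field_simp
    rwa [this] at h1
  have hmove : ∀ z z' y x, D.j z y x ∈ R0 → D.j z' y x ∈ R0 := fun z z' y x hh => by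
    have := R0.mul_mem (hZ (z + z')) hh
    rw [D.one_eq_j, D.j_mul, zero_mul, add_zero, zero_add, zero_add] at this
    rwa [show z + z' + z = z' by linear_combination z * CharTwo.two_eq_zero (R := F)] at this
  have hdd : ∀ y, D.j 0 y (δ * σ y) ∈ R0 := fun y => hmove _ 0 _ _ (hd y).choose_spec
  have hX0 : ∀ x, D.j 0 0 x ∈ R0 → x = 0 := by
    intro x hx
    by_contra hx0
    let S : Set F := {a | ∀ x, D.j 0 0 x ∈ R0 → D.j 0 0 (a * x) ∈ R0}
    have hsub : ∀ {a b}, D.j 0 0 a ∈ R0 → D.j 0 0 b ∈ R0 → D.j 0 0 (a - b) ∈ R0 := fun {a b} ha hb => by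
      have := R0.mul_mem ha hb
      simp only [D.j_mul, mul_zero, add_zero] at this
      rwa [CharTwo.sub_eq_add]
    have hall : ∀ a, a ∈ S := cubes_subfield hq
      (fun x _ => by rw [zero_mul, D.j_zero]; exact one_mem _) (fun x hx => by rwa [one_mul])
      (fun a ha b hb x hx => by rw [sub_mul]; exact hsub (ha x hx) (hb x hx))
      (fun a ha b hb x hx => by rw [mul_assoc]; exact ha _ (hb x hx))
      (fun t x hx => by
        obtain ⟨k, hks, Tk, hkz⟩ := h.exists_h t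
        obtain ⟨p, hp⟩ := Tk.xa x
        have h1 : k * D.j 0 0 x * k⁻¹ ∈ R0 :=
          ⟨(mem_normalizer_iff.1 (hXR (hk k hkz)) _).1 hx.1, (mem_normalizer_iff.1 (D.stab_J hks) _).1 hx.2⟩
        rw [← D.two_eq_j, hp, RingEquiv.refl_apply, D.two_eq_j] at h1
        have h2 := hmove _ 0 _ _ h1
        rwa [show (1 : F) / ((t⁻¹ : Fˣ) * ((t⁻¹ : Fˣ) : F) * ((t⁻¹ : Fˣ) : F)) = (t : F) * t * t by simp; ring]
          at h2)
    refine hJR fun g hg => ?_
    obtain ⟨z, y, x', rfl⟩ := hg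
    have h1 := R0.mul_mem (hdd y) (hall ((δ * σ y + x') / x) x hx)
    rw [div_mul_cancel₀ _ hx0, D.j_mul, mul_zero, add_zero, add_zero, add_zero,
      show δ * σ y + (δ * σ y + x') = x' from CharTwo.add_cancel_left _ _] at h1
    exact (hmove _ z _ _ h1).1
  have hform : ∀ z y x, D.j z y x ∈ R0 → x = δ * σ y := fun z y x hh => by
    have h1 := R0.mul_mem (hmove z 0 y x hh) (hdd y)
    rw [D.j_mul, CharTwo.add_self_eq_zero y] at h1
    exact CharTwo.add_eq_zero.1 (hX0 _ (hmove _ 0 _ _ h1))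
  have hsplit : ∀ g ∈ R, g ∈ R0 ∨ ∃ g0 ∈ R0, g = g0 * r := fun g hg => by
    rcases D.norm_J_cases (hRn hg) with hs | hs
    · exact Or.inl ⟨hg, hin ⟨hg, hs⟩⟩
    · have hri : cjg r⁻¹ D.one.V = D.two.V ∧ cjg r⁻¹ D.two.V = D.one.V := by
        constructor
        · conv_lhs => rw [← hsw.2]
          rw [← cjg_mul, inv_mul_cancel, cjg_one]
        · conv_lhs => rw [← hsw.1]
          rw [← cjg_mul, inv_mul_cancel, cjg_one]
      exact Or.inr ⟨g * r⁻¹, ⟨R.mul_mem hg (inv_mem hrR),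
        hin ⟨R.mul_mem hg (inv_mem hrR), D.swa_mul_mem hs hri⟩⟩, by group⟩
  have hρ : ∀ w, r * D.one.v w 0 * r⁻¹ = D.one.v (α * σ w) 0 := T.za
  obtain ⟨hcardα, -⟩ := fixSet_sq hσ2 hσ1 hα1
  have hbig : 2 < Nat.card (fixSet σ (1 : F)) := by
    have h1 := (fixSet_sq hσ2 hσ1 (show (1 : F) * σ 1 = 1 by simp)).1
    nlinarith
  have hbigα : 2 < Nat.card (fixSet σ α) := by nlinarith
  let comm : G → G → G := fun a b => a * b * a⁻¹ * b⁻¹
  let P : G → Prop := fun a => a ∈ R ∧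
    ∀ u ∈ R, ∀ v ∈ R, ∀ w ∈ R, comm a u = comm a v ∨ comm a u = comm a w ∨ comm a v = comm a w
  have hZP : ∀ z, P (D.one.v z 0) := fun z => by
    have hval : ∀ u ∈ R, comm (D.one.v z 0) u = 1 ∨ comm (D.one.v z 0) u = D.one.v (z + α * σ z) 0 := by
      intro u hu
      rcases hsplit u hu with hu0 | ⟨g0, hg0, rfl⟩
      · left
        show D.one.v z 0 * u * (D.one.v z 0)⁻¹ * u⁻¹ = 1
        rw [D.z_central z hu0.2]; group
      · right
        show D.one.v z 0 * (g0 * r) * (D.one.v z 0)⁻¹ * (g0 * r)⁻¹ = _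
        rw [D.one.v_inv, show D.one.v z 0 * (g0 * r) * D.one.v z 0 * (g0 * r)⁻¹ =
          D.one.v z 0 * (g0 * (r * D.one.v z 0 * r⁻¹) * g0⁻¹) by group, hρ,
          ← D.z_central (α * σ z) hg0.2, mul_inv_cancel_right, ← D.one.v_add, add_zero]
    refine ⟨(hZ z).1, fun u hu v hv w hw => ?_⟩
    rcases hval u hu with a | a <;> rcases hval v hv with b | b <;> rcases hval w hw with c | c <;>
      simp only [a, b, c] <;> tauto
  have hPZ : ∀ a, P a → ∃ z, a = D.one.v z 0 := by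
    rintro a ⟨haR, ha⟩
    rcases hsplit a haR with ha0 | ⟨g0, hg0, rfl⟩
    · obtain ⟨z, y, x, rfl⟩ := ha0.2
      have hx := hform _ _ _ ha0
      by_cases hy : y = 0
      · exact ⟨z, by rw [hx, hy, map_zero, mul_zero, D.one_eq_j]⟩
      exfalso
      have hval : ∀ s : F, comm (D.j z y x) (D.j 0 (y * s) (δ * σ (y * s))) =
          D.one.v (δ * σ y * y * (s + 1 * σ s)) 0 := fun s => by
        show _ * _ * _ * _ = _
        rw [hcj, hx]
        congr 1
        rw [map_mul]; ring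
      classical
      letI := Fintype.ofFinite (fixSet σ (1 : F))
      obtain ⟨s1, s2, s3, h12, h13, h23⟩ := Fintype.two_lt_card_iff.1 (Nat.card_eq_fintype_card (α := fixSet σ (1 : F)) ▸ hbig)
      have hpre : ∀ s : fixSet σ (1 : F), ∃ w : F, (s : F) = w + 1 * σ w :=
        fun s => (fixSet_sq hσ2 hσ1 (show (1 : F) * σ 1 = 1 by simp)).2 _ s.2
      choose W hW using hpre
      have hne : δ * σ y * y ≠ 0 := mul_ne_zero (mul_ne_zero T.δ0 (by simpa using hy)) hy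
      have hdist : ∀ s s' : fixSet σ (1 : F), s ≠ s' →
          comm (D.j z y x) (D.j 0 (y * W s) (δ * σ (y * W s))) ≠
            comm (D.j z y x) (D.j 0 (y * W s') (δ * σ (y * W s'))) := fun s s' hss e => by
        rw [hval, hval, ← hW, ← hW] at e
        exact hss (Subtype.ext (mul_left_cancel₀ hne (D.one.v_inj _ _ _ _ e).1))
      rcases ha _ (hdd (y * W s1)).1 _ (hdd (y * W s2)).1 _ (hdd (y * W s3)).1 with e | e | e
      · exact hdist _ _ h12 e
      · exact hdist _ _ h13 e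
      · exact hdist _ _ h23 e
    · exfalso
      have hval : ∀ w : F, comm (g0 * r) (D.one.v w 0) = D.one.v (w + α * σ w) 0 := fun w => by
        show g0 * r * D.one.v w 0 * (g0 * r)⁻¹ * (D.one.v w 0)⁻¹ = _
        rw [D.one.v_inv, show g0 * r * D.one.v w 0 * (g0 * r)⁻¹ * D.one.v w 0 =
          g0 * (r * D.one.v w 0 * r⁻¹) * g0⁻¹ * D.one.v w 0 by group, hρ, ← D.z_central (α * σ w) hg0.2,
          mul_inv_cancel_right, ← D.one.v_add, add_zero, add_comm]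
      classical
      letI := Fintype.ofFinite (fixSet σ α)
      obtain ⟨s1, s2, s3, h12, h13, h23⟩ :=
        Fintype.two_lt_card_iff.1 (Nat.card_eq_fintype_card (α := fixSet σ α) ▸ hbigα)
      have hpre : ∀ s : fixSet σ α, ∃ w : F, (s : F) = w + α * σ w :=
        fun s => (fixSet_sq hσ2 hσ1 hα1).2 _ s.2
      choose W hW using hpre
      have hdist : ∀ s s' : fixSet σ α, s ≠ s' →
          comm (g0 * r) (D.one.v (W s) 0) ≠ comm (g0 * r) (D.one.v (W s') 0) := fun s s' hss e => by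
        rw [hval, hval, ← hW, ← hW] at e
        exact hss (Subtype.ext (D.one.v_inj _ _ _ _ e).1)
      rcases ha _ (hZ (W s1)).1 _ (hZ (W s2)).1 _ (hZ (W s3)).1 with e | e | e
      · exact hdist _ _ h12 e
      · exact hdist _ _ h13 e
      · exact hdist _ _ h23 e
  have hPconj : ∀ g ∈ X, ∀ a, P a → P (g * a * g⁻¹) := by
    rintro g hg a ⟨haR, ha⟩
    refine ⟨(mem_normalizer_iff.1 (hXR hg) a).1 haR, fun u hu v hv w hw => ?_⟩
    have hm : ∀ u ∈ R, g⁻¹ * u * g ∈ R := fun u hu => (mem_normalizer_iff''.1 (hXR hg) u).1 hu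
    have he : ∀ u, comm (g * a * g⁻¹) u = g * comm a (g⁻¹ * u * g) * g⁻¹ := fun u => by
      simp only [comm]; group
    rw [he, he, he]
    rcases ha _ (hm u hu) _ (hm v hv) _ (hm w hw) with e | e | e <;> simp [e]
  let Z : Subgroup G := D.one.V ⊓ D.two.V
  have hZmem : ∀ a, a ∈ Z ↔ ∃ z, a = D.one.v z 0 :=
    fun a => ⟨fun ha => D.inter_eq ha.1 ha.2, fun ⟨z, hz⟩ => hz ▸ ⟨D.one.v_mem z 0, D.z_mem2 z⟩⟩
  have hZn : ∀ g ∈ X, ∀ a ∈ Z, g * a * g⁻¹ ∈ Z := fun g hg a ha => by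
    obtain ⟨z, rfl⟩ := (hZmem a).1 ha
    exact (hZmem _).2 (hPZ _ (hPconj g hg _ (hZP z)))
  have hnoncentral : ∀ g0 ∈ R0, ¬ ∀ w, g0 * r * D.one.v w 0 = D.one.v w 0 * (g0 * r) := by
    intro g0 hg0 hh
    refine hσ1 (RingEquiv.ext fun w => ?_)
    have e : ∀ w, α * σ w = w := fun w => by
      have h1 : g0 * (r * D.one.v w 0 * r⁻¹) * g0⁻¹ = D.one.v w 0 := by
        rw [show g0 * (r * D.one.v w 0 * r⁻¹) * g0⁻¹ = g0 * r * D.one.v w 0 * (g0 * r)⁻¹ by group, hh,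
          mul_inv_cancel_right]
      rw [hρ, ← D.z_central _ hg0.2, mul_inv_cancel_right] at h1
      exact (D.one.v_inj _ _ _ _ h1).1
    have h1 : α = 1 := by simpa using e 1
    have h2 := e w
    rwa [h1, one_mul] at h2
  refine hJR (stab_series_le (X := X) Z R0 inf_le_left hC (fun a ha => ?_) (fun a ha => D.one.sq_V ha.1)
    (fun s hs => ?_) hZn (fun g hg s hs => ?_) hJX (fun u hu a ha => ?_) (fun u hu s hs => ?_)
    (fun u hu x hx => ?_))
  · obtain ⟨z, rfl⟩ := (hZmem a).1 ha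
    exact hZ z
  · obtain ⟨z, y, x, rfl⟩ := hs.2
    exact (hZmem _).2 ⟨x * y, by rw [D.j_sq, D.one_eq_j]⟩
  · have hgs : g * s * g⁻¹ ∈ R := (mem_normalizer_iff.1 (hXR hg) s).1 hs.1
    rcases hsplit _ hgs with hok | ⟨g0, hg0, e⟩
    · exact hok
    exfalso
    refine hnoncentral g0 hg0 fun w => ?_
    rw [← e]
    obtain ⟨w', hw'⟩ := (hZmem _).1 (hZn g⁻¹ (inv_mem hg) _ ((hZmem _).2 ⟨w, rfl⟩))
    rw [inv_inv] at hw'
    have h1 := D.z_central w' hs.2
    rw [← hw'] at h1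
    calc g * s * g⁻¹ * D.one.v w 0 = g * (s * (g⁻¹ * D.one.v w 0 * g)) * g⁻¹ := by group
      _ = g * (g⁻¹ * D.one.v w 0 * g * s) * g⁻¹ := by rw [h1]
      _ = D.one.v w 0 * (g * s * g⁻¹) := by group
  · obtain ⟨z, rfl⟩ := (hZmem a).1 ha
    exact (D.z_central z hu).symm
  · obtain ⟨z, y, x, rfl⟩ := hu
    obtain ⟨z', y', x', rfl⟩ := hs.2
    refine (hZmem _).2 ⟨x * y' + x' * y, ?_⟩
    have e := hcj z y x z' y' x'
    set a := D.j z y x
    set b := D.j z' y' x'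
    have e2 : a * b * a⁻¹ = D.one.v (x * y' + x' * y) 0 * b := by rw [← e]; group
    rw [e2, D.z_central _ hs.2, inv_mul_cancel_left]
  · refine ⟨R.mul_mem (inv_mem hx) ((mem_normalizer_iff.1 (hXR (hJX hu)) x).1 hx), ?_⟩
    have h1 := (mem_normalizer_iff''.1 (hRn hx) u).1 hu
    have h2 := D.J.mul_mem h1 (inv_mem hu)
    rwa [show x⁻¹ * u * x * u⁻¹ = x⁻¹ * (u * x * u⁻¹) by group] at h2

/-- **centralisers of central involutions normalise the common subgroup** -/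
theorem cent_z {z : F} (hz : z ≠ 0) {g : G} (hg : g * D.one.v z 0 = D.one.v z 0 * g) :
    g ∈ normalizer (D.J : Set G) := by
  set zz := D.one.v z 0
  have hzz1 : zz ≠ 1 := fun e => hz (D.one.v_eq_one.1 e).1
  have hT : IsPGroup 2 ↥(zpowers zz) := fun x => ⟨1, by
    obtain ⟨i, hi⟩ := mem_zpowers_iff.1 x.2
    refine Subtype.ext ?_
    show (x : G) ^ 2 ^ 1 = 1
    rw [pow_one, ← hi, ← zpow_natCast, ← zpow_mul, mul_comm, zpow_mul, zpow_natCast, pow_two,
      D.one.v_sq, one_zpow]⟩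
  set X := normalizer (zpowers zz : Set G)
  have hXmem : ∀ k, k ∈ X ↔ k * zz = zz * k := fun k => by
    refine ⟨fun hk => ?_, fun hk => mem_normalizer_iff.2 fun x => ?_⟩
    · have h1 := (mem_normalizer_iff.1 hk zz).1 (mem_zpowers zz)
      obtain ⟨i, hi⟩ := mem_zpowers_iff.1 h1
      rcases Int.even_or_odd' i with ⟨j, rfl | rfl⟩
      · rw [zpow_mul, zpow_two, D.one.v_sq, one_zpow, eq_comm, conj_eq_one_iff] at hi
        exact absurd hi hzz1
      · rw [zpow_add, zpow_mul, zpow_two, D.one.v_sq, one_zpow, one_mul, zpow_one] at hi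
        exact mul_inv_eq_iff_eq_mul.1 hi.symm
    · have key : ∀ k : G, k * zz = zz * k → ∀ x, x ∈ zpowers zz → k * x * k⁻¹ ∈ zpowers zz := by
        intro k hk x hx
        obtain ⟨i, rfl⟩ := mem_zpowers_iff.1 hx
        rw [(Commute.zpow_right (show Commute k zz from hk) i).eq, mul_inv_cancel_right]
        exact zpow_mem (mem_zpowers zz) i
      refine ⟨key k hk x, fun hx => ?_⟩
      have := key k⁻¹ (by rw [inv_mul_eq_iff_eq_mul, ← mul_assoc, hk, mul_inv_cancel_right]) _ hx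
      simpa [mul_assoc] using this
  have hgX : g ∈ X := (hXmem g).2 hg
  have hJX : D.J ≤ X := fun u hu => (hXmem u).2 (D.z_central z hu).symm
  set R := Cfsg.pCoreOf 2 X
  have hR : IsPGroup 2 ↥R := Cfsg.Lib.JComp.isPGroup_pCoreOf _
  have hXR : X ≤ normalizer (R : Set G) :=
    le_normalizer.trans (Cfsg.Lib.JComp.normalizer_le_pCoreOf 2 X)
  have hC : ∀ g ∈ X, (∀ r ∈ R, g * r = r * g) → g ∈ R := fun g hg hh =>
    loc_core h.char2 hT (fun e => hzz1 (by simpa [zpowers_eq_bot] using e)) hg hh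
  by_cases hJR : D.J ≤ R
  · exact h.norm_of_invariant hJR hR (hXR hgX)
  have hRn : R ≤ normalizer (D.J : Set G) :=
    le_sup_left.trans (h.le_norm_J (hR.to_sup_of_normal_left' D.J_two (hJX.trans hXR)) le_sup_right)
  have hk : ∀ k : G, (∀ w, k * D.one.v w 0 = D.one.v w 0 * k) → k ∈ X := fun k hh => (hXmem k).2 (hh z)
  have hin := h.core_inf_stab hq hR fun _ k _ _ hkz => hXR (hk k hkz)
  have hRJ : R ≤ D.J := fun r hr => by
    by_cases hs : r ∈ D.stab
    · exact hin ⟨hr, hs⟩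
    · exact absurd (h.swap_case hq hJX hC hk hr (hRn hr) hs) hJR
  have hnorm : ∀ V : Subgroup G, V ≤ D.J → (∀ a ∈ V, ∀ b ∈ V, a * b = b * a) → R ≤ V →
      g ∈ normalizer (V : Set G) := fun V hVJ hV hRV => by
    have e : R = V := le_antisymm hRV fun v hv => hC v (hJX (hVJ hv)) fun r hr => hV v hv r (hRV hr)
    rw [← e]; exact hXR hgX
  by_cases h1 : R ≤ D.one.V
  · exact h.norm_J_of_fix (hnorm _ D.V1_le_J (fun a ha b hb => D.one.comm_V ha hb) h1) hz hg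
  by_cases h2 : R ≤ D.two.V
  · have hh := h.swap.norm_J_of_fix (hnorm _ D.V2_le_J (fun a ha b hb => D.two.comm_V ha hb) h2) hz
      (show g * D.two.v z 0 = D.two.v z 0 * g by rw [← D.hz]; exact hg)
    rwa [D.J_swap] at hh
  have hcases := h.center_cases hRJ h1 h2 fun u hu hh => hC u (hJX hu) hh
  have hZR : ∀ w, D.one.v w 0 ∈ R := fun w => hC _ (hJX (D.V1_le_J (D.one.v_mem w 0)))
    fun r hr => D.z_central w (hRJ hr)
  let Z : Subgroup G := D.one.V ⊓ D.two.V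
  have hZmem : ∀ a, a ∈ Z ↔ ∃ z, a = D.one.v z 0 :=
    fun a => ⟨fun ha => D.inter_eq ha.1 ha.2, fun ⟨z, hz⟩ => hz ▸ ⟨D.one.v_mem z 0, D.z_mem2 z⟩⟩
  have hZn : ∀ k ∈ X, ∀ a ∈ Z, k * a * k⁻¹ ∈ Z := fun k hk a ha => by
    refine (hZmem _).2 ?_
    rcases hcases with hc | hc
    · obtain ⟨haR, hcom⟩ := (hc a).2 ((hZmem a).1 ha)
      refine (hc _).1 ⟨(mem_normalizer_iff.1 (hXR hk) a).1 haR, fun r hr => ?_⟩
      have e := hcom _ ((mem_normalizer_iff''.1 (hXR hk) r).1 hr)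
      calc k * a * k⁻¹ * r = k * (a * (k⁻¹ * r * k)) * k⁻¹ := by group
        _ = k * (k⁻¹ * r * k * a) * k⁻¹ := by rw [e]
        _ = r * (k * a * k⁻¹) := by group
    · obtain ⟨haR, hsq⟩ := (hc a).2 ((hZmem a).1 ha)
      refine (hc _).1 ⟨(mem_normalizer_iff.1 (hXR hk) a).1 haR, ?_⟩
      rw [show k * a * k⁻¹ * (k * a * k⁻¹) = k * (a * a) * k⁻¹ by group, hsq]; group
  refine absurd (stab_series_le (X := X) Z R le_rfl hC (fun a ha => ?_) (fun a ha => D.one.sq_V ha.1)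
    (fun s hs => ?_) hZn (fun k hk s hs => (mem_normalizer_iff.1 (hXR hk) s).1 hs) hJX (fun u hu a ha => ?_)
    (fun u hu s hs => ?_) (fun u hu x hx => R.mul_mem (inv_mem hx) ((mem_normalizer_iff.1 (hXR (hJX hu)) x).1 hx)))
    hJR
  · obtain ⟨w, rfl⟩ := (hZmem a).1 ha
    exact hZR w
  · obtain ⟨w, y, x, rfl⟩ := hRJ hs
    exact (hZmem _).2 ⟨x * y, by rw [D.j_sq, D.one_eq_j]⟩
  · obtain ⟨w, rfl⟩ := (hZmem a).1 ha
    exact (D.z_central w hu).symm
  · obtain ⟨w, y, x, rfl⟩ := hu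
    obtain ⟨w', y', x', rfl⟩ := hRJ hs
    refine (hZmem _).2 ⟨x * y' + x' * y, ?_⟩
    rw [inv_mul_eq_iff_eq_mul, mul_inv_eq_iff_eq_mul, D.one_eq_j, D.j_mul, D.j_mul, D.j_mul]
    congr 1
    · linear_combination (-(x' * y)) * CharTwo.two_eq_zero (R := F)
    · ring
    · ring

end Hyp

end Cfsg.Lib.LTP
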