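import Cfsg.Agent.LThreePlane.Init

/-!
# Common coordinates for two framed blocks with the same Sylow subgroup
-/

set_option autoImplicit false

namespace Cfsg.Lib.LTP

open Subgroup
open scoped Pointwise

variable {F : Type*} [Field F] {G : Type*} [Group G]

/-- the facts about one block seen from the other -/
structure Side (A B : Blk F G) : Prop where
  le : B.V ≤ A.L
  onto : ∀ s, ∃ g, ∃ hg : g ∈ B.V, A.π ⟨g, le hg⟩ = up s
  into : ∀ g (hg : g ∈ B.V), A.π ⟨g, le hg⟩ ∈ upGroup F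

theorem side_of [CharP F 2] (A B : Blk F G) (J : Subgroup G) (hJ : ∀ g, g ∈ J ↔ ∃ hl : g ∈ A.L, A.π ⟨g, hl⟩ ∈ upGroup F)
    (hsup : J = A.V ⊔ B.V) : Side A B := by
  have hBJ : B.V ≤ J := hsup ▸ le_sup_right
  have hle : B.V ≤ A.L := fun g hg => ((hJ g).1 (hBJ hg)).1
  refine ⟨hle, fun s => ?_, fun g hg => ((hJ g).1 (hBJ hg)).2⟩
  obtain ⟨l, hl, hπ⟩ := A.exists_lift (up s)
  have h1 : l ∈ A.V ⊔ B.V := hsup ▸ (hJ l).2 ⟨hl, by rw [hπ]; exact up_mem s⟩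
  obtain ⟨a, ha, b, hb, rfl⟩ :=
    Set.mem_mul.1 (show l ∈ (A.V : Set G) * (B.V : Set G) by
      rw [← coe_mul_of_right_le_normalizer_left A.V B.V (hle.trans A.L_le_norm)]; exact h1)
  exact ⟨b, hb, by rw [← hπ, A.π_mul (A.vle ha) (hle hb), (A.π_eq_one _).2 ha, one_mul]⟩

namespace Side

variable {A B : Blk F G}

theorem inter_axis (s : Side A B) {g : G} (hA : g ∈ A.V) (hB : g ∈ B.V) : ∃ z, g = A.v z 0 := by
  obtain ⟨u, hu, hπ⟩ := s.onto 1
  obtain ⟨z, y, rfl⟩ := (A.mem_V g).1 hA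
  have h := A.act_up (s.le hu) hπ z y
  rw [B.comm_V hu hB, mul_inv_cancel_right, one_mul] at h
  refine ⟨z, ?_⟩
  rw [show y = 0 from by simpa using (A.v_inj _ _ _ _ h).1]

theorem axis_mem (s : Side A B) (t : Side B A) (z : F) : A.v z 0 ∈ B.V := by
  refine B.mem_V_of_cent (t.le (A.v_mem z 0)) fun g hg => ?_
  obtain ⟨x, hx⟩ := mem_upGroup.1 (s.into g hg)
  have h := A.act_up (s.le hg) hx z 0
  rw [mul_zero, add_zero, mul_inv_eq_iff_eq_mul] at h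
  exact h.symm

end Side

/-- common coordinates -/
theorem exists_duo [CharP F 2] [Finite F] (A B : Blk F G) (J : Subgroup G)
    (hA : ∀ g, g ∈ J ↔ ∃ hl : g ∈ A.L, A.π ⟨g, hl⟩ ∈ upGroup F)
    (hB : ∀ g, g ∈ J ↔ ∃ hl : g ∈ B.L, B.π ⟨g, hl⟩ ∈ upGroup F)
    (hsup : J = A.V ⊔ B.V) :
    ∃ D : Duo F G, D.one = A ∧ D.two.L = B.L ∧ D.two.V = B.V := by
  classical
  have s := side_of A B J hA hsup
  have t := side_of B A J hB (hsup.trans (sup_comm _ _))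
  have h1 : ∀ z, ∃ w, A.v z 0 = B.v w 0 := fun z => by
    obtain ⟨w, hw⟩ := t.inter_axis (s.axis_mem t z) (A.v_mem z 0)
    exact ⟨w, hw⟩
  choose τ hτ using h1
  have τadd : ∀ a b, τ (a + b) = τ a + τ b := fun a b => by
    refine (B.v_inj _ 0 _ 0 ?_).1
    rw [← hτ (a + b)]
    calc A.v (a + b) 0 = A.v a 0 * A.v b 0 := by rw [← A.v_add, add_zero]
      _ = B.v (τ a + τ b) 0 := by rw [hτ a, hτ b, ← B.v_add, add_zero]
  have τinj : ∀ a b, τ a = τ b → a = b := fun a b e =>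
    (A.v_inj _ _ _ _ (show A.v a 0 = A.v b 0 by rw [hτ, hτ, e])).1
  have hξ : ∀ x, ∃ r, A.π ⟨B.v 0 x, s.le (B.v_mem 0 x)⟩ = up r := fun x => mem_upGroup.1 (s.into _ (B.v_mem 0 x))
  choose ξ hξ using hξ
  have hη : ∀ y, ∃ r, B.π ⟨A.v 0 y, t.le (A.v_mem 0 y)⟩ = up r := fun x => mem_upGroup.1 (t.into _ (A.v_mem 0 x))
  choose η hη using hη
  have ξsurj : ∀ r, ∃ x, ξ x = r := fun r => by
    obtain ⟨g, hg, hπ⟩ := s.onto r
    obtain ⟨z, x, rfl⟩ := (B.mem_V g).1 hg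
    refine ⟨x, up_inj ?_⟩
    have e : B.v z 0 ∈ A.V := t.axis_mem s z
    have e2 : (⟨B.v z x, s.le hg⟩ : ↥A.L) = ⟨B.v z 0 * B.v 0 x, mul_mem (A.vle e) (s.le (B.v_mem 0 x))⟩ :=
      Subtype.ext (B.v_split z x)
    rw [← hξ, ← hπ, e2, A.π_mul (A.vle e) (s.le (B.v_mem 0 x)), (A.π_eq_one _).2 e, one_mul]
  have rel : ∀ x y, τ (ξ x * y) = η y * x := fun x y => by
    have h1 := A.act_up (s.le (B.v_mem 0 x)) (hξ x) 0 y
    have h2 := B.act_up (t.le (A.v_mem 0 y)) (hη y) 0 x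
    rw [zero_add] at h1 h2
    have key : B.v 0 x * A.v 0 y * (B.v 0 x)⁻¹ * (A.v 0 y)⁻¹ = A.v (ξ x * y) 0 := by
      rw [h1, A.v_split (ξ x * y) y, mul_inv_cancel_right]
    have key2 : B.v 0 x * A.v 0 y * (B.v 0 x)⁻¹ * (A.v 0 y)⁻¹ = B.v (η y * x) 0 := by
      rw [show B.v 0 x * A.v 0 y * (B.v 0 x)⁻¹ * (A.v 0 y)⁻¹ =
        B.v 0 x * (A.v 0 y * B.v 0 x * (A.v 0 y)⁻¹)⁻¹ by group, h2, B.v_inv, ← B.v_add,
        CharTwo.add_self_eq_zero, zero_add]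
    exact (B.v_inj _ 0 _ 0 ((hτ _).symm.trans (key.symm.trans key2))).1
  obtain ⟨x1, hx1⟩ := ξsurj 1
  have hητ : ∀ y, τ y = η y * x1 := fun y => by simpa [hx1] using rel x1 y
  have τ0 : τ 0 = 0 := by simpa using τadd 0 0
  have hx1n : x1 ≠ 0 := fun e => one_ne_zero (τinj 1 0 (by rw [hητ 1, e, mul_zero, τ0]))
  set c := τ 1
  have hc : c ≠ 0 := fun e => one_ne_zero (τinj 1 0 (by rw [τ0]; exact e))
  have hrx : ∀ x y, τ (ξ x * y) * x1 = τ y * x := fun x y => by rw [rel, hητ y]; ring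
  have hmul : ∀ r y, τ (r * y) * c = τ r * τ y := fun r y => by
    obtain ⟨x, rfl⟩ := ξsurj r
    have e1 := hrx x 1
    rw [mul_one] at e1
    have e2 := hrx x y
    apply mul_right_cancel₀ hx1n
    linear_combination c * e2 - τ y * e1
  let σ₀ : F →+* F :=
    { toFun := fun r => τ r / c
      map_one' := div_self hc
      map_mul' := fun r y => by
        rw [div_mul_div_comm, ← hmul, mul_div_mul_right _ _ hc]
      map_zero' := by rw [τ0, zero_div]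
      map_add' := fun r y => by rw [τadd, add_div] }
  have hbij : Function.Bijective σ₀ := Finite.injective_iff_bijective.1 σ₀.injective
  let σ : F ≃+* F := RingEquiv.ofBijective σ₀ hbij
  have hσ : ∀ r, c * σ r = τ r := fun r => by
    show c * (τ r / c) = τ r
    field_simp
  let B' : Blk F G := rescale B σ c x1 hc hx1n
  have hBv : ∀ z x, B'.v z x = B.v (c * σ z) (x1 * σ x) := fun z x => rfl
  refine ⟨{ one := A, two := B', h21 := s.le, h12 := t.le,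
            hz := fun z => ?_, up1 := fun z x => ?_, up2 := fun z y => ?_ }, rfl, rfl, rfl⟩
  · rw [hBv, hσ, map_zero, mul_zero, hτ]
  · have e : B.v (c * σ z) 0 ∈ A.V := t.axis_mem s _
    have e2 : (⟨B'.v z x, s.le (B'.v_mem z x)⟩ : ↥A.L) =
        ⟨B.v (c * σ z) 0 * B.v 0 (x1 * σ x), mul_mem (A.vle e) (s.le (B.v_mem 0 _))⟩ :=
      Subtype.ext ((hBv z x).trans (B.v_split _ _))
    show A.π ⟨B'.v z x, _⟩ = _
    rw [e2, A.π_mul (A.vle e) (s.le (B.v_mem 0 _)), (A.π_eq_one _).2 e, one_mul, hξ]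
    congr 1
    apply τinj
    apply mul_right_cancel₀ hx1n
    have e3 := hrx (x1 * σ x) 1
    rw [mul_one] at e3
    rw [e3, ← hσ x]; ring
  · show kap σ c x1 hc hx1n (B.π ⟨A.v z y, _⟩) = _
    have e : A.v z 0 ∈ B.V := s.axis_mem t z
    have e2 : (⟨A.v z y, t.le (A.v_mem z y)⟩ : ↥B.L) =
        ⟨A.v z 0 * A.v 0 y, mul_mem (B.vle e) (t.le (A.v_mem 0 y))⟩ := Subtype.ext (A.v_split z y)
    rw [show B.π ⟨A.v z y, _⟩ = up (η y) by
      rw [show (⟨A.v z y, _⟩ : ↥B.L) = _ from e2, B.π_mul (B.vle e) (t.le (A.v_mem 0 y)),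
        (B.π_eq_one _).2 e, one_mul, hη]]
    show kapFun σ c x1 hc hx1n (up (η y)) = up y
    refine ext2 (by simp) ?_ (by simp) (by simp)
    rw [kapFun_01, up_01, up_01, ← hητ, ← hσ]
    simp [hc]

end Cfsg.Lib.LTP
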