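import Cfsg.Agent.LThreePlane.Scalar

/-!
# All points are collinear
-/

set_option autoImplicit false

namespace Cfsg.Lib.LTP

open Subgroup

variable {F : Type*} [Field F] [Fintype F] [CharP F 2] {G : Type*} [Group G] [Finite G]

namespace Sub

variable {D : Duo F G} {H : Subgroup G} (s : Sub D H)
include s

/-- few involutions take a point to a given point off its lines -/
theorem fibre_bound {B : Subgroup G} (hB : ScalGrp D H B)
    (hgood : ∀ B', ScalGrp D H B' → B < B' → Good D H B') {A : Subgroup G}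
    (hQ : ¬ Collinear' D H D.one.V A) (hne : A ≠ D.one.V) :
    Nat.card {a : G // a ∈ H ∧ a * a = 1 ∧ (∀ b ∈ B, a * b = b * a) ∧ cjg a D.one.V = A} ≤
      Fintype.card F ^ 2 - 2 := by
  rcases isEmpty_or_nonempty {a : G // a ∈ H ∧ a * a = 1 ∧ (∀ b ∈ B, a * b = b * a) ∧ cjg a D.one.V = A}
    with hE | ⟨⟨v, hv, hv2, hvB, rfl⟩⟩
  · rw [Nat.card_eq_zero.2 (Or.inl hE)]; exact Nat.zero_le _
  refine le_trans ?_ (s.inv_bound hB hgood hv hv2 hvB hQ hne)
  have hback : ∀ a : G, a * a = 1 → cjg a D.one.V = cjg v D.one.V → cjg a (cjg v D.one.V) = D.one.V :=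
    fun a h2 e => by rw [← e, ← cjg_mul, h2, cjg_one]
  have hvv : cjg v (cjg v D.one.V) = D.one.V := hback v hv2 rfl
  refine Nat.card_le_card_of_injective (fun a => ⟨v * a.1, ⟨mul_mem hv a.2.1, cjg_eq_iff.1 ?_⟩, ?_, ?_, ?_⟩)
    fun a a' e => Subtype.ext (mul_left_cancel (congrArg Subtype.val e))
  · rw [cjg_mul, a.2.2.2.2]; exact hvv
  · rw [cjg_mul, hback _ a.2.2.1 a.2.2.2.2]
  · intro b hb
    rw [mul_assoc, a.2.2.2.1 b hb, ← mul_assoc, hvB b hb, mul_assoc]
  · rw [mul_inv_rev, inv_eq_of_mul_eq_one_right a.2.2.1, inv_eq_of_mul_eq_one_right hv2,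
      ← mul_assoc v, hv2, one_mul]

/-- the orbit of a centraliser of scalars has no two points on a line -/
theorem orbit_sep {B : Subgroup G} (hB : ScalGrp D H B) (hne : B ≠ ⊥) {x : G} (hx : x ∈ H)
    (hxB : ∀ b ∈ B, x * b = b * x) (hm : cjg x D.one.V ≠ D.one.V) :
    ¬ Collinear' D H D.one.V (cjg x D.one.V) := by
  rintro ⟨l, hl1, hl2⟩
  obtain ⟨c, hc, el⟩ := s.line_through hl1
  obtain ⟨b, hb, hb1⟩ := B.bot_or_exists_ne_one.resolve_left hne
  have hbM : b ∈ ptStab D H := (hB.le hb).1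
  obtain ⟨c₀, hc₀⟩ := (hB.le hb).2
  set b' := c⁻¹ * b * c
  have hcN : c ∈ normalizer (D.one.V : Set G) := D.one.L_le_norm hc
  have hb'N : b' ∈ normalizer (D.one.V : Set G) := mul_mem (mul_mem (inv_mem hcN) hbM.2) hcN
  have hact : ∀ w, D.one.coordAct b' w = c₀ • w := fun w => by
    rw [D.one.coordAct_mul (mul_mem (inv_mem hcN) hbM.2) hcN, D.one.coordAct_mul (inv_mem hcN) hbM.2, hc₀,
      D.one.sem_L (inv_mem hc)]
    show c₀ • _ = c₀ • w
    rw [← D.one.coordAct_mul (inv_mem hcN) hcN, inv_mul_cancel, D.one.coordAct_one]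
  have hconj : ∀ z y, b' * D.one.v z y * b'⁻¹ = D.one.v (c₀ * z) (c₀ * y) := fun z y => by
    have h := D.one.coordAct_spec hb'N (z, y)
    rw [hact] at h
    simpa using h
  have hb's : b' ∈ D.stab :=
    s.align (mul_mem (mul_mem (inv_mem (s.L1 hc)) hbM.1) (s.L1 hc)) one_ne_zero (z' := c₀)
      (by simpa using hconj 1 0)
  obtain ⟨σ, α, δ, T⟩ := D.exists_tri hb's.1 hb's.2
  have hz : ∀ z, α * σ z = c₀ * z := fun z => by
    have e := T.za z
    rw [hconj, mul_zero] at e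
    exact (D.one.v_inj _ _ _ _ e).1.symm
  have hy : ∀ y, δ * σ y = c₀ * y := fun y => by
    obtain ⟨p, e⟩ := T.ya y
    rw [hconj] at e
    exact (D.one.v_inj _ _ _ _ e).2.symm
  obtain ⟨a, ha1, haA, hal⟩ := hl2
  rw [el] at hal
  have hal' : c⁻¹ * a * c ∈ D.two.V := mem_cjg.1 hal
  obtain ⟨p, x', ha'⟩ := (D.two.mem_V _).1 hal'
  obtain ⟨p', hp'⟩ := T.full2 p x'
  rw [← ha', show α / δ * σ x' = x' by
    have h1 : α = c₀ := by simpa using hz 1
    have h2 : δ = c₀ := by simpa using hy 1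
    have h3 := hz x'
    rw [h1] at h3
    rw [h1, h2, div_self (h1 ▸ T.α0), one_mul]
    exact mul_left_cancel₀ (h1 ▸ T.α0) h3] at hp'
  -- the commutator lies in the point and in the centre
  have hbx : cjg b (cjg x D.one.V) = cjg x D.one.V := by
    rw [← cjg_mul, ← hxB b hb, cjg_mul, cjg_eq_iff.2 hbM.2]
  have hmemA : b * a * b⁻¹ * a ∈ cjg x D.one.V := mul_mem (hbx ▸ cjg_mem haA) haA
  have he : c⁻¹ * (b * a * b⁻¹ * a) * c = D.two.v (p' + p) 0 := by
    rw [show c⁻¹ * (b * a * b⁻¹ * a) * c = b' * (c⁻¹ * a * c) * b'⁻¹ * (c⁻¹ * a * c) by simp only [b']; group,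
      hp', ha', ← D.two.v_add, CharTwo.add_self_eq_zero]
  have hmemV : b * a * b⁻¹ * a ∈ D.one.V := by
    have h := cjg_mem (g := c) (show c⁻¹ * (b * a * b⁻¹ * a) * c ∈ D.one.V by
      rw [he, ← D.hz]; exact D.one.v_mem _ _)
    rw [show c * (c⁻¹ * (b * a * b⁻¹ * a) * c) * c⁻¹ = b * a * b⁻¹ * a by group, cjg_eq_iff.2 hcN] at h
    exact h
  have hcom : b * a * b⁻¹ * a = 1 := by
    by_contra hne'
    exact hm (congrArg Subtype.val (s.Pt_eq (A := ⟨_, x, hx, rfl⟩) (B := ⟨_, 1, one_mem H, (cjg_one _).symm⟩)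
      hne' hmemA hmemV))
  obtain ⟨u, hu, rfl⟩ := haA
  have hu2 : (MulAut.conj x).toMonoidHom u * (MulAut.conj x).toMonoidHom u = 1 := by
    rw [← map_mul, D.one.sq_V hu, map_one]
  have hba : b * (x * u * x⁻¹) = x * u * x⁻¹ * b :=
    mul_inv_eq_iff_eq_mul.1 ((eq_inv_of_mul_eq_one_left hcom).trans (inv_eq_of_mul_eq_one_right hu2))
  have hbu : b * u = u * b := by
    calc b * u = x⁻¹ * (x * b) * u := by group
      _ = x⁻¹ * (b * (x * u * x⁻¹)) * x := by rw [hxB b hb]; group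
      _ = u * (x⁻¹ * (b * x)) := by rw [hba]; group
      _ = u * b := by rw [← hxB b hb]; group
  have hbV : b ∉ D.one.V := fun e => hb1 (odd_V (D := D) hB.odd hb e)
  exact ha1 (by rw [s.scal_fpf hbM (hB.le hb).2 hu hbu hbV, map_one])

/-- **scalars centralise only inside the stabiliser** -/
theorem good : ∀ B : Subgroup G, ScalGrp D H B → B ≠ ⊥ → Good D H B := by
  classical
  intro B
  induction B using WellFoundedGT.induction with
  | _ B IH =>
    intro hB hne x hxH hxB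
    set q := Fintype.card F
    have hBM : B ≤ ptStab D H := fun b hb => (hB.le hb).1
    let X := H ⊓ centralizer (B : Set G)
    have hX : ∀ a, a ∈ X ↔ a ∈ H ∧ ∀ b ∈ B, a * b = b * a := fun a => by
      simp only [X, mem_inf, mem_centralizer_iff]
      exact and_congr_right fun _ => forall₂_congr fun _ _ => eq_comm
    let O := {A : Pt D H // ∃ y ∈ X, A.1 = cjg y D.one.V}
    haveI : Fintype O := Fintype.ofFinite O
    let A₀ : O := ⟨⟨_, 1, one_mem H, (cjg_one _).symm⟩, 1, one_mem X, (cjg_one _).symm⟩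
    have hsep : ∀ A A' : O, A ≠ A' → ¬ Collinear' D H A.1.1 A'.1.1 := by
      rintro ⟨A, y, hy, eA⟩ ⟨A', y', hy', eA'⟩ hAA' ⟨l, h1, h2⟩
      obtain ⟨l, k, hk, rfl⟩ := l
      have hm : cjg (y⁻¹ * y') D.one.V ≠ D.one.V := fun e => hAA' (Subtype.ext (Subtype.ext (by
        show A.1 = A'.1
        rw [eA, eA', show cjg y' D.one.V = cjg y (cjg (y⁻¹ * y') D.one.V) by
          rw [← cjg_mul, mul_inv_cancel_left], e])))
      refine s.orbit_sep hB hne (mul_mem (inv_mem hy.1) hy'.1) ((hX _).1 (mul_mem (inv_mem hy) hy')).2 hm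
        ⟨⟨_, y⁻¹ * k, mul_mem (inv_mem hy.1) hk, rfl⟩, ?_, ?_⟩
      · have := h1.cjg y⁻¹
        rw [show A.1 = cjg y D.one.V from eA, ← cjg_mul, inv_mul_cancel, cjg_one, ← cjg_mul] at this
        exact this
      · have := h2.cjg y⁻¹
        rw [show A'.1 = cjg y' D.one.V from eA', ← cjg_mul, ← cjg_mul] at this
        exact this
    let JA : O → Type _ := fun A => {a : G // (a ∈ X ∧ cjg a A.1.1 = A.1.1 ∧ a * a = 1) ∧ a ≠ 1}
    have hJ : ∀ A, Nat.card (JA A) = q ^ 2 - 1 := by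
      rintro ⟨A, y, hy, eA⟩
      rw [← s.card_cent hB hne]
      have hmem : ∀ a, (a ∈ X ∧ cjg a D.one.V = D.one.V) ↔
          (a ∈ ptStab D H ∧ ∀ b ∈ B, a * b = b * a) := fun a => by
        rw [hX, cjg_eq_iff, ptStab, mem_inf]; tauto
      refine Nat.card_congr
        { toFun := fun a => ⟨y⁻¹ * a.1 * y, ?_, fun e => a.2.2 ?_⟩
          invFun := fun a => ⟨y * a.1 * y⁻¹, ?_, fun e => a.2.2 (conj_eq_one_iff.1 e)⟩
          left_inv := fun a => Subtype.ext (by group)
          right_inv := fun a => Subtype.ext (by group) }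
      · obtain ⟨⟨haX, haA, ha2⟩, -⟩ := a.2
        have haA' : cjg a.1 (cjg y D.one.V) = cjg y D.one.V :=
          (congrArg (fun S => cjg a.1 S = S) eA).mp haA
        obtain ⟨h1, h2⟩ := (hmem (y⁻¹ * a.1 * y)).1 ⟨mul_mem (mul_mem (inv_mem hy) haX) hy, by
          rw [cjg_mul, cjg_mul, haA', ← cjg_mul, inv_mul_cancel, cjg_one]⟩
        exact ⟨h1, by
          rw [show y⁻¹ * a.1 * y * (y⁻¹ * a.1 * y) = y⁻¹ * (a.1 * a.1) * y by group, ha2, mul_one,
            inv_mul_cancel], h2⟩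
      · rw [show a.1 = y * (y⁻¹ * a.1 * y) * y⁻¹ by group, e, mul_one, mul_inv_cancel]
      · obtain ⟨⟨haM, ha2, hac⟩, -⟩ := a.2
        obtain ⟨h1, h2⟩ := (hmem a.1).2 ⟨haM, hac⟩
        exact ⟨mul_mem (mul_mem hy h1) (inv_mem hy), by
          show cjg (y * a.1 * y⁻¹) A.1 = A.1
          rw [eA, cjg_mul, cjg_mul, ← cjg_mul y⁻¹ y, inv_mul_cancel, cjg_one, h2], by
          rw [show y * a.1 * y⁻¹ * (y * a.1 * y⁻¹) = y * (a.1 * a.1) * y⁻¹ by group, ha2, mul_one, mul_inv_cancel]⟩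
    -- the involutions of the centraliser
    let I := {a : G // (a ∈ X ∧ a * a = 1) ∧ a ≠ 1}
    haveI : Fintype I := Fintype.ofFinite I
    have hlow : Fintype.card O * (q ^ 2 - 1) ≤ Fintype.card I := by
      let φ : (Σ A : O, JA A) → I := fun p => ⟨p.2.1, ⟨p.2.2.1.1, p.2.2.1.2.2⟩, p.2.2.2⟩
      have hφ : Function.Injective φ := by
        rintro ⟨A, a, ⟨haX, haA, ha2⟩, ha1⟩ ⟨A', a', ⟨haX', haA', ha2'⟩, ha1'⟩ e
        obtain rfl : a = a' := congrArg Subtype.val e
        by_cases hAA' : A = A'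
        · subst hAA'; rfl
        · exact absurd (s.coll_of_fix (fun e => hAA' (Subtype.ext e)) haX.1 ha2 ha1 haA haA') (hsep A A' hAA')
      have h := Nat.card_le_card_of_injective φ hφ
      haveI : ∀ A : O, Finite (JA A) := fun A => Subtype.finite
      rw [Nat.card_sigma, Finset.sum_congr rfl (fun A _ => hJ A), Finset.sum_const, Finset.card_univ,
        smul_eq_mul, Nat.card_eq_fintype_card] at h
      exact h
    let f : I → O := fun a =>
      ⟨⟨_, a.1, a.2.1.1.1, rfl⟩, a.1, a.2.1.1, rfl⟩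
    have hfib : ∀ A : O, (Finset.univ.filter fun a : I => f a = A).card ≤
        if A = A₀ then q ^ 2 - 1 else q ^ 2 - 2 := by
      intro A
      rw [← Fintype.card_subtype, ← Nat.card_eq_fintype_card]
      split_ifs with hA
      · rw [← hJ A₀]
        haveI : Finite (JA A₀) := Subtype.finite
        refine Nat.card_le_card_of_injective (fun a => ⟨a.1.1, ⟨a.1.2.1.1, ?_, a.1.2.1.2⟩, a.1.2.2⟩)
          fun a a' e => Subtype.ext (Subtype.ext (congrArg (fun w : JA A₀ => w.1) e))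
        have e : cjg a.1.1 D.one.V = A₀.1.1 := hA ▸ congrArg (fun w : O => w.1.1) a.2
        show cjg a.1.1 D.one.V = D.one.V
        exact e
      · have hne' : A.1.1 ≠ D.one.V := fun e => hA (Subtype.ext (Subtype.ext e))
        refine le_trans ?_ (s.fibre_bound hB (fun B' hB' hlt => IH B' hlt hB' (ne_bot_of_gt hlt))
          (A := A.1.1) (hsep A₀ A (Ne.symm hA)) hne')
        exact Nat.card_le_card_of_injective (fun a => ⟨a.1.1, a.1.2.1.1.1, a.1.2.1.2,
          ((hX _).1 a.1.2.1.1).2, congrArg (fun w : O => w.1.1) a.2⟩)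
          fun a a' e => Subtype.ext (Subtype.ext (congrArg (fun w => w.1) e))
    have hup : Fintype.card I ≤ (q ^ 2 - 1) + (Fintype.card O - 1) * (q ^ 2 - 2) := by
      rw [← Finset.card_univ, Finset.card_eq_sum_card_fiberwise (f := f) (t := Finset.univ)
        fun a _ => Finset.mem_univ _, ← Finset.add_sum_erase _ _ (Finset.mem_univ A₀)]
      refine Nat.add_le_add ((hfib A₀).trans (le_of_eq (if_pos rfl))) ?_
      refine (Finset.sum_le_sum fun A hA => (hfib A).trans (le_of_eq (if_neg (Finset.ne_of_mem_erase hA)))).trans ?_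
      rw [Finset.sum_const, Finset.card_erase_of_mem (Finset.mem_univ _), Finset.card_univ, smul_eq_mul]
    have hm : Fintype.card O ≤ 1 := by
      obtain ⟨m, hm⟩ : ∃ m, Fintype.card O = m + 1 := ⟨Fintype.card O - 1,
        (Nat.succ_pred_eq_of_pos (Fintype.card_pos_iff.2 ⟨A₀⟩)).symm⟩
      obtain ⟨r, hr⟩ : ∃ r, q ^ 2 = r + 2 := ⟨q ^ 2 - 2, by
        have : 2 ≤ q ^ 2 := by have := s.card; nlinarith
        omega⟩
      rw [hm, hr] at hlow
      rw [hm, hr] at hup
      simp only [show r + 2 - 1 = r + 1 by omega, show r + 2 - 2 = r by omega, Nat.add_sub_cancel] at hlow hup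
      have := hlow.trans hup
      rw [hm]
      nlinarith
    have e := Fintype.card_le_one_iff.1 hm ⟨⟨_, x, hxH, rfl⟩, x, (hX x).2 ⟨hxH, hxB⟩, rfl⟩ A₀
    exact ⟨hxH, cjg_eq_iff.1 (congrArg (fun w : O => w.1.1) e)⟩

/-- the standard point shares a line with `q (q + 1)` others -/
theorem card_coll : (Fintype.card F + 1) * Fintype.card F ≤
    Nat.card {A : Pt D H // A.1 ≠ D.one.V ∧ Collinear' D H D.one.V A.1} := by
  classical
  set q := Fintype.card F
  let Lns := {l : Pt D.swap H // Inc D.one.V l.1}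
  haveI : Fintype Lns := Fintype.ofFinite _
  let A₀ : Pt D H := ⟨_, 1, one_mem H, (cjg_one _).symm⟩
  have hon : ∀ l : Lns, Nat.card {A : Pt D H // Inc A.1 l.1.1 ∧ A.1 ≠ D.one.V} = q := by
    intro l
    obtain ⟨c, hc, el⟩ := s.line_through l.2
    have hcH : c ∈ H := s.L1 hc
    have hcV : cjg c D.one.V = D.one.V := cjg_eq_iff.2 (D.one.L_le_norm hc)
    have hciV : cjg c⁻¹ D.one.V = D.one.V := cjg_eq_iff.2 (inv_mem (D.one.L_le_norm hc))
    let S := {A : Pt D H // Inc D.two.V A.1}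
    haveI : Fintype S := Fintype.ofFinite S
    have hS : Nat.card S = q + 1 := s.swap.card_lines
    let A₁ : S := ⟨A₀, ⟨D.one.v 1 0, fun e => one_ne_zero (D.one.v_eq_one.1 e).1, D.z_mem2 1, D.one.v_mem 1 0⟩⟩
    have e : Nat.card {A : Pt D H // Inc A.1 l.1.1 ∧ A.1 ≠ D.one.V} = Nat.card {A : S // A ≠ A₁} := by
      refine Nat.card_congr
        { toFun := fun A => ⟨⟨⟨cjg c⁻¹ A.1.1, ?_⟩, ?_⟩, ?_⟩
          invFun := fun A => ⟨⟨cjg c A.1.1.1, ?_⟩, ?_, ?_⟩
          left_inv := fun A => Subtype.ext (Subtype.ext (by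
            show cjg c (cjg c⁻¹ A.1.1) = _
            rw [← cjg_mul, mul_inv_cancel, cjg_one]))
          right_inv := fun A => Subtype.ext (Subtype.ext (Subtype.ext (by
            show cjg c⁻¹ (cjg c A.1.1.1) = _
            rw [← cjg_mul, inv_mul_cancel, cjg_one]))) }
      · obtain ⟨g, hg, e⟩ := A.1.2
        exact ⟨c⁻¹ * g, mul_mem (inv_mem hcH) hg, by rw [e, ← cjg_mul]⟩
      · have := ((congrArg (Inc A.1.1) el).mp A.2.1).cjg c⁻¹
        rw [← cjg_mul c⁻¹ c, inv_mul_cancel, cjg_one] at this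
        exact this.symm
      · intro h
        refine A.2.2 ?_
        have h' : cjg c⁻¹ A.1.1 = D.one.V := congrArg (fun w : S => w.1.1) h
        rw [show A.1.1 = cjg c (cjg c⁻¹ A.1.1) by rw [← cjg_mul, mul_inv_cancel, cjg_one], h', hcV]
      · obtain ⟨g, hg, e⟩ := A.1.1.2
        exact ⟨c * g, mul_mem hcH hg, by rw [e, ← cjg_mul]⟩
      · have := (A.1.2.cjg c).symm
        rwa [← el] at this
      · intro h
        refine A.2 (Subtype.ext (Subtype.ext ?_))
        show A.1.1.1 = D.one.V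
        have h' : cjg c A.1.1.1 = D.one.V := h
        rw [show A.1.1.1 = cjg c⁻¹ (cjg c A.1.1.1) by rw [← cjg_mul, inv_mul_cancel, cjg_one], h', hciV]
    rw [e, Nat.card_eq_fintype_card, Fintype.card_subtype_compl, Fintype.card_subtype_eq,
      ← Nat.card_eq_fintype_card, hS, Nat.add_sub_cancel]
  let φ : (Σ l : Lns, {A : Pt D H // Inc A.1 l.1.1 ∧ A.1 ≠ D.one.V}) →
      {A : Pt D H // A.1 ≠ D.one.V ∧ Collinear' D H D.one.V A.1} :=
    fun p => ⟨p.2.1, p.2.2.2, p.1.1, p.1.2, p.2.2.1⟩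
  have hφ : Function.Injective φ := by
    rintro ⟨l, A, hA, hne⟩ ⟨l', A', hA', hne'⟩ e
    obtain rfl : A = A' := congrArg Subtype.val e
    obtain rfl : l = l' := Subtype.ext (s.two_lines (A := A₀) (B := A)
      (fun e => hne (congrArg Subtype.val e).symm) l.2 hA l'.2 hA')
    rfl
  have h := Nat.card_le_card_of_injective φ hφ
  rw [Nat.card_sigma, Finset.sum_congr rfl (fun l _ => hon l), Finset.sum_const, Finset.card_univ,
    smul_eq_mul, ← Nat.card_eq_fintype_card, s.card_lines] at h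
  exact h

/-- the involutions moving the standard point along a line -/
theorem card_moving :
    Nat.card {a : G // a ∈ H ∧ a * a = 1 ∧ cjg a D.one.V ≠ D.one.V ∧
      Collinear' D H D.one.V (cjg a D.one.V)} ≤
      (Fintype.card F + 1) * (Fintype.card F ^ 2 * (Fintype.card F - 1)) := by
  classical
  set q := Fintype.card F
  let A₀ : Pt D H := ⟨_, 1, one_mem H, (cjg_one _).symm⟩
  let Lns := {l : Pt D.swap H // Inc D.one.V l.1}
  haveI : Fintype Lns := Fintype.ofFinite _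
  let T := {a : G // a ∈ H ∧ a * a = 1 ∧ cjg a D.one.V ≠ D.one.V ∧ Collinear' D H D.one.V (cjg a D.one.V)}
  let M2 := {a : G // a ∈ D.two.L ∧ a * a = 1 ∧ a ∉ normalizer (D.one.V : Set G)}
  choose l hl1 hl2 using fun a : T => a.2.2.2.2
  choose c hc el using fun l : Lns => s.line_through l.2
  let lns : T → Lns := fun a => ⟨l a, hl1 a⟩
  have hfix : ∀ a : T, cjg a.1 (l a).1 = (l a).1 := fun a => by
    obtain ⟨k, hk, e⟩ := (l a).2
    have h1 : Inc D.one.V (cjg a.1 (l a).1) := by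
      have := (hl2 a).cjg a.1
      rwa [← cjg_mul, a.2.2.1, cjg_one] at this
    have h2 : Inc (cjg a.1 D.one.V) (cjg a.1 (l a).1) := (hl1 a).cjg a.1
    exact congrArg Subtype.val (s.two_lines (A := A₀) (B := ⟨_, a.1, a.2.1, rfl⟩)
      (l := ⟨cjg a.1 (l a).1, a.1 * k, mul_mem a.2.1 hk, by rw [e, ← cjg_mul]⟩) (m := l a)
      (fun e => a.2.2.2.1 (congrArg Subtype.val e).symm) h1 h2 (hl1 a) (hl2 a))
  have hmem : ∀ a : T, (c (lns a))⁻¹ * a.1 * c (lns a) ∈ D.two.L ∧
      ((c (lns a))⁻¹ * a.1 * c (lns a)) * ((c (lns a))⁻¹ * a.1 * c (lns a)) = 1 ∧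
      (c (lns a))⁻¹ * a.1 * c (lns a) ∉ normalizer (D.one.V : Set G) := fun a => by
    set k := c (lns a)
    have hk : k ∈ D.one.L := hc (lns a)
    have h2 : k⁻¹ * a.1 * k * (k⁻¹ * a.1 * k) = 1 := by
      rw [show k⁻¹ * a.1 * k * (k⁻¹ * a.1 * k) = k⁻¹ * (a.1 * a.1) * k by group, a.2.2.1, mul_one, inv_mul_cancel]
    refine ⟨(s.swap.invol_fix (mul_mem (mul_mem (inv_mem (s.L1 hk)) a.2.1) (s.L1 hk)) h2 (cjg_eq_iff.1 ?_)).1,
      h2, fun hn => a.2.2.2.1 ?_⟩
    · show cjg (k⁻¹ * a.1 * k) D.two.V = D.two.V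
      rw [cjg_mul, show cjg k D.two.V = (l a).1 from (el (lns a)).symm, cjg_mul, hfix,
        show (l a).1 = cjg k D.two.V from el (lns a), ← cjg_mul, inv_mul_cancel, cjg_one]
    · rw [show a.1 = k * (k⁻¹ * a.1 * k) * k⁻¹ by group, cjg_mul,
        cjg_eq_iff.2 (inv_mem (D.one.L_le_norm hk)), cjg_mul, cjg_eq_iff.2 hn,
        cjg_eq_iff.2 (D.one.L_le_norm hk)]
  let φ : T → Lns × M2 := fun a => (lns a, ⟨_, hmem a⟩)
  have hφ : Function.Injective φ := fun a a' e => by
    obtain ⟨e1, e2⟩ := Prod.ext_iff.1 e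
    have e1' : lns a = lns a' := e1
    have e2' := congrArg Subtype.val e2
    simp only [φ, e1'] at e2'
    exact Subtype.ext (mul_left_cancel (mul_right_cancel e2'))
  refine (Nat.card_le_card_of_injective φ hφ).trans ?_
  rw [Nat.card_prod, s.card_lines]
  exact Nat.mul_le_mul_left _ (Duo.card_invol_moving D)

/-- the standard point shares a line with every other point -/
theorem hall_one (A : Pt D H) (hA : A.1 ≠ D.one.V) : Collinear' D H D.one.V A.1 := by
  classical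
  by_contra hcon
  set q := Fintype.card F
  haveI : Fintype (Pt D H) := Fintype.ofFinite _
  let A₀ : Pt D H := ⟨_, 1, one_mem H, (cjg_one _).symm⟩
  let I := {a : G // (a ∈ H ∧ a * a = 1) ∧ a ≠ 1}
  haveI : Fintype I := Fintype.ofFinite I
  have hlow : Fintype.card (Pt D H) * (q ^ 2 - 1) ≤ Fintype.card I := by
    let φ : (Σ A : Pt D H, {a : ↥A.1 // a ≠ 1}) → I := fun p =>
      ⟨p.2.1, ⟨s.pt_le _ p.2.1.2, s.pt_sq _ p.2.1.2⟩, fun e => p.2.2 (Subtype.ext e)⟩
    have hφ : Function.Injective φ := by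
      rintro ⟨A, ⟨a, ha⟩, ha1⟩ ⟨A', ⟨a', ha'⟩, ha1'⟩ e
      obtain rfl : a = a' := congrArg Subtype.val e
      obtain rfl : A = A' := s.Pt_eq (fun e => ha1 (Subtype.ext e)) ha ha'
      rfl
    have hcard : ∀ A : Pt D H, Nat.card {a : ↥A.1 // a ≠ 1} = q ^ 2 - 1 := fun A => by
      obtain ⟨g, -, e⟩ := A.2
      have h1 : Nat.card ↥A.1 = q ^ 2 := by rw [e, card_cjg, D.one.card_V, Nat.card_eq_fintype_card]
      haveI : Fintype ↥A.1 := Fintype.ofFinite _
      rw [Nat.card_eq_fintype_card (α := {a : ↥A.1 // a ≠ 1}), Fintype.card_subtype_compl,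
        Fintype.card_subtype_eq, ← Nat.card_eq_fintype_card, h1]
    have h := Nat.card_le_card_of_injective φ hφ
    rw [Nat.card_sigma, Finset.sum_congr rfl (fun A _ => hcard A), Finset.sum_const, Finset.card_univ,
      smul_eq_mul, Nat.card_eq_fintype_card] at h
    exact h
  let f : I → Pt D H := fun a => ⟨_, a.1, a.2.1.1, rfl⟩
  set C := Finset.univ.filter fun B : Pt D H => B.1 ≠ D.one.V ∧ Collinear' D H D.one.V B.1
  set R := Finset.univ.filter fun B : Pt D H => B.1 ≠ D.one.V ∧ ¬ Collinear' D H D.one.V B.1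
  have hsplit : Fintype.card (Pt D H) = 1 + C.card + R.card := by
    have h1 := Finset.card_filter_add_card_filter_not (s := Finset.univ) (fun B : Pt D H => B.1 = D.one.V)
    have h2 := Finset.card_filter_add_card_filter_not
      (s := Finset.univ.filter fun B : Pt D H => ¬ B.1 = D.one.V) (fun B : Pt D H => Collinear' D H D.one.V B.1)
    rw [Finset.filter_filter, Finset.filter_filter] at h2
    have h3 : (Finset.univ.filter fun B : Pt D H => B.1 = D.one.V).card = 1 :=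
      Finset.card_eq_one.2 ⟨A₀, Finset.ext fun B => by
        simp only [Finset.mem_filter, Finset.mem_univ, true_and, Finset.mem_singleton]
        exact ⟨fun e => Subtype.ext e, fun e => e ▸ rfl⟩⟩
    rw [← Finset.card_univ, ← h1, h3, ← h2, add_assoc]
  have hC : (q + 1) * q ≤ C.card := by
    have := s.card_coll
    rwa [Nat.card_eq_fintype_card, Fintype.card_subtype] at this
  -- the involutions fixing the point, moving it along a line, or off
  let P0 := Finset.univ.filter fun a : I => cjg a.1 D.one.V = D.one.V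
  let P1 := Finset.univ.filter fun a : I =>
    cjg a.1 D.one.V ≠ D.one.V ∧ Collinear' D H D.one.V (cjg a.1 D.one.V)
  let P2 := Finset.univ.filter fun a : I =>
    cjg a.1 D.one.V ≠ D.one.V ∧ ¬ Collinear' D H D.one.V (cjg a.1 D.one.V)
  have hI : Fintype.card I = P0.card + P1.card + P2.card := by
    have h1 := Finset.card_filter_add_card_filter_not (s := Finset.univ) (fun a : I => cjg a.1 D.one.V = D.one.V)
    have h2 := Finset.card_filter_add_card_filter_not
      (s := Finset.univ.filter fun a : I => ¬ cjg a.1 D.one.V = D.one.V)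
      (fun a : I => Collinear' D H D.one.V (cjg a.1 D.one.V))
    rw [Finset.filter_filter, Finset.filter_filter] at h2
    rw [← Finset.card_univ, ← h1, ← h2, add_assoc]
  have hP0 : P0.card + 1 ≤ q ^ 2 + (q ^ 2 - 1) * q := by
    let W := {a : G // a ∈ D.one.L ∧ a * a = 1}
    haveI : Fintype W := Fintype.ofFinite W
    have hW : Fintype.card W ≤ q ^ 2 + (q ^ 2 - 1) * q := by
      rw [← Nat.card_eq_fintype_card]; exact D.one.card_invol_le
    refine le_trans ?_ hW
    rw [← Fintype.card_subtype, Nat.add_one_le_iff]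
    refine Fintype.card_lt_of_injective_of_notMem
      (fun a => (⟨a.1.1, (s.invol_fix a.1.2.1.1 a.1.2.1.2 (cjg_eq_iff.1 a.2)).1, a.1.2.1.2⟩ : W))
      (fun a a' e => Subtype.ext (Subtype.ext (congrArg (fun w : W => w.1) e)))
      (b := ⟨1, one_mem _, one_mul 1⟩) ?_
    rintro ⟨a, e⟩
    exact a.1.2.2 (congrArg (fun w : W => w.1) e)
  have hP1 : P1.card ≤ (q + 1) * (q ^ 2 * (q - 1)) := by
    refine le_trans ?_ s.card_moving
    rw [← Fintype.card_subtype, ← Nat.card_eq_fintype_card]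
    exact Nat.card_le_card_of_injective (fun a => ⟨a.1.1, a.1.2.1.1, a.1.2.1.2, a.2.1, a.2.2⟩)
      fun a a' e => Subtype.ext (Subtype.ext (congrArg (fun w => w.1) e))
  have hP2 : P2.card ≤ (q ^ 2 - 2) * R.card := by
    refine (Finset.card_le_mul_card_image (f := f) P2 (q ^ 2 - 2) fun B hB => ?_).trans
      (Nat.mul_le_mul_left _ (Finset.card_le_card fun B hB => ?_))
    · obtain ⟨a, ha, rfl⟩ := Finset.mem_image.1 hB
      obtain ⟨-, ha1, ha2⟩ := Finset.mem_filter.1 ha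
      refine le_trans ?_ (s.fibre_bound (B := ⊥)
        ⟨bot_le, by rw [Subgroup.card_bot]; exact odd_one⟩
        (fun B' hB' hlt => s.good B' hB' (ne_bot_of_gt hlt)) ha2 ha1)
      rw [Finset.filter_filter, ← Fintype.card_subtype, ← Nat.card_eq_fintype_card]
      exact Nat.card_le_card_of_injective (fun b => ⟨b.1.1, b.1.2.1.1, b.1.2.1.2,
        fun c hc => by rw [mem_bot.1 hc, mul_one, one_mul],
        congrArg Subtype.val b.2.2⟩)
        fun b b' e => Subtype.ext (Subtype.ext (congrArg (fun w => w.1) e))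
    · obtain ⟨a, ha, rfl⟩ := Finset.mem_image.1 hB
      obtain ⟨-, ha1, ha2⟩ := Finset.mem_filter.1 ha
      exact Finset.mem_filter.2 ⟨Finset.mem_univ _, ha1, ha2⟩
  have hR : 0 < R.card := Finset.card_pos.2 ⟨A, Finset.mem_filter.2 ⟨Finset.mem_univ _, hA, hcon⟩⟩
  rw [hsplit, hI] at hlow
  obtain ⟨r, hr⟩ : ∃ r, q = r + 8 := ⟨q - 8, by have := s.card; omega⟩
  have hq2 : q ^ 2 = (q ^ 2 - 2) + 2 := by
    have : 2 ≤ q ^ 2 := by rw [hr]; nlinarith
    omega
  have e1 : q ^ 2 - 1 = (q ^ 2 - 2) + 1 := by omega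
  have e2 : q - 1 = r + 7 := by omega
  rw [e1] at hP0 hlow
  rw [e2] at hP1
  set t := q ^ 2 - 2
  have hC' : (q + 1) * q * (t + 1) ≤ C.card * (t + 1) := Nat.mul_le_mul_right _ hC
  have ht : t = r ^ 2 + 16 * r + 62 := by
    have : t + 2 = (r + 8) ^ 2 := by rw [← hr]; exact hq2.symm
    nlinarith
  have key : (t + 2) + (t + 1) * q + (q + 1) * (q ^ 2 * (r + 7)) = 1 + (t + 1) * (1 + (q + 1) * q) := by
    rw [hr, ht]; ring
  rw [hq2] at hP0
  have A1 : (1 + C.card + R.card) * (t + 1) = (t + 1) + C.card * (t + 1) + t * R.card + R.card := by ring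
  have A2 : (t + 1) * (1 + (q + 1) * q) = (t + 1) + (q + 1) * q * (t + 1) := by ring
  linarith

/-- **all points are collinear** -/
theorem hall (A B : Pt D H) : Collinear' D H A.1 B.1 := by
  obtain ⟨A, g, hg, rfl⟩ := A
  obtain ⟨B, g', hg', rfl⟩ := B
  have key : ∀ k ∈ H, Collinear' D H D.one.V (cjg k D.one.V) := by
    intro k hk
    by_cases e : cjg k D.one.V = D.one.V
    · have hi : Inc D.one.V D.two.V :=
        ⟨D.one.v 1 0, fun e => one_ne_zero (D.one.v_eq_one.1 e).1, D.one.v_mem 1 0, D.z_mem2 1⟩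
      rw [e]
      exact ⟨⟨D.two.V, 1, one_mem H, (cjg_one _).symm⟩, hi, hi⟩
    · exact s.hall_one ⟨_, k, hk, rfl⟩ e
  obtain ⟨l, h1, h2⟩ := key (g⁻¹ * g') (mul_mem (inv_mem hg) hg')
  obtain ⟨l, k, hk, rfl⟩ := l
  refine ⟨⟨_, g * k, mul_mem hg hk, rfl⟩, ?_, ?_⟩
  · show Inc (cjg g D.one.V) (cjg (g * k) D.swap.one.V)
    rw [cjg_mul]; exact h1.cjg g
  · show Inc (cjg g' D.one.V) (cjg (g * k) D.swap.one.V)
    rw [cjg_mul]
    have := h2.cjg g
    rwa [← cjg_mul, mul_inv_cancel_left] at this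

end Sub

end Cfsg.Lib.LTP
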