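import Cfsg.Agent.LThreePlane.Blk

/-!
# Two blocks sharing a Sylow subgroup, in common coordinates
-/

set_option autoImplicit false

namespace Cfsg.Lib.LTP

open Subgroup

variable (F : Type*) [Field F] (G : Type*) [Group G]

/-- two blocks in common coordinates -/
structure Duo where
  /-- the first block -/
  one : Blk F G
  /-- the second block -/
  two : Blk F G
  h21 : two.V ≤ one.L
  h12 : one.V ≤ two.L
  hz : ∀ z, one.v z 0 = two.v z 0
  up1 : ∀ z x, one.π ⟨two.v z x, h21 (two.v_mem z x)⟩ = up x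
  up2 : ∀ z y, two.π ⟨one.v z y, h12 (one.v_mem z y)⟩ = up y

variable {F G}

namespace Duo

variable (D : Duo F G)

/-- exchanging the blocks -/
def swap : Duo F G where
  one := D.two
  two := D.one
  h21 := D.h12
  h12 := D.h21
  hz z := (D.hz z).symm
  up1 := D.up2
  up2 := D.up1

/-- an element of the common subgroup -/
def j (z y x : F) : G := D.one.v z y * D.two.v 0 x

theorem move (z y x : F) : D.two.v 0 x * D.one.v z y = D.one.v (z + x * y) y * D.two.v 0 x := by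
  have h := D.one.act_up (D.h21 (D.two.v_mem 0 x)) (D.up1 0 x) z y
  rw [← h, inv_mul_cancel_right]

theorem j_mul (z y x z' y' x' : F) :
    D.j z y x * D.j z' y' x' = D.j (z + z' + x * y') (y + y') (x + x') := by
  have e : D.two.v 0 x * D.two.v 0 x' = D.two.v 0 (x + x') := by rw [← D.two.v_add, add_zero]
  simp only [j]
  rw [mul_assoc, ← mul_assoc (D.two.v 0 x), D.move, mul_assoc, e, ← mul_assoc, ← D.one.v_add,
    ← add_assoc]

theorem j_zero : D.j 0 0 0 = 1 := by simp [j, D.one.v_zero, D.two.v_zero]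

theorem j_inj {z y x z' y' x' : F} (h : D.j z y x = D.j z' y' x') : z = z' ∧ y = y' ∧ x = x' := by
  have hm : ∀ a b c, ∃ hl : D.j a b c ∈ D.one.L, D.one.π ⟨D.j a b c, hl⟩ = up c := fun a b c =>
    ⟨mul_mem (D.one.v_memL a b) (D.h21 (D.two.v_mem 0 c)), by
      show D.one.π ⟨D.one.v a b * D.two.v 0 c, _⟩ = _
      rw [D.one.π_mul (D.one.v_memL a b) (D.h21 (D.two.v_mem 0 c)), D.one.π_v, one_mul, D.up1]⟩
  obtain ⟨h1, e1⟩ := hm z y x
  obtain ⟨h2, e2⟩ := hm z' y' x'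
  have hx : x = x' := up_inj (by
    rw [← e1, ← e2]
    exact congrArg D.one.π (Subtype.ext h))
  subst hx
  have h3 : D.one.v z y = D.one.v z' y' := mul_right_cancel h
  exact ⟨(D.one.v_inj _ _ _ _ h3).1, (D.one.v_inj _ _ _ _ h3).2, rfl⟩

variable [CharP F 2]

theorem j_sq (z y x : F) : D.j z y x * D.j z y x = D.j (x * y) 0 0 := by
  rw [D.j_mul, CharTwo.add_self_eq_zero, CharTwo.add_self_eq_zero, CharTwo.add_self_eq_zero, zero_add]

/-- the common subgroup -/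
def J : Subgroup G where
  carrier := {g | ∃ z y x, g = D.j z y x}
  one_mem' := ⟨0, 0, 0, D.j_zero.symm⟩
  mul_mem' := by
    rintro _ _ ⟨z, y, x, rfl⟩ ⟨z', y', x', rfl⟩
    exact ⟨_, _, _, D.j_mul ..⟩
  inv_mem' := by
    rintro _ ⟨z, y, x, rfl⟩
    refine ⟨z + x * y, y, x, inv_eq_of_mul_eq_one_right ?_⟩
    rw [D.j_mul, CharTwo.add_self_eq_zero y, CharTwo.add_self_eq_zero x, ← D.j_zero]
    congr 1
    linear_combination (z + x * y) * CharTwo.two_eq_zero (R := F)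

theorem j_mem (z y x : F) : D.j z y x ∈ D.J := ⟨z, y, x, rfl⟩

theorem one_eq_j (z y : F) : D.one.v z y = D.j z y 0 := by simp [j, D.two.v_zero]

theorem two_eq_j (z x : F) : D.two.v z x = D.j z 0 x := by
  rw [j, D.hz, ← D.two.v_add, add_zero, zero_add]

theorem V1_le_J : D.one.V ≤ D.J := fun g hg => by
  obtain ⟨z, y, rfl⟩ := (D.one.mem_V g).1 hg
  exact ⟨z, y, 0, D.one_eq_j z y⟩

theorem V2_le_J : D.two.V ≤ D.J := fun g hg => by
  obtain ⟨z, x, rfl⟩ := (D.two.mem_V g).1 hg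
  exact ⟨z, 0, x, D.two_eq_j z x⟩

theorem J_eq_sup : D.J = D.one.V ⊔ D.two.V := by
  refine le_antisymm ?_ (sup_le D.V1_le_J D.V2_le_J)
  rintro _ ⟨z, y, x, rfl⟩
  exact mul_mem (mem_sup_left (D.one.v_mem z y)) (mem_sup_right (D.two.v_mem 0 x))

theorem J_swap : D.swap.J = D.J := by rw [J_eq_sup, J_eq_sup, sup_comm]; rfl

theorem J_le_L1 : D.J ≤ D.one.L := by rw [J_eq_sup]; exact sup_le D.one.vle D.h21

theorem J_le_L2 : D.J ≤ D.two.L := by rw [J_eq_sup]; exact sup_le D.h12 D.two.vle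

theorem π1_j (z y x : F) : D.one.π ⟨D.j z y x, D.J_le_L1 (D.j_mem z y x)⟩ = up x := by
  show D.one.π ⟨D.one.v z y * D.two.v 0 x, _⟩ = _
  rw [D.one.π_mul (D.one.v_memL z y) (D.h21 (D.two.v_mem 0 x)), D.one.π_v, one_mul, D.up1]

/-- the common subgroup is the preimage of the upper root group -/
theorem mem_J_iff {g : G} : g ∈ D.J ↔ ∃ hl : g ∈ D.one.L, D.one.π ⟨g, hl⟩ ∈ upGroup F := by
  constructor
  · rintro ⟨z, y, x, rfl⟩
    exact ⟨D.J_le_L1 (D.j_mem z y x), by rw [D.π1_j]; exact up_mem x⟩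
  · rintro ⟨hl, h⟩
    obtain ⟨x, hx⟩ := mem_upGroup.1 h
    have h2 : D.one.π ⟨g, hl⟩ = D.one.π ⟨D.two.v 0 x, D.h21 (D.two.v_mem 0 x)⟩ := by rw [hx, D.up1]
    have h3 := D.one.mem_of_π_eq hl (D.h21 (D.two.v_mem 0 x)) h2
    have h4 := D.J.mul_mem (D.V2_le_J (D.two.v_mem 0 x)) (inv_mem (D.V1_le_J h3))
    simpa using h4

theorem sq_cases {g : G} (hg : g ∈ D.J) (h2 : g * g = 1) : g ∈ D.one.V ∨ g ∈ D.two.V := by
  obtain ⟨z, y, x, rfl⟩ := hg
  rw [D.j_sq, ← D.j_zero] at h2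
  rcases mul_eq_zero.1 (D.j_inj h2).1 with rfl | rfl
  · exact Or.inl (by rw [← D.one_eq_j]; exact D.one.v_mem z y)
  · exact Or.inr (by rw [← D.two_eq_j]; exact D.two.v_mem z x)

theorem elem_le {A : Subgroup G} (hA : A ≤ D.J) (hsq : ∀ a ∈ A, a * a = 1) :
    A ≤ D.one.V ∨ A ≤ D.two.V := by
  by_contra h
  push Not at h
  obtain ⟨a, ha, ha1⟩ := SetLike.not_le_iff_exists.1 h.1
  obtain ⟨b, hb, hb2⟩ := SetLike.not_le_iff_exists.1 h.2
  have ha2 := (D.sq_cases (hA ha) (hsq a ha)).resolve_left ha1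
  have hb1 := (D.sq_cases (hA hb) (hsq b hb)).resolve_right hb2
  rcases D.sq_cases (hA (mul_mem ha hb)) (hsq _ (mul_mem ha hb)) with h1 | h1
  · exact ha1 (by simpa using D.one.V.mul_mem h1 (inv_mem hb1))
  · exact hb2 (by simpa using D.two.V.mul_mem (inv_mem ha2) h1)

theorem card_J : Nat.card ↥D.J = Nat.card F ^ 3 := by
  rw [show Nat.card F ^ 3 = Nat.card (F × F × F) by simp [Nat.card_prod, pow_three]]
  exact (Nat.card_congr (Equiv.ofBijective
    (fun p : F × F × F => (⟨D.j p.1 p.2.1 p.2.2, D.j_mem _ _ _⟩ : ↥D.J))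
    ⟨fun p p' h => by
      obtain ⟨h1, h2, h3⟩ := D.j_inj (congrArg Subtype.val h)
      exact Prod.ext h1 (Prod.ext h2 h3),
    fun g => by
      obtain ⟨z, y, x, h⟩ := g.2
      exact ⟨(z, y, x), Subtype.ext h.symm⟩⟩)).symm

theorem J_two : IsPGroup 2 ↥D.J := fun g => ⟨2, Subtype.ext (by
  obtain ⟨z, y, x, h⟩ := g.2
  show (g : G) ^ 4 = 1
  rw [show (4 : ℕ) = 2 * 2 from rfl, pow_mul, pow_two, pow_two, h, D.j_sq, D.j_sq, mul_zero, D.j_zero])⟩

theorem commute_j (z y x z' y' x' : F) :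
    D.j z y x * D.j z' y' x' = D.j z' y' x' * D.j z y x ↔ x * y' = x' * y := by
  rw [D.j_mul, D.j_mul]
  constructor
  · intro h
    have h1 := (D.j_inj h).1
    linear_combination h1
  · intro h
    rw [add_comm z' z, add_comm y' y, add_comm x' x, h]

theorem center_mem {g : G} (hg : g ∈ D.J) (h1 : ∀ a ∈ D.one.V, g * a = a * g)
    (h2 : ∀ a ∈ D.two.V, g * a = a * g) : ∃ z, g = D.one.v z 0 := by
  obtain ⟨z, y, x, rfl⟩ := hg
  have hx := h1 _ (D.one.v_mem 0 1)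
  rw [D.one_eq_j, D.commute_j] at hx
  have hy := h2 _ (D.two.v_mem 0 1)
  rw [D.two_eq_j, D.commute_j] at hy
  simp at hx hy
  subst hx; subst hy
  exact ⟨z, (D.one_eq_j z 0).symm⟩

theorem inter_eq {g : G} (h1 : g ∈ D.one.V) (h2 : g ∈ D.two.V) : ∃ z, g = D.one.v z 0 :=
  D.center_mem (D.V1_le_J h1) (fun _ ha => D.one.comm_V h1 ha) (fun _ ha => D.two.comm_V h2 ha)

theorem z_mem2 (z : F) : D.one.v z 0 ∈ D.two.V := D.hz z ▸ D.two.v_mem z 0

theorem z_central (z : F) {g : G} (hg : g ∈ D.J) : D.one.v z 0 * g = g * D.one.v z 0 := by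
  obtain ⟨a, b, c, rfl⟩ := hg
  rw [D.one_eq_j, D.commute_j]
  simp

theorem V1_not_le_V2 : ¬ D.one.V ≤ D.two.V := fun h => by
  obtain ⟨z, hz⟩ := D.inter_eq (D.one.v_mem 0 1) (h (D.one.v_mem 0 1))
  exact one_ne_zero (D.one.v_inj _ _ _ _ hz).2

theorem V1_ne_V2 : D.one.V ≠ D.two.V := fun h => D.V1_not_le_V2 h.le

end Duo

end Cfsg.Lib.LTP
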