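import Cfsg.Agent.LThreePlane.BlkMore
import Cfsg.Agent.Known.FieldAutLight

/-!
# Involutory automorphisms of a finite field of characteristic two
-/

set_option autoImplicit false

namespace Cfsg.Lib.LTP

variable {F : Type*} [Field F] [Fintype F] [CharP F 2]

instance finite_ringAut : Finite (F ≃+* F) :=
  Finite.of_injective (fun e => (e : F → F)) DFunLike.coe_injective

theorem exists_exp : ∃ e, Fintype.card F = 2 ^ e := by
  obtain ⟨n, -, hn⟩ := FiniteField.card F 2
  exact ⟨n, hn⟩

theorem aut_cyclic : IsCyclic (F ≃+* F) := by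
  haveI : Fact (Nat.Prime 2) := ⟨Nat.prime_two⟩
  obtain ⟨e, he⟩ := exists_exp (F := F)
  exact (Cfsg.Lib.Known.FieldLight.ringAut_facts 2 e he).1

theorem aut_card {e : ℕ} (he : Fintype.card F = 2 ^ e) : Nat.card (F ≃+* F) = e := by
  haveI : Fact (Nat.Prime 2) := ⟨Nat.prime_two⟩
  exact (Cfsg.Lib.Known.FieldLight.ringAut_facts 2 e he).2

/-- only one involutory automorphism -/
theorem invol_unique {σ τ : F ≃+* F} (hσ : σ * σ = 1) (hτ : τ * τ = 1) (hσ1 : σ ≠ 1) (hτ1 : τ ≠ 1) :
    σ = τ := by
  classical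
  haveI := aut_cyclic (F := F)
  letI := Fintype.ofFinite (F ≃+* F)
  by_contra hne
  have h : ({1, σ, τ} : Finset (F ≃+* F)) ⊆ Finset.univ.filter (fun a => a ^ 2 = 1) := by
    intro a ha
    simp only [Finset.mem_insert, Finset.mem_singleton] at ha
    rcases ha with rfl | rfl | rfl <;> simp [pow_two, hσ, hτ]
  have h2 := (Finset.card_le_card h).trans (IsCyclic.card_pow_eq_one_le (α := F ≃+* F) (n := 2) (by norm_num))
  rw [Finset.card_insert_of_notMem (by simp [Ne.symm hσ1, Ne.symm hτ1]),
    Finset.card_insert_of_notMem (by simpa using hne), Finset.card_singleton] at h2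
  omega

/-- fixed points of a semilinear map -/
def fixSet (σ : F ≃+* F) (c : F) : Set F := {x | c * σ x = x}

theorem fixSet_sq {σ : F ≃+* F} {c : F} (hσ : σ * σ = 1) (hσ1 : σ ≠ 1) (hc : c * σ c = 1) :
    Nat.card (fixSet σ c) * Nat.card (fixSet σ c) = Fintype.card F ∧
      ∀ x, c * σ x = x → ∃ w, x = w + c * σ w := by
  classical
  have hσσ : ∀ x, σ (σ x) = x := fun x => congrArg (fun f : F ≃+* F => f x) hσ
  have hθ : ∀ x, c * σ (c * σ x) = x := fun x => by
    rw [map_mul, hσσ, ← mul_assoc, hc, one_mul]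
  let θ : F →+ F :=
    { toFun := fun x => x + c * σ x
      map_zero' := by simp
      map_add' := fun a b => by rw [map_add]; ring }
  have hrange : ∀ x, θ x ∈ fixSet σ c := fun x => by
    show c * σ (x + c * σ x) = x + c * σ x
    rw [map_add, mul_add, hθ, add_comm]
  have hker : ∀ x, θ x = 0 ↔ x ∈ fixSet σ c := fun x => by
    show x + c * σ x = 0 ↔ c * σ x = x
    rw [CharTwo.add_eq_zero, eq_comm]
  have hle : Fintype.card F ≤ Nat.card (fixSet σ c) * Nat.card (fixSet σ c) := by
    rw [← Nat.card_eq_fintype_card, ← θ.ker.card_mul_index, AddSubgroup.index_ker]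
    refine Nat.mul_le_mul ?_ ?_
    · exact Nat.card_le_card_of_injective (fun x => (⟨x.1, (hker _).1 x.2⟩ : fixSet σ c))
        fun a b h => Subtype.ext (congrArg (Subtype.val (p := fun y => y ∈ fixSet σ c)) h)
    · exact Nat.card_le_card_of_injective
        (fun x => (⟨x.1, by obtain ⟨w, hw⟩ := x.2; exact hw ▸ hrange w⟩ : fixSet σ c))
        fun a b h => Subtype.ext (congrArg (Subtype.val (p := fun y => y ∈ fixSet σ c)) h)
  obtain ⟨w, hw⟩ : ∃ w, σ w ≠ w := by
    by_contra h
    push Not at h
    exact hσ1 (RingEquiv.ext h)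
  have hinj : Function.Injective (fun p : fixSet σ c × fixSet σ c => (p.1 : F) + w * p.2) := by
    rintro ⟨⟨a, ha⟩, ⟨b, hb⟩⟩ ⟨⟨a', ha'⟩, ⟨b', hb'⟩⟩ h
    simp only at h
    have h1 : (c * σ a) + σ w * (c * σ b) = (c * σ a') + σ w * (c * σ b') := by
      have := congrArg (fun x => c * σ x) h
      simp only [map_add, map_mul] at this
      linear_combination this
    rw [show c * σ a = a from ha, show c * σ b = b from hb, show c * σ a' = a' from ha',
      show c * σ b' = b' from hb'] at h1
    have hb2 : b = b' := by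
      have : (σ w - w) * (b - b') = 0 := by linear_combination h1 - h
      exact sub_eq_zero.1 ((mul_eq_zero.1 this).resolve_left (sub_ne_zero.2 hw))
    subst hb2
    have : a = a' := by linear_combination h
    subst this
    rfl
  have hge : Nat.card (fixSet σ c) * Nat.card (fixSet σ c) ≤ Fintype.card F := by
    rw [← Nat.card_prod, ← Nat.card_eq_fintype_card (α := F)]
    exact Nat.card_le_card_of_injective _ hinj
  refine ⟨le_antisymm hge hle, fun x hx => ?_⟩
  by_contra hno
  push Not at hno
  have hlt : Nat.card θ.range < Nat.card (fixSet σ c) := by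
    letI := Fintype.ofFinite θ.range
    letI := Fintype.ofFinite (fixSet σ c)
    rw [Nat.card_eq_fintype_card, Nat.card_eq_fintype_card]
    refine Fintype.card_lt_of_injective_of_notMem
      (fun y => (⟨y.1, by obtain ⟨w, hw⟩ := y.2; exact hw ▸ hrange w⟩ : fixSet σ c))
      (fun a b h => Subtype.ext (congrArg (Subtype.val (p := fun y => y ∈ fixSet σ c)) h)) (b := ⟨x, hx⟩) ?_
    rintro ⟨⟨y, v, hv⟩, hy⟩
    exact hno v ((congrArg Subtype.val hy).symm.trans hv.symm)
  have hk : Nat.card θ.ker ≤ Nat.card (fixSet σ c) :=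
    Nat.card_le_card_of_injective (fun x => (⟨x.1, (hker _).1 x.2⟩ : fixSet σ c))
      fun a b h => Subtype.ext (congrArg (Subtype.val (p := fun y => y ∈ fixSet σ c)) h)
  have e : Fintype.card F = Nat.card θ.ker * Nat.card θ.range := by
    rw [← Nat.card_eq_fintype_card, ← θ.ker.card_mul_index, AddSubgroup.index_ker]
  have hpos : 0 < Nat.card θ.ker := Nat.card_pos
  have : Fintype.card F < Nat.card (fixSet σ c) * Nat.card (fixSet σ c) := by
    rw [e]
    exact lt_of_lt_of_le (Nat.mul_lt_mul_of_pos_left hlt hpos) (Nat.mul_le_mul_right _ hk)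
  omega

omit [CharP F 2] in
/-- an automorphism fixing the fixed field of an involutory one -/
theorem fixer {σ τ : F ≃+* F} (hσ : σ * σ = 1) (h : ∀ x, σ x = x → τ x = x) : τ = 1 ∨ τ = σ := by
  have hσσ : ∀ x, σ (σ x) = x := fun x => congrArg (fun f : F ≃+* F => f x) hσ
  have hpt : ∀ x, τ x = x ∨ τ x = σ x := fun x => by
    have h1 := h (x + σ x) (by rw [map_add, hσσ, add_comm])
    have h2 := h (x * σ x) (by rw [map_mul, hσσ, mul_comm])
    rw [map_add] at h1
    rw [map_mul] at h2
    have : (τ x - x) * (τ x - σ x) = 0 := by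
      linear_combination τ x * h1 - h2
    rcases mul_eq_zero.1 this with e | e
    · exact Or.inl (sub_eq_zero.1 e)
    · exact Or.inr (sub_eq_zero.1 e)
  by_contra hne
  push Not at hne
  obtain ⟨a, ha⟩ : ∃ a, τ a ≠ a := by
    by_contra hh
    push Not at hh
    exact hne.1 (RingEquiv.ext hh)
  obtain ⟨b, hb⟩ : ∃ b, τ b ≠ σ b := by
    by_contra hh
    push Not at hh
    exact hne.2 (RingEquiv.ext hh)
  have ea := (hpt a).resolve_left ha
  have eb := (hpt b).resolve_right hb
  rcases hpt (a + b) with e | e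
  · rw [map_add, eb] at e
    exact ha (by linear_combination e)
  · rw [map_add, map_add, ea] at e
    exact hb (by linear_combination e)

end Cfsg.Lib.LTP
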