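import Cfsg.Agent.LThreePlane.Duo
import Cfsg.Prelude.Def_Local
import Cfsg.Prelude.Def_CaseTheorems

/-!
# Coordinates for two blocks sharing a Sylow subgroup
-/

set_option autoImplicit false

namespace Cfsg.Lib.LTP

open Subgroup

variable {F : Type*} [Field F] {G : Type*} [Group G]

/-- the block of a natural extension -/
noncomputable def blkOf (L : Subgroup G) (φ : ↥L ⧸ Cfsg.pCore 2 ↥L ≃* SL2 F)
    (ψ : Additive ↥(Cfsg.pCore 2 ↥L) ≃+ (Fin 2 → F))
    (h : ∀ (g : ↥L) (v : ↥(Cfsg.pCore 2 ↥L)),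
      ψ (Additive.ofMul ⟨g * v * g⁻¹, Subgroup.Normal.conj_mem inferInstance (v : ↥L) v.2 g⟩)
        = Matrix.mulVec ((φ (QuotientGroup.mk g) : SL2 F) : Matrix (Fin 2) (Fin 2) F) (ψ (Additive.ofMul v))) :
    Blk F G where
  L := L
  V := (Cfsg.pCore 2 ↥L).map L.subtype
  v z y := (((ψ.symm ![z, y]).toMul : ↥(Cfsg.pCore 2 ↥L)) : ↥L)
  π := φ.toMonoidHom.comp (QuotientGroup.mk' (Cfsg.pCore 2 ↥L))
  vle := map_subtype_le _
  surj := φ.surjective.comp (QuotientGroup.mk'_surjective _)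
  ker := by
    ext l
    rw [MonoidHom.mem_ker, mem_subgroupOf]
    simp only [MonoidHom.comp_apply, MulEquiv.coe_toMonoidHom, QuotientGroup.mk'_apply,
      MulEquiv.map_eq_one_iff, QuotientGroup.eq_one_iff]
    exact ⟨fun h => ⟨l, h, rfl⟩, fun ⟨m, hm, e⟩ => Subtype.ext e ▸ hm⟩
  mem_V g := by
    constructor
    · rintro ⟨l, hl, rfl⟩
      refine ⟨ψ (Additive.ofMul ⟨l, hl⟩) 0, ψ (Additive.ofMul ⟨l, hl⟩) 1, ?_⟩
      rw [show ![ψ (Additive.ofMul (⟨l, hl⟩ : ↥(Cfsg.pCore 2 ↥L))) 0, ψ (Additive.ofMul ⟨l, hl⟩) 1] =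
        ψ (Additive.ofMul ⟨l, hl⟩) by ext i; fin_cases i <;> rfl, AddEquiv.symm_apply_apply]
      rfl
    · rintro ⟨z, y, rfl⟩
      exact ⟨_, ((ψ.symm ![z, y]).toMul).2, rfl⟩
  v_add z y z' y' := by
    rw [show (![z + z', y + y'] : Fin 2 → F) = ![z, y] + ![z', y'] by ext i; fin_cases i <;> simp,
      map_add, toMul_add]
    rfl
  v_inj z y z' y' e := by
    have e1 := ψ.symm.injective (Additive.toMul.injective (Subtype.ext (Subtype.ext e)))
    exact ⟨congrFun e1 0, congrFun e1 1⟩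
  act l hl z y := by
    set w := (ψ.symm ![z, y]).toMul
    have h1 := h ⟨l, hl⟩ w
    have h2 : ψ (Additive.ofMul w) = ![z, y] := by simp [w]
    rw [h2] at h1
    rw [show (l : G) * ((w : ↥L) : G) * l⁻¹ = (((⟨⟨l, hl⟩ * w * ⟨l, hl⟩⁻¹,
      Subgroup.Normal.conj_mem inferInstance (w : ↥L) w.2 ⟨l, hl⟩⟩ : ↥(Cfsg.pCore 2 ↥L)) : ↥L) : G) from rfl]
    congr 2
    refine Additive.ofMul.injective (ψ.injective ?_)
    rw [h1, ofMul_toMul, AddEquiv.apply_symm_apply]
    ext i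
    fin_cases i <;> simp [Matrix.mulVec, dotProduct, Fin.sum_univ_two]

namespace Blk

variable (B : Blk F G)

/-- a change of frame for a Sylow subgroup of a block -/
theorem exists_frame [Finite G] [Finite F] [CharP F 2] (P : Sylow 2 ↥B.L) :
    ∃ B' : Blk F G, B'.L = B.L ∧ B'.V = B.V ∧
      ∀ g : G, g ∈ (P : Subgroup ↥B.L).map B.L.subtype ↔
        ∃ hl : g ∈ B'.L, B'.π ⟨g, hl⟩ ∈ upGroup F := by
  classical
  haveI : Fact (Nat.Prime 2) := ⟨Nat.prime_two⟩
  set Q : Subgroup (SL2 F) := (P : Subgroup ↥B.L).map B.π with hQdef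
  have hQ : IsPGroup 2 ↥Q := P.2.map B.π
  have hdvd : 2 ∣ Nat.card (Fin 2 → F) := by
    rw [Nat.card_fun, Nat.card_eq_fintype_card (α := Fin 2), Fintype.card_fin]
    letI := Fintype.ofFinite F
    obtain ⟨n, -, hn⟩ := FiniteField.card F 2
    refine dvd_pow ?_ two_ne_zero
    rw [Nat.card_eq_fintype_card, hn]
    exact dvd_pow_self 2 n.pos.ne'
  obtain ⟨w, hw, hw0⟩ := hQ.exists_fixed_point_of_prime_dvd_card_of_fixed_point (Fin 2 → F) hdvd
    (a := 0) (fun A => smul_zero _)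
  obtain ⟨g, hg0, hg1⟩ : ∃ g : SL2 F, g.1 0 0 = w 0 ∧ g.1 1 0 = w 1 := by
    by_cases ha : w 0 = 0
    · have hb : w 1 ≠ 0 := fun hb => hw0.symm (by ext i; fin_cases i <;> simp [ha, hb])
      exact ⟨⟨!![0, -(w 1)⁻¹; w 1, 0], by simp [Matrix.det_fin_two, hb]⟩, by simp [ha], by simp⟩
    · exact ⟨⟨!![w 0, 0; w 1, (w 0)⁻¹], by simp [Matrix.det_fin_two, ha]⟩, by simp, by simp⟩
  have hd := det2 g
  have key : ∀ A : SL2 F, g * (MulAut.conj g⁻¹ A) = A * g := fun A => by
    simp [MulAut.conj_apply, ← mul_assoc]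
  refine ⟨B.twist (MulAut.conj g⁻¹) (fun z y => g.1 0 0 * z + g.1 0 1 * y)
    (fun z y => g.1 1 0 * z + g.1 1 1 * y) (fun _ _ _ _ => by ring) (fun _ _ _ _ => by ring)
    (fun z y z' y' h1 h2 => ⟨by linear_combination g.1 1 1 * h1 - g.1 0 1 * h2 - (z - z') * hd,
      by linear_combination g.1 0 0 * h2 - g.1 1 0 * h1 - (y - y') * hd⟩)
    (fun a b => ⟨g.1 1 1 * a - g.1 0 1 * b, g.1 0 0 * b - g.1 1 0 * a,
      by linear_combination a * hd, by linear_combination b * hd⟩)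
    (fun A z y => ?_) (fun A z y => ?_), rfl, rfl, ?_⟩
  · have e0 := congrArg (fun M : SL2 F => M.1 0 0) (key A)
    have e1 := congrArg (fun M : SL2 F => M.1 0 1) (key A)
    simp only [mul_00, mul_01] at e0 e1
    linear_combination z * e0 + y * e1
  · have e0 := congrArg (fun M : SL2 F => M.1 1 0) (key A)
    have e1 := congrArg (fun M : SL2 F => M.1 1 1) (key A)
    simp only [mul_10, mul_11] at e0 e1
    linear_combination z * e0 + y * e1
  set π' : ↥B.L →* SL2 F := (MulAut.conj g⁻¹).toMonoidHom.comp B.π with hπ'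
  set K := (upGroup F).comap π'
  have hUp : IsPGroup 2 ↥(upGroup F) := by
    letI := Fintype.ofFinite F
    obtain ⟨n, -, hn⟩ := FiniteField.card F 2
    exact IsPGroup.of_card (n := n) (by rw [card_upGroup, Nat.card_eq_fintype_card, hn])
  have hker : IsPGroup 2 ↥π'.ker := by
    have e : π'.ker = B.V.subgroupOf B.L := by
      rw [← B.ker]
      ext l
      simp [hπ', MonoidHom.mem_ker]
    rw [e]
    intro x
    obtain ⟨k, hk⟩ := B.V_two ⟨((x : ↥B.L) : G), x.2⟩
    exact ⟨k, Subtype.ext (Subtype.ext (congrArg Subtype.val hk :))⟩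
  have hK : IsPGroup 2 ↥K := hUp.comap_of_ker_isPGroup π' hker
  have hPK : (P : Subgroup ↥B.L) ≤ K := by
    intro l hl
    show π' l ∈ upGroup F
    have hfix : (B.π l).1.mulVec w = w := hw ⟨B.π l, mem_map_of_mem _ hl⟩
    have f0 := congrFun hfix 0
    have f1 := congrFun hfix 1
    simp only [Matrix.mulVec, dotProduct, Fin.sum_univ_two, ← hg0, ← hg1] at f0 f1
    set C := π' l
    have hC : g * C = B.π l * g := key (B.π l)
    have e0 := congrArg (fun M : SL2 F => M.1 0 0) hC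
    have e1 := congrArg (fun M : SL2 F => M.1 1 0) hC
    simp only [mul_00, mul_10] at e0 e1
    have h00 : C.1 0 0 = 1 := by
      linear_combination g.1 1 1 * e0 + g.1 1 1 * f0 - g.1 0 1 * e1 - g.1 0 1 * f1 - (C.1 0 0 - 1) * hd
    have h10 : C.1 1 0 = 0 := by
      linear_combination g.1 0 0 * e1 + g.1 0 0 * f1 - g.1 1 0 * e0 - g.1 1 0 * f0 - C.1 1 0 * hd
    have hdC := det2 C
    rw [h00, h10, one_mul, mul_zero, sub_zero] at hdC
    exact ⟨h00, h10, hdC⟩
  have hPK' : K = (P : Subgroup ↥B.L) := P.3 hK hPK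
  intro x
  constructor
  · rintro ⟨l, hl, rfl⟩
    exact ⟨l.2, hPK hl⟩
  · rintro ⟨hl, hx⟩
    exact ⟨⟨x, hl⟩, hPK'.le hx, rfl⟩

theorem smul_vec_def (A : SL2 F) (w : Fin 2 → F) : A • w = A.1.mulVec w := rfl

end Blk

/-- conjugation by a diagonal followed by a field automorphism, as a map -/
noncomputable def kapFun (σ : F ≃+* F) (c d : F) (hc : c ≠ 0) (hd : d ≠ 0) (A : SL2 F) : SL2 F :=
  ⟨!![σ.symm (A.1 0 0), σ.symm (A.1 0 1 * d / c);
      σ.symm (A.1 1 0 * c / d), σ.symm (A.1 1 1)], by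
    have h := congrArg σ.symm (det2 A)
    rw [map_sub, map_mul, map_mul, map_one] at h
    rw [Matrix.det_fin_two_of, ← map_mul, ← map_mul,
      show A.1 0 1 * d / c * (A.1 1 0 * c / d) = A.1 0 1 * A.1 1 0 by field_simp, map_mul, map_mul]
    exact h⟩

section

variable (σ : F ≃+* F) (c d : F) (hc : c ≠ 0) (hd : d ≠ 0) (A : SL2 F)

@[simp] theorem kapFun_00 : (kapFun σ c d hc hd A).1 0 0 = σ.symm (A.1 0 0) := rfl
@[simp] theorem kapFun_01 : (kapFun σ c d hc hd A).1 0 1 = σ.symm (A.1 0 1 * d / c) := rfl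
@[simp] theorem kapFun_10 : (kapFun σ c d hc hd A).1 1 0 = σ.symm (A.1 1 0 * c / d) := rfl
@[simp] theorem kapFun_11 : (kapFun σ c d hc hd A).1 1 1 = σ.symm (A.1 1 1) := rfl

theorem kapFun_mul (B : SL2 F) :
    kapFun σ c d hc hd (A * B) = kapFun σ c d hc hd A * kapFun σ c d hc hd B := by
  refine ext2 ?_ ?_ ?_ ?_
  · rw [mul_00, kapFun_00, kapFun_00, kapFun_00, kapFun_01, kapFun_10, mul_00, ← map_mul, ← map_mul, ← map_add]
    congr 1; field_simp
  · rw [mul_01, kapFun_01, kapFun_00, kapFun_01, kapFun_01, kapFun_11, mul_01, ← map_mul, ← map_mul, ← map_add]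
    congr 1; field_simp
  · rw [mul_10, kapFun_10, kapFun_10, kapFun_00, kapFun_11, kapFun_10, mul_10, ← map_mul, ← map_mul, ← map_add]
    congr 1; field_simp
  · rw [mul_11, kapFun_11, kapFun_10, kapFun_01, kapFun_11, kapFun_11, mul_11, ← map_mul, ← map_mul, ← map_add]
    congr 1; field_simp

end

/-- conjugation by a diagonal followed by a field automorphism -/
noncomputable def kap (σ : F ≃+* F) (c d : F) (hc : c ≠ 0) (hd : d ≠ 0) : SL2 F ≃* SL2 F where
  toFun := kapFun σ c d hc hd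
  invFun A := ⟨!![σ (A.1 0 0), σ (A.1 0 1) * c / d; σ (A.1 1 0) * d / c, σ (A.1 1 1)], by
    have h := congrArg σ (det2 A)
    rw [map_sub, map_mul, map_mul, map_one] at h
    rw [Matrix.det_fin_two_of,
      show σ (A.1 0 1) * c / d * (σ (A.1 1 0) * d / c) = σ (A.1 0 1) * σ (A.1 1 0) by field_simp]
    exact h⟩
  left_inv A := ext2 (by simp) (by simp; field_simp) (by simp; field_simp) (by simp)
  right_inv A := ext2 (by show σ.symm (σ (A.1 0 0)) = _; simp)
    (by show σ.symm (σ (A.1 0 1) * c / d * d / c) = _; simp [hc, hd])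
    (by show σ.symm (σ (A.1 1 0) * d / c * c / d) = _; simp [hc, hd])
    (by show σ.symm (σ (A.1 1 1)) = _; simp)
  map_mul' A B := kapFun_mul σ c d hc hd A B

/-- rescaling the coordinates by a ring automorphism and a diagonal -/
noncomputable def rescale (B : Blk F G) (σ : F ≃+* F) (c d : F) (hc : c ≠ 0) (hd : d ≠ 0) : Blk F G :=
  B.twist (kap σ c d hc hd)
    (fun z _ => c * σ z) (fun _ y => d * σ y)
    (fun _ _ _ _ => by rw [map_add, mul_add]) (fun _ _ _ _ => by rw [map_add, mul_add])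
    (fun z y z' y' h1 h2 => ⟨σ.injective (mul_left_cancel₀ hc h1), σ.injective (mul_left_cancel₀ hd h2)⟩)
    (fun a b => ⟨σ.symm (a / c), σ.symm (b / d), by simp; field_simp, by simp; field_simp⟩)
    (fun A z y => by
      show c * σ (σ.symm (A.1 0 0) * z + σ.symm (A.1 0 1 * d / c) * y) = _
      rw [map_add, map_mul, map_mul, RingEquiv.apply_symm_apply, RingEquiv.apply_symm_apply]
      field_simp)
    (fun A z y => by
      show d * σ (σ.symm (A.1 1 0 * c / d) * z + σ.symm (A.1 1 1) * y) = _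
      rw [map_add, map_mul, map_mul, RingEquiv.apply_symm_apply, RingEquiv.apply_symm_apply]
      field_simp)

end Cfsg.Lib.LTP
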