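import Cfsg.Agent.LThreePlane.OuterBasic

/-!
# Counting involutions in the blocks
-/

set_option autoImplicit false

namespace Cfsg.Lib.LTP

open Subgroup

variable {F : Type*} [Field F] [Fintype F] [CharP F 2]

omit [Fintype F] in
theorem sl2_sq_entries {A : SL2 F} (h : A * A = 1) :
    A.1 1 1 = A.1 0 0 ∧ A.1 0 0 * A.1 0 0 = 1 + A.1 0 1 * A.1 1 0 := by
  have h0 := congrArg (fun M : SL2 F => M.1 0 0) h
  have h1 := congrArg (fun M : SL2 F => M.1 1 1) h
  simp only [mul_00, mul_11, Matrix.SpecialLinearGroup.coe_one, Matrix.one_apply_eq] at h0 h1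
  refine ⟨sub_eq_zero.1 (mul_self_eq_zero.1 ?_), ?_⟩
  · linear_combination h1 - h0 + (A.1 0 0 * A.1 0 0 - A.1 1 1 * A.1 0 0) * CharTwo.two_eq_zero (R := F)
  · linear_combination h0 - (A.1 0 1 * A.1 1 0) * CharTwo.two_eq_zero (R := F)

omit [Fintype F] in
theorem sl2_sq_inj {A B : SL2 F} (hA : A * A = 1) (hB : B * B = 1) (h01 : A.1 0 1 = B.1 0 1)
    (h10 : A.1 1 0 = B.1 1 0) : A = B := by
  have e : A.1 0 0 = B.1 0 0 := by
    refine sub_eq_zero.1 (mul_self_eq_zero.1 ?_)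
    have a := (sl2_sq_entries hA).2
    have b := (sl2_sq_entries hB).2
    rw [h01, h10] at a
    linear_combination a - b + (B.1 0 0 * B.1 0 0 - A.1 0 0 * B.1 0 0) * CharTwo.two_eq_zero (R := F)
  exact ext2 e h01 h10 (by rw [(sl2_sq_entries hA).1, (sl2_sq_entries hB).1, e])

/-- the involutions of the linear group, with the identity -/
theorem card_sl2_sq : Nat.card {A : SL2 F // A * A = 1} = Fintype.card F ^ 2 := by
  rw [pow_two, ← Nat.card_eq_fintype_card, ← Nat.card_prod]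
  refine Nat.card_congr (Equiv.ofBijective (fun A => (A.1.1 0 1, A.1.1 1 0)) ⟨fun A B h => ?_, fun p => ?_⟩)
  · exact Subtype.ext (sl2_sq_inj A.2 B.2 (congrArg Prod.fst h) (congrArg Prod.snd h))
  · have hsq : Function.Injective (fun x : F => x * x) := fun x y h => by
      refine sub_eq_zero.1 (mul_self_eq_zero.1 ?_)
      have h' : x * x = y * y := h
      linear_combination h' + (y * y - x * y) * CharTwo.two_eq_zero (R := F)
    obtain ⟨a, ha⟩ := Finite.injective_iff_surjective.1 hsq (1 + p.1 * p.2)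
    have ha' : a * a = 1 + p.1 * p.2 := ha
    let A : SL2 F := ⟨!![a, p.1; p.2, a], by rw [Matrix.det_fin_two_of]; linear_combination ha'⟩
    have a00 : A.1 0 0 = a := rfl
    have a01 : A.1 0 1 = p.1 := rfl
    have a10 : A.1 1 0 = p.2 := rfl
    have a11 : A.1 1 1 = a := rfl
    refine ⟨⟨A, ?_⟩, rfl⟩
    refine ext2 ?_ ?_ ?_ ?_ <;>
      simp only [mul_00, mul_01, mul_10, mul_11, Matrix.SpecialLinearGroup.coe_one, Matrix.one_apply_eq,
        Matrix.one_apply_ne (by decide : (0 : Fin 2) ≠ 1), Matrix.one_apply_ne (by decide : (1 : Fin 2) ≠ 0),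
        a00, a01, a10, a11]
    · linear_combination ha' + p.1 * p.2 * CharTwo.two_eq_zero (R := F)
    · linear_combination a * p.1 * CharTwo.two_eq_zero (R := F)
    · linear_combination a * p.2 * CharTwo.two_eq_zero (R := F)
    · linear_combination ha' + p.1 * p.2 * CharTwo.two_eq_zero (R := F)

/-- bounded fibres -/
theorem card_le_fibre {α β : Type*} [Finite α] [Finite β] (f : α → β) (n : ℕ)
    (h : ∀ b, Nat.card {a // f a = b} ≤ n) : Nat.card α ≤ Nat.card β * n := by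
  classical
  haveI := Fintype.ofFinite β
  rw [← Nat.card_congr (Equiv.sigmaFiberEquiv f), Nat.card_sigma, Nat.card_eq_fintype_card (α := β)]
  calc ∑ b, Nat.card {a // f a = b} ≤ ∑ _b : β, n := Finset.sum_le_sum fun b _ => h b
    _ = _ := by simp

variable {G : Type*} [Group G] [Finite G]

namespace Blk

variable (B : Blk F G)

omit [Finite G] in
/-- involutions over a non-trivial image differ by a fixed vector -/
theorem card_invol_fibre {A : SL2 F} (hA : A ≠ 1) :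
    Nat.card {a : G // ∃ ha : a ∈ B.L, a * a = 1 ∧ B.π ⟨a, ha⟩ = A} ≤ Fintype.card F := by
  classical
  by_cases hem : IsEmpty {a : G // ∃ ha : a ∈ B.L, a * a = 1 ∧ B.π ⟨a, ha⟩ = A}
  · rw [@Nat.card_of_isEmpty _ hem]; exact Nat.zero_le _
  rw [not_isEmpty_iff] at hem
  obtain ⟨⟨a₀, ha₀, h0, hπ₀⟩⟩ := hem
  have hA2 : A * A = 1 := by
    rw [← hπ₀, ← B.π_mul ha₀ ha₀, B.π_eq_one]
    rw [h0]; exact one_mem _
  have key : ∀ b : {a : G // ∃ ha : a ∈ B.L, a * a = 1 ∧ B.π ⟨a, ha⟩ = A}, ∃ z y : F,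
      a₀⁻¹ * b.1 = B.v z y ∧ A.1 0 0 * z + A.1 0 1 * y = z ∧ A.1 1 0 * z + A.1 1 1 * y = y := by
    rintro ⟨b, hb, hb2, hπb⟩
    obtain ⟨z, y, hzy⟩ := (B.mem_V _).1 (B.mem_of_π_eq ha₀ hb (hπ₀.trans hπb.symm))
    refine ⟨z, y, hzy, ?_⟩
    have hfix : a₀ * B.v z y * a₀⁻¹ = B.v z y := by
      have hbv : b = a₀ * B.v z y := by rw [← hzy, mul_inv_cancel_left]
      rw [inv_eq_of_mul_eq_one_right h0]
      have := hb2
      rw [hbv] at this
      calc a₀ * B.v z y * a₀ = a₀ * B.v z y * (a₀ * B.v z y) * (B.v z y)⁻¹ := by group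
        _ = B.v z y := by rw [this, one_mul, B.v_inv]
    rw [B.act a₀ ha₀, hπ₀] at hfix
    exact B.v_inj _ _ _ _ hfix
  choose Z Y hv hz hy using key
  obtain ⟨e11, e00⟩ := sl2_sq_entries hA2
  have hrs : A.1 0 1 ≠ 0 ∨ A.1 1 0 ≠ 0 := by
    by_contra hc
    push Not at hc
    exact hA (sl2_sq_inj hA2 (mul_one 1) (by simp [hc.1]) (by simp [hc.2]))
  rw [← Nat.card_eq_fintype_card]
  rcases hrs with hr | hs
  · refine Nat.card_le_card_of_injective Z fun b c e => Subtype.ext (mul_left_cancel (a := a₀⁻¹) ?_)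
    have hyy : Y b = Y c := by
      refine mul_left_cancel₀ hr ?_
      have hb := hz b
      have hc := hz c
      rw [e] at hb
      linear_combination hb - hc
    rw [hv b, hv c, e, hyy]
  · refine Nat.card_le_card_of_injective Y fun b c e => Subtype.ext (mul_left_cancel (a := a₀⁻¹) ?_)
    have hzz : Z b = Z c := by
      refine mul_left_cancel₀ hs ?_
      have hb := hy b
      have hc := hy c
      rw [e] at hb
      linear_combination hb - hc
    rw [hv b, hv c, e, hzz]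

/-- involutions of a block -/
theorem card_invol_le : Nat.card {a : G // a ∈ B.L ∧ a * a = 1} ≤
    Fintype.card F ^ 2 + (Fintype.card F ^ 2 - 1) * Fintype.card F := by
  classical
  let f : {a : G // (a ∈ B.L ∧ a * a = 1) ∧ a ∉ B.V} → {A : {A : SL2 F // A * A = 1} // A.1 ≠ 1} := fun a =>
    ⟨⟨B.π ⟨a.1, a.2.1.1⟩, by
      rw [← B.π_mul a.2.1.1 a.2.1.1, B.π_eq_one, a.2.1.2]; exact one_mem _⟩,
      fun h => a.2.2 ((B.π_eq_one a.2.1.1).1 h)⟩
  have hf : Nat.card {a : G // (a ∈ B.L ∧ a * a = 1) ∧ a ∉ B.V} ≤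
      (Fintype.card F ^ 2 - 1) * Fintype.card F := by
    refine (card_le_fibre f (Fintype.card F) fun A => ?_).trans (Nat.mul_le_mul_right _ (le_of_eq ?_))
    · refine le_trans (Nat.card_le_card_of_injective (fun a =>
        (⟨a.1.1, a.1.2.1.1, a.1.2.1.2, congrArg (fun A : {A : {A : SL2 F // A * A = 1} // A.1 ≠ 1} => A.1.1) a.2⟩ :
          {a : G // ∃ ha : a ∈ B.L, a * a = 1 ∧ B.π ⟨a, ha⟩ = A.1.1})) fun a b e => ?_) (B.card_invol_fibre A.2)
      exact Subtype.ext (Subtype.ext (congrArg (fun a : {a : G // ∃ ha : a ∈ B.L, a * a = 1 ∧ B.π ⟨a, ha⟩ = A.1.1} => a.1) e))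
    · haveI := Fintype.ofFinite {A : SL2 F // A * A = 1}
      rw [← card_sl2_sq (F := F), Nat.card_eq_fintype_card, Nat.card_eq_fintype_card,
        Fintype.card_subtype_compl]
      congr 1
      rw [Fintype.card_eq_one_iff]
      exact ⟨⟨⟨1, mul_one 1⟩, rfl⟩, fun A => Subtype.ext (Subtype.ext A.2)⟩
  have hV : Nat.card {a : G // (a ∈ B.L ∧ a * a = 1) ∧ a ∈ B.V} ≤ Fintype.card F ^ 2 := by
    rw [← Nat.card_eq_fintype_card, ← B.card_V]
    exact Nat.card_le_card_of_injective (fun a => (⟨a.1, a.2.2⟩ : ↥B.V))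
      fun a b e => Subtype.ext (congrArg (fun x : ↥B.V => (x : G)) e)
  let g : {a : G // a ∈ B.L ∧ a * a = 1} → {a : G // (a ∈ B.L ∧ a * a = 1) ∧ a ∈ B.V} ⊕
      {a : G // (a ∈ B.L ∧ a * a = 1) ∧ a ∉ B.V} :=
    fun a => if h : a.1 ∈ B.V then Sum.inl ⟨a.1, a.2, h⟩ else Sum.inr ⟨a.1, a.2, h⟩
  refine (Nat.card_le_card_of_injective g fun a b h => ?_).trans (by rw [Nat.card_sum]; omega)
  have := congrArg (Sum.elim (fun x => x.1) fun x => x.1) h
  simp only [g] at this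
  split_ifs at this <;> exact Subtype.ext this

/-- involutions commuting with a scalar group -/
theorem card_invol_cent (S : Set G) (hS : ∀ s ∈ S, ∀ t ∈ S, s * t = t * s)
    (hN : ∀ s ∈ S, s ∈ normalizer (B.L : Set G))
    (hscal : ∀ s ∈ S, ∃ c : F, ∀ z y, s * B.v z y * s⁻¹ = B.v (c * z) (c * y))
    (hne : ∃ s ∈ S, ∀ v ∈ B.V, s * v = v * s → v = 1) :
    Nat.card {a : G // a ∈ B.L ∧ a * a = 1 ∧ ∀ s ∈ S, a * s = s * a} = Fintype.card F ^ 2 := by
  obtain ⟨g, hg, hfix⟩ := hne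
  have himg : ∀ s ∈ S, ∀ a (ha : a ∈ B.L), ∃ hs : s * a * s⁻¹ ∈ B.L, B.π ⟨s * a * s⁻¹, hs⟩ = B.π ⟨a, ha⟩ := by
    intro s hs a ha
    have hm := (mem_normalizer_iff.1 (hN s hs) a).1 ha
    obtain ⟨c, hc⟩ := hscal s hs
    have hc0 : c ≠ 0 := fun e => by
      have h1 := hc 1 0
      rw [e, zero_mul, mul_zero, B.v_zero, conj_eq_one_iff, B.v_eq_one] at h1
      exact one_ne_zero h1.1
    refine ⟨hm, ?_⟩
    have key : ∀ z y : F,
        (B.π ⟨s * a * s⁻¹, hm⟩).1 0 0 * (c * z) + (B.π ⟨s * a * s⁻¹, hm⟩).1 0 1 * (c * y) =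
          c * ((B.π ⟨a, ha⟩).1 0 0 * z + (B.π ⟨a, ha⟩).1 0 1 * y) ∧
        (B.π ⟨s * a * s⁻¹, hm⟩).1 1 0 * (c * z) + (B.π ⟨s * a * s⁻¹, hm⟩).1 1 1 * (c * y) =
          c * ((B.π ⟨a, ha⟩).1 1 0 * z + (B.π ⟨a, ha⟩).1 1 1 * y) := fun z y => by
      have h1 := B.act _ hm (c * z) (c * y)
      rw [← hc, show s * a * s⁻¹ * (s * B.v z y * s⁻¹) * (s * a * s⁻¹)⁻¹ =
        s * (a * B.v z y * a⁻¹) * s⁻¹ by group, B.act a ha, hc] at h1
      obtain ⟨e1, e2⟩ := B.v_inj _ _ _ _ h1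
      exact ⟨e1.symm, e2.symm⟩
    have k1 := key 1 0
    have k2 := key 0 1
    simp only [mul_zero, add_zero, zero_add, mul_one] at k1 k2
    refine ext2 ?_ ?_ ?_ ?_
    · exact mul_right_cancel₀ hc0 (by rw [k1.1, mul_comm])
    · exact mul_right_cancel₀ hc0 (by rw [k2.1, mul_comm])
    · exact mul_right_cancel₀ hc0 (by rw [k1.2, mul_comm])
    · exact mul_right_cancel₀ hc0 (by rw [k2.2, mul_comm])
  have uniq : ∀ a b (ha : a ∈ B.L) (hb : b ∈ B.L), a * g = g * a → b * g = g * b →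
      B.π ⟨a, ha⟩ = B.π ⟨b, hb⟩ → a = b := by
    intro a b ha hb hag hbg e
    refine inv_mul_eq_one.1 (hfix _ (B.mem_of_π_eq ha hb e) ?_)
    exact ((((show Commute a g from hag).inv_left).mul_left (show Commute b g from hbg)).symm).eq
  rw [← card_sl2_sq (F := F)]
  refine Nat.card_congr (Equiv.ofBijective (fun a => (⟨B.π ⟨a.1, a.2.1⟩, by
    rw [← B.π_mul a.2.1 a.2.1, B.π_eq_one, a.2.2.1]; exact one_mem _⟩ : {A : SL2 F // A * A = 1})) ⟨?_, ?_⟩)
  · intro a b e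
    exact Subtype.ext (uniq _ _ a.2.1 b.2.1 (a.2.2.2 g hg) (b.2.2.2 g hg)
      (congrArg (fun x : {A : SL2 F // A * A = 1} => x.1) e))
  · rintro ⟨A, hA⟩
    obtain ⟨r, hr, hπr⟩ := B.exists_lift A
    have hgV : g ∈ normalizer (B.V : Set G) := by
      obtain ⟨c, hc⟩ := hscal g hg
      refine cjg_eq_iff.1 (eq_of_le_of_card_ge ?_ (card_cjg g B.V).ge)
      rintro _ ⟨v, hv, rfl⟩
      obtain ⟨z, y, rfl⟩ := (B.mem_V v).1 hv
      show g * B.v z y * g⁻¹ ∈ B.V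
      rw [hc]; exact B.v_mem _ _
    obtain ⟨hm, he⟩ := himg g hg r hr
    have hmem : g⁻¹ * (r * g * r⁻¹) ∈ B.V := by
      have h1 := B.conj_mem hr (B.mem_of_π_eq hm hr he)
      have h2 := (mem_normalizer_iff''.1 hgV _).1 h1
      have e3 : g⁻¹ * (r * g * r⁻¹) = g⁻¹ * (r * ((g * r * g⁻¹)⁻¹ * r) * r⁻¹) * g := by group
      rwa [e3]
    obtain ⟨u, hu, huc⟩ := exists_centralizing hgV hfix hmem
    have hL : u * r ∈ B.L := mul_mem (B.vle hu) hr
    have hπ : B.π ⟨u * r, hL⟩ = A := by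
      rw [B.π_mul (B.vle hu) hr, (B.π_eq_one (B.vle hu)).2 hu, one_mul, hπr]
    have hall : ∀ s ∈ S, u * r * s = s * (u * r) := by
      intro s hs
      obtain ⟨hm', he'⟩ := himg s hs _ hL
      have h1 : s * (u * r) * s⁻¹ * g = g * (s * (u * r) * s⁻¹) :=
        ((((show Commute s g from hS s hs g hg).mul_left (show Commute (u * r) g from huc))).mul_left
          ((show Commute s g from hS s hs g hg).inv_left)).eq
      exact (mul_inv_eq_iff_eq_mul.1 (uniq _ _ hm' hL h1 huc he')).symm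
    refine ⟨⟨u * r, hL, ?_, hall⟩, Subtype.ext hπ⟩
    refine hfix _ ?_ ?_
    · rw [← B.π_eq_one (mul_mem hL hL), B.π_mul hL hL, hπ, hA]
    · exact (((show Commute (u * r) g from huc).mul_left (show Commute (u * r) g from huc)).symm).eq

end Blk

namespace Duo

/-- involutions of the second block moving the first module -/
theorem card_invol_moving (D : Duo F G) :
    Nat.card {a : G // a ∈ D.two.L ∧ a * a = 1 ∧ a ∉ normalizer (D.one.V : Set G)} ≤
      Fintype.card F ^ 2 * (Fintype.card F - 1) := by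
  classical
  let f : {a : G // a ∈ D.two.L ∧ a * a = 1 ∧ a ∉ normalizer (D.one.V : Set G)} → F × {s : F // s ≠ 0} :=
    fun a => ((D.two.π ⟨a.1, a.2.1⟩).1 0 1, ⟨(D.two.π ⟨a.1, a.2.1⟩).1 1 0, fun h => a.2.2.2 (by
      have h2 : D.two.π ⟨a.1, a.2.1⟩ * D.two.π ⟨a.1, a.2.1⟩ = 1 := by
        rw [← D.two.π_mul a.2.1 a.2.1, D.two.π_eq_one, a.2.2.1]; exact one_mem _
      obtain ⟨e11, e00⟩ := sl2_sq_entries h2
      rw [h, mul_zero, add_zero] at e00
      have e1 : (D.two.π ⟨a.1, a.2.1⟩).1 0 0 = 1 := by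
        refine sub_eq_zero.1 (mul_self_eq_zero.1 ?_)
        linear_combination e00 + (1 - (D.two.π ⟨a.1, a.2.1⟩).1 0 0) * CharTwo.two_eq_zero (R := F)
      have hJ : a.1 ∈ D.swap.J := D.swap.mem_J_iff.2 ⟨a.2.1, ⟨e1, h, e11.trans e1⟩⟩
      rw [D.J_swap] at hJ
      exact D.one.L_le_norm (D.J_le_L1 hJ))⟩)
  refine (card_le_fibre f (Fintype.card F) fun p => ?_).trans (le_of_eq ?_)
  · by_cases hem : IsEmpty {a // f a = p}
    · rw [@Nat.card_of_isEmpty _ hem]; exact Nat.zero_le _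
    rw [not_isEmpty_iff] at hem
    obtain ⟨⟨a₀, ha₀⟩⟩ := hem
    have hne : D.two.π ⟨a₀.1, a₀.2.1⟩ ≠ 1 := fun h => a₀.2.2.2 (by
      exact D.one.L_le_norm (D.J_le_L1 (D.V2_le_J ((D.two.π_eq_one a₀.2.1).1 h))))
    refine le_trans (Nat.card_le_card_of_injective (fun a =>
      (⟨a.1.1, a.1.2.1, a.1.2.2.1, ?_⟩ :
        {b : G // ∃ hb : b ∈ D.two.L, b * b = 1 ∧ D.two.π ⟨b, hb⟩ = D.two.π ⟨a₀.1, a₀.2.1⟩})) fun a b e => ?_)
      (D.two.card_invol_fibre hne)
    · have e := a.2.trans ha₀.symm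
      refine sl2_sq_inj ?_ ?_ (congrArg Prod.fst e)
        (congrArg (fun q : F × {s : F // s ≠ 0} => (q.2 : F)) e)
      · rw [← D.two.π_mul a.1.2.1 a.1.2.1, D.two.π_eq_one, a.1.2.2.1]; exact one_mem _
      · rw [← D.two.π_mul a₀.2.1 a₀.2.1, D.two.π_eq_one, a₀.2.2.1]; exact one_mem _
    · exact Subtype.ext (Subtype.ext (congrArg (fun x : {b : G // ∃ hb : b ∈ D.two.L, b * b = 1 ∧
        D.two.π ⟨b, hb⟩ = D.two.π ⟨a₀.1, a₀.2.1⟩} => x.1) e))
  · rw [Nat.card_prod, Nat.card_eq_fintype_card, Nat.card_eq_fintype_card, Fintype.card_subtype_compl,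
      Fintype.card_subtype_eq]
    ring

end Duo

end Cfsg.Lib.LTP
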