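import Mathlib

/-!
# Two by two matrices of determinant one over a field of characteristic two
-/

set_option autoImplicit false

namespace Cfsg.Lib.LTP

open Matrix

variable {F : Type*} [Field F]

/-- the special linear group of degree two -/
abbrev SL2 (F : Type*) [Field F] := Matrix.SpecialLinearGroup (Fin 2) F

/-- upper unitriangular -/
def up (x : F) : SL2 F := ⟨!![1, x; 0, 1], by simp [Matrix.det_fin_two]⟩

/-- lower unitriangular -/
def lo (x : F) : SL2 F := ⟨!![1, 0; x, 1], by simp [Matrix.det_fin_two]⟩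

/-- diagonal -/
def dg (t : Fˣ) : SL2 F := ⟨!![(t : F), 0; 0, ((t⁻¹ : Fˣ) : F)], by simp [Matrix.det_fin_two]⟩

theorem ext2 {A B : SL2 F} (h00 : A.1 0 0 = B.1 0 0) (h01 : A.1 0 1 = B.1 0 1)
    (h10 : A.1 1 0 = B.1 1 0) (h11 : A.1 1 1 = B.1 1 1) : A = B := by
  apply Matrix.SpecialLinearGroup.ext
  intro i j
  fin_cases i <;> fin_cases j <;> assumption

theorem det2 (A : SL2 F) : A.1 0 0 * A.1 1 1 - A.1 0 1 * A.1 1 0 = 1 := by
  rw [← Matrix.det_fin_two]; exact A.2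

@[simp] theorem up_00 (x : F) : (up x).1 0 0 = 1 := rfl
@[simp] theorem up_01 (x : F) : (up x).1 0 1 = x := rfl
@[simp] theorem up_10 (x : F) : (up x).1 1 0 = 0 := rfl
@[simp] theorem up_11 (x : F) : (up x).1 1 1 = 1 := rfl
@[simp] theorem lo_00 (x : F) : (lo x).1 0 0 = 1 := rfl
@[simp] theorem lo_01 (x : F) : (lo x).1 0 1 = 0 := rfl
@[simp] theorem lo_10 (x : F) : (lo x).1 1 0 = x := rfl
@[simp] theorem lo_11 (x : F) : (lo x).1 1 1 = 1 := rfl
@[simp] theorem dg_00 (t : Fˣ) : (dg t).1 0 0 = t := rfl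
@[simp] theorem dg_01 (t : Fˣ) : (dg t).1 0 1 = 0 := rfl
@[simp] theorem dg_10 (t : Fˣ) : (dg t).1 1 0 = 0 := rfl
@[simp] theorem dg_11 (t : Fˣ) : (dg t).1 1 1 = ((t⁻¹ : Fˣ) : F) := rfl

theorem mul_00 (A B : SL2 F) : (A * B).1 0 0 = A.1 0 0 * B.1 0 0 + A.1 0 1 * B.1 1 0 := by
  simp [Matrix.SpecialLinearGroup.coe_mul, Matrix.mul_apply, Fin.sum_univ_two]
theorem mul_01 (A B : SL2 F) : (A * B).1 0 1 = A.1 0 0 * B.1 0 1 + A.1 0 1 * B.1 1 1 := by
  simp [Matrix.SpecialLinearGroup.coe_mul, Matrix.mul_apply, Fin.sum_univ_two]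
theorem mul_10 (A B : SL2 F) : (A * B).1 1 0 = A.1 1 0 * B.1 0 0 + A.1 1 1 * B.1 1 0 := by
  simp [Matrix.SpecialLinearGroup.coe_mul, Matrix.mul_apply, Fin.sum_univ_two]
theorem mul_11 (A B : SL2 F) : (A * B).1 1 1 = A.1 1 0 * B.1 0 1 + A.1 1 1 * B.1 1 1 := by
  simp [Matrix.SpecialLinearGroup.coe_mul, Matrix.mul_apply, Fin.sum_univ_two]

theorem up_zero : up (0 : F) = 1 := ext2 (by simp) (by simp) (by simp) (by simp)

theorem lo_zero : lo (0 : F) = 1 := ext2 (by simp) (by simp) (by simp) (by simp)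

theorem up_add (x y : F) : up (x + y) = up x * up y :=
  ext2 (by simp [mul_00]) (by simp [mul_01, add_comm]) (by simp [mul_10]) (by simp [mul_11])

theorem lo_add (x y : F) : lo (x + y) = lo x * lo y :=
  ext2 (by simp [mul_00]) (by simp [mul_01]) (by simp [mul_10, add_comm]) (by simp [mul_11])

theorem up_inj {x y : F} (h : up x = up y) : x = y := by simpa using congrArg (fun A => A.1 0 1) h

theorem lo_inj {x y : F} (h : lo x = lo y) : x = y := by simpa using congrArg (fun A => A.1 1 0) h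

theorem up_eq_one {x : F} : up x = 1 ↔ x = 0 :=
  ⟨fun h => up_inj (h.trans up_zero.symm), fun h => h ▸ up_zero⟩

/-- the diagonal as a homomorphism -/
def dgHom : Fˣ →* SL2 F where
  toFun := dg
  map_one' := ext2 (by simp) (by simp) (by simp) (by simp)
  map_mul' s t := ext2 (by simp [mul_00]) (by simp [mul_01]) (by simp [mul_10])
    (by simp [mul_11, mul_comm])

theorem dg_mul (s t : Fˣ) : dg (s * t) = dg s * dg t := dgHom.map_mul s t

theorem dg_one : dg (1 : Fˣ) = 1 := (dgHom (F := F)).map_one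

theorem dg_pow (t : Fˣ) (n : ℕ) : dg (t ^ n) = dg t ^ n := dgHom.map_pow t n

theorem dg_inv (t : Fˣ) : dg t⁻¹ = (dg t)⁻¹ := (dgHom (F := F)).map_inv t

theorem dg_up (t : Fˣ) (x : F) : dg t * up x = up ((t : F) * t * x) * dg t := by
  refine ext2 ?_ ?_ ?_ ?_ <;> simp [mul_00, mul_01, mul_10, mul_11] <;> field_simp

theorem dg_lo (t : Fˣ) (x : F) : lo x * dg t = dg t * lo ((t : F) * t * x) := by
  refine ext2 ?_ ?_ ?_ ?_ <;> simp [mul_00, mul_01, mul_10, mul_11] <;> field_simp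

/-- an upper triangular matrix is a diagonal one times a unitriangular one -/
theorem triangular {A : SL2 F} (h : A.1 1 0 = 0) :
    ∃ (t : Fˣ) (x : F), A = dg t * up x := by
  have hd := det2 A
  rw [h, mul_zero, sub_zero] at hd
  have h0 : A.1 0 0 ≠ 0 := fun e => by simp [e] at hd
  refine ⟨Units.mk0 _ h0, A.1 0 1 / A.1 0 0, ?_⟩
  refine ext2 ?_ ?_ ?_ ?_ <;> simp [mul_00, mul_01, mul_10, mul_11, h]
  · field_simp
  · exact eq_inv_of_mul_eq_one_right hd

/-- the two root groups generate -/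
theorem gen (K : Subgroup (SL2 F)) (hu : ∀ x, up x ∈ K) (hl : ∀ x, lo x ∈ K) (A : SL2 F) : A ∈ K := by
  refine SL2.transvection_induction (fun B => B ∈ K) (fun i j hij a => ?_) (fun _ _ => K.mul_mem) A
  fin_cases i <;> fin_cases j <;> first | exact absurd rfl hij | skip
  · convert hu a using 1
    refine ext2 ?_ ?_ ?_ ?_ <;> simp [Matrix.SpecialLinearGroup.transvection_coe, Matrix.single_apply]
  · convert hl a using 1
    refine ext2 ?_ ?_ ?_ ?_ <;> simp [Matrix.SpecialLinearGroup.transvection_coe, Matrix.single_apply]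

/-- the upper root group -/
def upGroup (F : Type*) [Field F] : Subgroup (SL2 F) where
  carrier := {A | A.1 0 0 = 1 ∧ A.1 1 0 = 0 ∧ A.1 1 1 = 1}
  one_mem' := by simp
  mul_mem' := by
    rintro A B ⟨a0, a1, a2⟩ ⟨b0, b1, b2⟩
    refine ⟨?_, ?_, ?_⟩ <;> simp [mul_00, mul_10, mul_11, a0, a1, a2, b0, b1, b2]
  inv_mem' := by
    rintro A ⟨a0, a1, a2⟩
    rw [Set.mem_ofPred_eq]
    simp [Matrix.SpecialLinearGroup.coe_inv, Matrix.adjugate_fin_two, a0, a1, a2]

theorem mem_upGroup {A : SL2 F} : A ∈ upGroup F ↔ ∃ x, A = up x := by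
  constructor
  · rintro ⟨a0, a1, a2⟩
    exact ⟨A.1 0 1, ext2 (by simp [a0]) (by simp) (by simp [a1]) (by simp [a2])⟩
  · rintro ⟨x, rfl⟩
    exact ⟨rfl, rfl, rfl⟩

theorem up_mem (x : F) : up x ∈ upGroup F := mem_upGroup.2 ⟨x, rfl⟩

theorem card_upGroup : Nat.card (upGroup F) = Nat.card F :=
  (Nat.card_congr (Equiv.ofBijective (fun x : F => (⟨up x, up_mem x⟩ : upGroup F))
    ⟨fun _ _ h => up_inj (congrArg Subtype.val h), fun A => by
      obtain ⟨x, hx⟩ := mem_upGroup.1 A.2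
      exact ⟨x, Subtype.ext hx.symm⟩⟩)).symm

/-- the Weyl element -/
def wl : SL2 F := ⟨!![0, -1; 1, 0], by simp [Matrix.det_fin_two]⟩

@[simp] theorem wl_00 : (wl (F := F)).1 0 0 = 0 := rfl
@[simp] theorem wl_01 : (wl (F := F)).1 0 1 = -1 := rfl
@[simp] theorem wl_10 : (wl (F := F)).1 1 0 = 1 := rfl
@[simp] theorem wl_11 : (wl (F := F)).1 1 1 = 0 := rfl

theorem dg_wl (t : Fˣ) : dg t * wl = wl * dg t⁻¹ := by
  refine ext2 ?_ ?_ ?_ ?_ <;> simp [mul_00, mul_01, mul_10, mul_11]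

theorem wl_up (x : F) : wl * up x = lo (-x) * wl := by
  refine ext2 ?_ ?_ ?_ ?_ <;> simp [mul_00, mul_01, mul_10, mul_11]

/-- a matrix fixing every vector is the identity -/
theorem eq_one_of_fix {A : SL2 F} (h : ∀ z y : F, A.1 0 0 * z + A.1 0 1 * y = z ∧
    A.1 1 0 * z + A.1 1 1 * y = y) : A = 1 := by
  have h1 := h 1 0
  have h2 := h 0 1
  simp at h1 h2
  exact ext2 (by simp [h1.1]) (by simp [h2.1]) (by simp [h1.2]) (by simp [h2.2])

end Cfsg.Lib.LTP
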