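import Mathlib

/-!
# Groups of odd order of projective linear maps of a line
-/

set_option autoImplicit false

namespace Cfsg.Lib.LTP

open MulAction

/-- an odd group whose non-trivial elements fix none or two points of an odd set -/
theorem card_le_of_fix_two {H X : Type*} [Group H] [Finite H] [MulAction H X] [Finite X]
    (hodd : Odd (Nat.card H)) (hX : Odd (Nat.card X))
    (hfix : ∀ g : H, g ≠ 1 → Nat.card (fixedBy X g) = 0 ∨ Nat.card (fixedBy X g) = 2)
    (hab : ∀ (g k : H) (x : X), g • x = x → k • x = x → g * k = k * g) :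
    Nat.card H ≤ Nat.card X := by
  classical
  haveI := Fintype.ofFinite H
  haveI := Fintype.ofFinite X
  haveI : Fintype (Quotient (orbitRel H X)) := Fintype.ofFinite _
  have hsum := sum_card_fixedBy_eq_card_orbits_mul_card_group H X
  simp only [← Nat.card_eq_fintype_card] at hsum
  rw [← Finset.sum_erase_add _ _ (Finset.mem_univ (1 : H))] at hsum
  have h1 : Nat.card (fixedBy X (1 : H)) = Nat.card X :=
    Nat.card_congr (Equiv.subtypeUnivEquiv fun x => one_smul H x)
  rw [h1] at hsum
  set S := Finset.univ.erase (1 : H)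
  have hScard : S.card = Nat.card H - 1 := by
    rw [Finset.card_erase_of_mem (Finset.mem_univ _), Finset.card_univ, Nat.card_eq_fintype_card]
  set T := S.filter fun g => Nat.card (fixedBy X g) = 2
  have hS : ∑ g ∈ S, Nat.card (fixedBy X g) = 2 * T.card := by
    rw [Finset.card_filter, Finset.mul_sum]
    refine Finset.sum_congr rfl fun g hg => ?_
    rcases hfix g (Finset.ne_of_mem_erase hg) with e | e <;> rw [e] <;> norm_num
  rw [hS] at hsum
  have hT : T.card ≤ Nat.card H - 1 := hScard ▸ Finset.card_filter_le _ _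
  obtain ⟨a, ha⟩ := hodd
  obtain ⟨b, hb⟩ := hX
  rw [ha, hb] at hsum ⊢
  set k := Nat.card (Quotient (orbitRel H X))
  have hk0 : k ≠ 0 := fun e => by rw [e] at hsum; omega
  rcases (by omega : k = 1 ∨ k = 2 ∨ 3 ≤ k) with hk | hk | hk
  · obtain ⟨hS1, -⟩ := Nat.card_eq_one_iff_unique.1 hk
    obtain ⟨x₀⟩ : Nonempty X := (Nat.card_pos_iff.1 (by omega : 0 < Nat.card X)).1
    have htrans : ∀ x, ∃ g : H, g • x₀ = x := fun x =>
      mem_orbit_iff.1 (orbitRel_apply.1 (Quotient.exact (Subsingleton.elim
        (Quotient.mk (orbitRel H X) x) (Quotient.mk (orbitRel H X) x₀))))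
    suffices hfree : ∀ g : H, g • x₀ = x₀ → g = 1 by
      rw [← ha, ← hb]
      refine Nat.card_le_card_of_injective (fun g : H => g • x₀) fun g g' e => ?_
      have e' : g • x₀ = g' • x₀ := e
      exact inv_mul_eq_one.1 (hfree (g⁻¹ * g') (by rw [mul_smul, ← e', inv_smul_smul]))
    intro g hg
    by_contra hg1
    -- the points come in pairs
    let R : X → X → Prop := fun x y => y ≠ x ∧ ∀ k : H, k • x = x → k • y = y
    have hex : ∀ x, ∃ y, R x y := by
      intro x
      obtain ⟨c, rfl⟩ := htrans x
      have hk1 : c * g * c⁻¹ ≠ 1 := fun e => hg1 (conj_eq_one_iff.1 e)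
      have hkx : (c * g * c⁻¹) • c • x₀ = c • x₀ := by rw [mul_smul, inv_smul_smul, mul_smul, hg]
      have h2 : Nat.card (fixedBy X (c * g * c⁻¹)) = 2 := (hfix _ hk1).resolve_left fun e => by
        rw [Finite.card_eq_zero_iff] at e
        exact e.false ⟨_, hkx⟩
      rw [Nat.card_coe_set_eq, Set.ncard_eq_two] at h2
      obtain ⟨p, r, hpr, he⟩ := h2
      have hm : ∀ z, (c * g * c⁻¹) • z = z ↔ z = p ∨ z = r := fun z => by
        show z ∈ fixedBy X (c * g * c⁻¹) ↔ _
        rw [he]; simp
      obtain ⟨y, hy, hym⟩ : ∃ y, y ≠ c • x₀ ∧ ∀ z, (c * g * c⁻¹) • z = z ↔ z = c • x₀ ∨ z = y := by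
        rcases (hm _).1 hkx with e | e
        · exact ⟨r, fun e' => hpr (e.symm.trans e'.symm), fun z => by rw [hm, e]⟩
        · exact ⟨p, fun e' => hpr (e'.trans e), fun z => by rw [hm, e, or_comm]⟩
      refine ⟨y, hy, fun k hk => ?_⟩
      have e := hab _ _ _ hkx hk
      have h3 : (c * g * c⁻¹) • k • y = k • y := by
        rw [← mul_smul, e, mul_smul, (hym y).2 (Or.inr rfl)]
      exact ((hym _).1 h3).resolve_left fun e' => hy (smul_left_cancel k (e'.trans hk.symm))
    have huniq : ∀ x y y', R x y → R x y' → y = y' := by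
      intro x y y' hy hy'
      obtain ⟨c, rfl⟩ := htrans x
      have hk1 : c * g * c⁻¹ ≠ 1 := fun e => hg1 (conj_eq_one_iff.1 e)
      have hkx : (c * g * c⁻¹) • c • x₀ = c • x₀ := by rw [mul_smul, inv_smul_smul, mul_smul, hg]
      by_contra hne
      have h3 : ({c • x₀, y, y'} : Set X) ⊆ fixedBy X (c * g * c⁻¹) := by
        intro z hz
        simp only [Set.mem_insert_iff, Set.mem_singleton_iff] at hz
        rcases hz with rfl | rfl | rfl
        · exact hkx
        · exact hy.2 _ hkx
        · exact hy'.2 _ hkx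
      have h4 := Set.ncard_le_ncard h3
      rw [Set.ncard_insert_of_notMem (by simp [Ne.symm hy.1, Ne.symm hy'.1]),
        Set.ncard_insert_of_notMem (by simpa using hne), Set.ncard_singleton, ← Nat.card_coe_set_eq] at h4
      rcases hfix _ hk1 with e | e <;> omega
    choose ψ hψ using hex
    have hsymm : ∀ x, R (ψ x) x := fun x => ⟨fun e => (hψ x).1 e.symm, fun k hk => by
      -- the two stabilisers have the same order
      obtain ⟨c, hc⟩ := htrans x
      obtain ⟨d, hd⟩ := htrans (ψ x)
      have hle : stabilizer H x ≤ stabilizer H (ψ x) := fun l hl => (hψ x).2 l hl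
      have hcard : Nat.card (stabilizer H x) = Nat.card (stabilizer H (ψ x)) :=
        (Nat.card_congr (stabilizerEquivStabilizer hc.symm).toEquiv).symm.trans
          (Nat.card_congr (stabilizerEquivStabilizer hd.symm).toEquiv)
      exact (Subgroup.eq_of_le_of_card_ge hle hcard.ge ▸ hk : k ∈ stabilizer H x)⟩
    have h0 : ∑ _x : X, (1 : ZMod 2) = 0 :=
      Finset.sum_involution (fun x _ => ψ x) (fun x _ => by decide)
        (fun x _ _ => (hψ x).1) (fun x _ => Finset.mem_univ _)
        (fun x _ => huniq _ _ _ (hψ (ψ x)) (hsymm x))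
    simp only [Finset.sum_const, Finset.card_univ, nsmul_eq_mul, mul_one] at h0
    rw [← Nat.card_eq_fintype_card, hb, ZMod.natCast_eq_zero_iff_even] at h0
    exact (Nat.not_even_iff_odd.2 ⟨b, rfl⟩) h0
  · rw [hk] at hsum
    omega
  · have : 3 * (2 * a + 1) ≤ k * (2 * a + 1) := Nat.mul_le_mul_right _ hk
    omega

variable {F : Type*} [Field F]

theorem decompose {u : F × F} (hu : u ≠ 0) :
    ∃ w : F × F, ∀ v : F × F, ∃ a b : F, v = a • u + b • w := by
  by_cases h1 : u.1 = 0
  · have h2 : u.2 ≠ 0 := fun e => hu (Prod.ext h1 e)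
    refine ⟨(1, 0), fun v => ⟨v.2 / u.2, v.1, ?_⟩⟩
    refine Prod.ext ?_ ?_ <;> simp [h1, h2]
  · refine ⟨(0, 1), fun v => ⟨v.1 / u.1, v.2 - v.1 / u.1 * u.2, ?_⟩⟩
    refine Prod.ext ?_ ?_ <;> simp [h1]

variable [Fintype F] [CharP F 2]

/-- **odd groups of linear maps of the plane modulo scalars** -/
theorem odd_linear_bound {K : Type*} [Group K] [Finite K] (hodd : Odd (Nat.card K))
    (ρ : K →* ((F × F) ≃ₗ[F] (F × F))) :
    ∃ κ : K → Fin (Fintype.card F + 1),
      ∀ a b, κ a = κ b → ∃ c : F, ∀ w, ρ a w = ρ b (c • w) := by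
  classical
  let P := Projectivization F (F × F)
  have hsm : ∀ (a : K) (c : F) (w : F × F), ρ a (c • w) = c • ρ a w := fun a c w => map_smul (ρ a) c w
  let mapP : K → P → P := fun a p => Projectivization.mk F (ρ a p.rep)
    (fun e => p.rep_nonzero ((ρ a).map_eq_zero_iff.1 e))
  have hmk : ∀ (a : K) (v : F × F) (hv : v ≠ 0), mapP a (Projectivization.mk F v hv) =
      Projectivization.mk F (ρ a v) (fun e => hv ((ρ a).map_eq_zero_iff.1 e)) := fun a v hv => by
    obtain ⟨c, hc⟩ := (Projectivization.mk_eq_mk_iff' F _ _ (Projectivization.rep_nonzero _) hv).1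
      (Projectivization.mk_rep (Projectivization.mk F v hv))
    refine (Projectivization.mk_eq_mk_iff' F _ _ _ _).2 ⟨c, ?_⟩
    rw [← hsm, hc]
  letI act : MulAction K P :=
    { smul := mapP
      one_smul := fun p => by
        show mapP 1 p = p
        conv_rhs => rw [← p.mk_rep]
        refine (Projectivization.mk_eq_mk_iff' F _ _ _ _).2 ⟨1, ?_⟩
        rw [one_smul, map_one]; rfl
      mul_smul := fun a b p => by
        show mapP (a * b) p = mapP a (mapP b p)
        obtain ⟨v, hv, rfl⟩ : ∃ v, ∃ hv : v ≠ 0, p = Projectivization.mk F v hv :=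
          ⟨p.rep, p.rep_nonzero, p.mk_rep.symm⟩
        rw [hmk (a * b) v hv, hmk b v hv, hmk a]
        refine (Projectivization.mk_eq_mk_iff' F _ _ _ _).2 ⟨1, ?_⟩
        rw [one_smul, map_mul]; rfl }
  have hmk' : ∀ (a : K) (v : F × F) (hv : v ≠ 0), a • Projectivization.mk F v hv =
      Projectivization.mk F (ρ a v) (fun e => hv ((ρ a).map_eq_zero_iff.1 e)) := hmk
  -- fixed points are eigenvectors
  have heig : ∀ (a : K) (v : F × F) (hv : v ≠ 0), a • Projectivization.mk F v hv = Projectivization.mk F v hv →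
      ∃ c : F, ρ a v = c • v := fun a v hv e => by
    rw [hmk'] at e
    obtain ⟨c, hc⟩ := (Projectivization.mk_eq_mk_iff' F _ _ _ hv).1 e
    exact ⟨c, hc.symm⟩
  set f : K →* Equiv.Perm P := toPermHom K P
  have happ : ∀ (a : K) (p : P), f a p = a • p := fun _ _ => rfl
  let R := f.range
  have hRodd : Odd (Nat.card R) := hodd.of_dvd_nat (Subgroup.card_range_dvd f)
  have hone : ∀ a : K, (∀ v : F × F, ρ a (ρ a v) = v) → ρ a = 1 := by
    intro a h
    obtain ⟨m, hm⟩ := hodd
    have h2 : ρ a ^ 2 = 1 := by
      rw [pow_two]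
      exact LinearEquiv.ext h
    have h3 : a ^ Nat.card K = 1 := pow_card_eq_one'
    have := congrArg ρ h3
    rwa [hm, map_pow, pow_succ, pow_mul, h2, one_pow, one_mul, map_one] at this
  have hP : Nat.card P = Fintype.card F + 1 := by
    rw [Projectivization.card_of_finrank F (F × F) (n := 2) (by simp), Finset.sum_range_succ,
      Finset.sum_range_one, Nat.card_eq_fintype_card]
    ring
  haveI : Finite P := Nat.finite_of_card_ne_zero (by omega)
  have hPodd : Odd (Nat.card P) := by
    obtain ⟨n, -, hn⟩ := FiniteField.card F 2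
    rw [hP, hn]
    exact ⟨2 ^ ((n : ℕ) - 1), by rw [← pow_succ', Nat.sub_add_cancel n.pos]⟩
  have hle : Nat.card R ≤ Nat.card P := by
    refine card_le_of_fix_two hRodd hPodd ?_ ?_
    · rintro ⟨_, a, rfl⟩ hg
      have hfx : fixedBy P (⟨f a, a, rfl⟩ : R) = fixedBy P a := rfl
      rw [hfx]
      by_cases h0 : Nat.card (fixedBy P a) = 0
      · exact Or.inl h0
      right
      obtain ⟨⟨p, hp⟩⟩ : Nonempty (fixedBy P a) := (Nat.card_pos_iff.1 (Nat.pos_of_ne_zero h0)).1
      obtain ⟨u, hu, rfl⟩ : ∃ u, ∃ hu : u ≠ 0, p = Projectivization.mk F u hu :=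
        ⟨p.rep, p.rep_nonzero, p.mk_rep.symm⟩
      obtain ⟨c, hc⟩ := heig a u hu hp
      obtain ⟨w, hw⟩ := decompose hu
      obtain ⟨s, d, hs⟩ := hw (ρ a w)
      have hc0 : c ≠ 0 := fun e => hu ((ρ a).map_eq_zero_iff.1 (by rw [hc, e, zero_smul]))
      have hcd : c ≠ d := by
        intro e
        subst e
        refine hg (Subtype.ext ?_)
        show f a = 1
        obtain ⟨m, hm⟩ := hodd
        have h3 : a = (a * a) ^ (m + 1) := by
          rw [← pow_two, ← pow_mul, show 2 * (m + 1) = Nat.card K + 1 by omega, pow_succ, pow_card_eq_one',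
            one_mul]
        have h4 : f (a * a) = 1 := Equiv.ext fun q => by
          obtain ⟨v, hv, rfl⟩ : ∃ v, ∃ hv : v ≠ 0, q = Projectivization.mk F v hv :=
            ⟨q.rep, q.rep_nonzero, q.mk_rep.symm⟩
          rw [happ, hmk']
          refine (Projectivization.mk_eq_mk_iff' F _ _ _ hv).2 ⟨c * c, ?_⟩
          obtain ⟨x, y, rfl⟩ := hw v
          rw [map_mul, LinearEquiv.mul_apply]
          simp only [map_add, map_smul, hc, hs, smul_add, smul_smul]
          match_scalars <;> first | ring1 | linear_combination (c * y * s) * CharTwo.two_eq_zero (R := F) | linear_combination (-(c * y * s)) * CharTwo.two_eq_zero (R := F)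
        rw [h3, map_pow, h4, one_pow]
      have hdc : d - c ≠ 0 := sub_ne_zero.2 (Ne.symm hcd)
      set u' : F × F := (s / (d - c)) • u + w
      have hw0 : w ≠ 0 := by
        intro e
        subst e
        obtain ⟨x, y, hxy⟩ := hw (if u.1 = 0 then (1, 0) else (0, 1))
        rw [smul_zero, add_zero] at hxy
        split_ifs at hxy with h1
        · exact one_ne_zero (α := F) (by simpa [h1] using congrArg Prod.fst hxy)
        · have e1 := congrArg Prod.fst hxy
          have e2 := congrArg Prod.snd hxy
          simp [h1] at e1 e2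
          subst e1
          simp at e2
      have huw : ∀ x y : F, x • u + y • w = 0 → y = 0 := by
        intro x y h
        by_contra hy
        have hwu : w = (-(x / y)) • u := by
          have h2 := congrArg (fun v => y⁻¹ • v) h
          simp only [smul_add, smul_smul, smul_zero, inv_mul_cancel₀ hy, one_smul] at h2
          rw [neg_smul, eq_neg_iff_add_eq_zero, add_comm, div_eq_inv_mul]
          exact h2
        obtain ⟨X', Y', hXY⟩ := hw (if u.1 = 0 then (1, 0) else (0, 1))
        rw [hwu] at hXY
        split_ifs at hXY with h1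
        · exact one_ne_zero (α := F) (by simpa [h1] using congrArg Prod.fst hXY)
        · have e1 := congrArg Prod.fst hXY
          have e2 := congrArg Prod.snd hXY
          simp only [Prod.fst_add, Prod.snd_add, Prod.smul_fst, Prod.smul_snd, smul_eq_mul] at e1 e2
          exact one_ne_zero (α := F) (mul_right_cancel₀ h1
            (by linear_combination u.1 * e2 - u.2 * e1))
      have hu' : u' ≠ 0 := fun e => one_ne_zero (huw (s / (d - c)) 1 (by rw [one_smul]; exact e))
      have hau' : ρ a u' = d • u' := by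
        simp only [u', map_add, map_smul, hc, hs, smul_add, smul_smul]
        match_scalars <;> field_simp <;> ring
      have hne : Projectivization.mk F u hu ≠ Projectivization.mk F u' hu' := fun e => by
        obtain ⟨t, ht⟩ := (Projectivization.mk_eq_mk_iff' F _ _ hu hu').1 e
        simp only [u', smul_add, smul_smul] at ht
        have ht0 : t = 0 := huw (t * (s / (d - c)) - 1) t (by
          rw [sub_smul, one_smul, sub_add_eq_add_sub, ht, sub_self])
        rw [ht0, zero_mul, zero_smul, zero_smul, zero_add] at ht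
        exact hu ht.symm
      rw [Nat.card_coe_set_eq, Set.ncard_eq_two]
      refine ⟨_, _, hne, Set.ext fun q => ⟨fun hq => ?_, ?_⟩⟩
      · obtain ⟨v, hv, rfl⟩ : ∃ v, ∃ hv : v ≠ 0, q = Projectivization.mk F v hv :=
          ⟨q.rep, q.rep_nonzero, q.mk_rep.symm⟩
        obtain ⟨e, he⟩ := heig a v hv hq
        obtain ⟨x, y, rfl⟩ := hw v
        have hv' : x • u + y • w = (x - y * (s / (d - c))) • u + y • u' := by
          simp only [u', smul_add, smul_smul]
          match_scalars <;> ring
        have he2 : ((x - y * (s / (d - c))) * (c - e)) • u + (y * (d - e)) • u' = 0 := by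
          rw [hv', map_add, map_smul, map_smul, hc, hau', ← sub_eq_zero] at he
          rw [← he]
          simp only [u', smul_add, smul_smul]
          match_scalars <;> ring
        have he3 : y * (d - e) = 0 := by
          refine huw ((x - y * (s / (d - c))) * (c - e) + y * (d - e) * (s / (d - c))) _ ?_
          rw [← he2]
          simp only [u', smul_add, smul_smul]
          match_scalars <;> ring
        rw [he3, zero_smul, add_zero, smul_eq_zero] at he2
        have he4 := he2.resolve_right hu
        simp only [Set.mem_insert_iff, Set.mem_singleton_iff]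
        rcases mul_eq_zero.1 he3 with hy | hy
        · left
          refine (Projectivization.mk_eq_mk_iff' F _ _ _ _).2 ⟨x, ?_⟩
          rw [hy, zero_smul, add_zero]
        · right
          have hx : x - y * (s / (d - c)) = 0 := (mul_eq_zero.1 he4).resolve_right fun e' =>
            hcd ((sub_eq_zero.1 e').trans (sub_eq_zero.1 hy).symm)
          refine (Projectivization.mk_eq_mk_iff' F _ _ _ _).2 ⟨y, ?_⟩
          rw [hv', hx, zero_smul, zero_add]
      · simp only [Set.mem_insert_iff, Set.mem_singleton_iff]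
        rintro (rfl | rfl)
        · exact hp
        · show a • Projectivization.mk F u' hu' = _
          rw [hmk']
          exact (Projectivization.mk_eq_mk_iff' F _ _ _ _).2 ⟨d, hau'.symm⟩
    · rintro ⟨_, a, rfl⟩ ⟨_, b, rfl⟩ p hga hgb
      obtain ⟨u, hu, rfl⟩ : ∃ u, ∃ hu : u ≠ 0, p = Projectivization.mk F u hu :=
        ⟨p.rep, p.rep_nonzero, p.mk_rep.symm⟩
      obtain ⟨c, hc⟩ := heig a u hu hga
      obtain ⟨e, he⟩ := heig b u hu hgb
      obtain ⟨w, hw⟩ := decompose hu
      obtain ⟨s, d, hs⟩ := hw (ρ a w)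
      obtain ⟨s', d', hs'⟩ := hw (ρ b w)
      set k := a * b * (b * a)⁻¹
      have hmod : ∀ v, ∃ r : F, ρ k v = v + r • u := by
        intro v
        obtain ⟨v', rfl⟩ := (ρ (b * a)).surjective v
        obtain ⟨x, y, rfl⟩ := hw v'
        refine ⟨(x * (c * e) + y * (s' * c + d' * s)) - (x * (e * c) + y * (s * e + d * s')), ?_⟩
        rw [← LinearEquiv.mul_apply, ← map_mul, show k * (b * a) = a * b by simp only [k]; group,
          map_mul, map_mul, LinearEquiv.mul_apply, LinearEquiv.mul_apply]
        simp only [map_add, map_smul, hc, he, hs, hs', smul_add, smul_smul]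
        match_scalars <;> ring
      have hku : ρ k u = u := by
        have h1 : ρ (b * a) u = (e * c) • u := by
          rw [map_mul, LinearEquiv.mul_apply, hc, map_smul, he, smul_smul, mul_comm]
        have h2 : ρ k (ρ (b * a) u) = (e * c) • u := by
          rw [← LinearEquiv.mul_apply, ← map_mul, show k * (b * a) = a * b by simp only [k]; group, map_mul,
            LinearEquiv.mul_apply, he, map_smul, hc, smul_smul]
        rw [h1, map_smul] at h2
        have hec : e * c ≠ 0 := fun e' => hu ((ρ (b * a)).map_eq_zero_iff.1 (by rw [h1, e', zero_smul]))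
        exact smul_right_injective (F × F) hec h2
      have hk : ρ k = 1 := hone k fun v => by
        obtain ⟨r, hr⟩ := hmod v
        rw [hr, map_add, map_smul, hku, hr, add_assoc, ← add_smul, CharTwo.add_self_eq_zero, zero_smul,
          add_zero]
      refine Subtype.ext ?_
      show f a * f b = f b * f a
      rw [← map_mul, ← map_mul]
      refine Equiv.ext fun q => ?_
      obtain ⟨v, hv, rfl⟩ : ∃ v, ∃ hv : v ≠ 0, q = Projectivization.mk F v hv :=
        ⟨q.rep, q.rep_nonzero, q.mk_rep.symm⟩
      rw [happ, happ, hmk', hmk']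
      refine (Projectivization.mk_eq_mk_iff' F _ _ _ _).2 ⟨1, ?_⟩
      rw [one_smul, show a * b = k * (b * a) by simp only [k]; group, map_mul ρ k, hk, one_mul]
  rw [hP] at hle
  haveI : Fintype R := Fintype.ofFinite R
  rw [Nat.card_eq_fintype_card] at hle
  refine ⟨fun a => Fin.castLE hle (Fintype.equivFin R ⟨f a, a, rfl⟩), fun a b hab => ?_⟩
  have hfab : f a = f b := congrArg Subtype.val ((Fintype.equivFin R).injective (Fin.castLE_injective hle hab))
  have hall : ∀ v : F × F, v ≠ 0 → ∃ c : F, ρ (b⁻¹ * a) v = c • v := fun v hv =>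
    heig _ v hv (by rw [← happ, map_mul, map_inv, hfab, inv_mul_cancel]; rfl)
  obtain ⟨c1, h1⟩ := hall (1, 0) (by simp)
  obtain ⟨c2, h2⟩ := hall (0, 1) (by simp)
  obtain ⟨c3, h3⟩ := hall (1, 1) (by simp)
  have hsum : ((1, 1) : F × F) = (1, 0) + (0, 1) := by simp
  rw [hsum, map_add, h1, h2, ← hsum] at h3
  have e1 := congrArg Prod.fst h3
  have e2 := congrArg Prod.snd h3
  simp at e1 e2
  refine ⟨c1, fun v => ?_⟩
  have hv : v = v.1 • ((1, 0) : F × F) + v.2 • (0, 1) := by ext <;> simp
  have hk : ρ (b⁻¹ * a) v = c1 • v := by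
    conv_lhs => rw [hv]
    rw [map_add, map_smul, map_smul, h1, h2]
    refine Prod.ext ?_ ?_
    · simp [mul_comm]
    · simp [e2.trans e1.symm, mul_comm]
  rw [← hk, ← LinearEquiv.mul_apply, ← map_mul, mul_inv_cancel_left]

end Cfsg.Lib.LTP
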