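import Cfsg.Agent.LThreePlane.OuterBasic

/-!
# No field automorphism of order two; the shape of a Sylow subgroup
-/

set_option autoImplicit false

namespace Cfsg.Lib.LTP

open Subgroup

variable {F : Type*} [Field F] [Fintype F] [CharP F 2] {G : Type*} [Group G] [Finite G]

namespace Hyp

variable {D : Duo F G} (h : Hyp D)
include h

/-- no outer involution when the core of its centraliser meets the centre -/
theorem core_avoids {x : G} {σ : F ≃+* F} {α δ : F} (T : D.Tri x σ α δ) (hxs : x ∈ D.stab)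
    (h2 : x * x = 1) (hσ1 : σ ≠ 1) {z : F}
    (hzR : D.one.v z 0 ∈ Cfsg.pCoreOf 2 (normalizer (zpowers x : Set G))) : z = 0 := by
  by_contra hz
  set X := normalizer (zpowers x : Set G)
  set R := Cfsg.pCoreOf 2 X
  have hx1 : x ≠ 1 := fun e => by
    subst e
    exact hσ1 (Duo.Tri.unique T Duo.tri_one).1
  have hX : ∀ k, k ∈ X ↔ k * x = x * k := fun k => mem_norm_invol h2 hx1
  have hR : IsPGroup 2 ↥R := Cfsg.Lib.JComp.isPGroup_pCoreOf _
  have hXR : X ≤ normalizer (R : Set G) :=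
    le_normalizer.trans (Cfsg.Lib.JComp.normalizer_le_pCoreOf 2 X)
  have hzf : α * σ z = z := by
    have e := T.za z
    rw [← (hX _).1 (Cfsg.Lib.JComp.pCoreOf_le X hzR), mul_inv_cancel_right] at e
    exact (D.one.v_inj _ _ _ _ e).1.symm
  obtain ⟨l, hl, hlx, hN⟩ := T.lower h2 hσ1 (h.norm1 ▸ hxs.1) hz hzf
  obtain ⟨l', hl', hlx', hN'⟩ :=
    T.swapT.lower h2 hσ1 (show x ∈ normalizer (D.two.L : Set G) from h.norm2 ▸ hxs.2) hz hzf
  set q₀ := l' * D.one.v z 0 * l'⁻¹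
  have hq₀R : q₀ ∈ R := (mem_normalizer_iff.1 (hXR ((hX l').2 hlx')) _).1 hzR
  have hq₀V : q₀ ∈ D.two.V := D.two.conj_mem hl' (D.z_mem2 z)
  set c := (D.two.π ⟨l', hl'⟩).1 1 0 * z
  have hq₀ : ∃ p, q₀ = D.two.v p c := ⟨_, by
    show l' * D.one.v z 0 * l'⁻¹ = _
    rw [D.hz, D.two.act l' hl', mul_zero, add_zero, mul_zero, add_zero]⟩
  obtain ⟨p, hp⟩ := hq₀
  have hq₀L : q₀ ∈ D.one.L := D.h21 hq₀V
  have hπ : D.one.π ⟨q₀, hq₀L⟩ = up c := by
    rw [show (⟨q₀, hq₀L⟩ : ↥D.one.L) = ⟨D.two.v p c, D.h21 (D.two.v_mem p c)⟩ from Subtype.ext hp, D.up1]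
  set g := q₀ * (l * q₀ * l⁻¹)
  have hgR : g ∈ R := R.mul_mem hq₀R ((mem_normalizer_iff.1 (hXR ((hX l).2 hlx)) _).1 hq₀R)
  have hgL : g ∈ D.one.L := mul_mem hq₀L (mul_mem (mul_mem hl hq₀L) (inv_mem hl))
  obtain ⟨k, hk⟩ := hR ⟨g, hgR⟩
  have hk' : (⟨g, hgL⟩ : ↥D.one.L) ^ 2 ^ k = 1 := Subtype.ext (by
    show g ^ 2 ^ k = 1
    exact congrArg Subtype.val hk)
  have hπg : D.one.π ⟨g, hgL⟩ =
      up c * (D.one.π ⟨l, hl⟩ * up c * (D.one.π ⟨l, hl⟩)⁻¹) := by
    rw [← hπ, ← map_inv, ← map_mul, ← map_mul, ← map_mul]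
    rfl
  have h0 := trace_two k _ (by rw [← map_pow, hk', map_one] : D.one.π ⟨g, hgL⟩ ^ 2 ^ k = 1)
  rw [hπg, trace_conj_up] at h0
  have hc : c ≠ 0 := mul_ne_zero hN' hz
  exact mul_ne_zero (mul_ne_zero hc hc) (mul_ne_zero hN hN) h0

/-- **no outer involution in the stabiliser** -/
theorem no_outer (hq : 8 ≤ Fintype.card F) {x : G} {σ : F ≃+* F} {α δ : F} (T : D.Tri x σ α δ)
    (hxs : x ∈ D.stab) (h2 : x * x = 1) (hσ1 : σ ≠ 1) : False := by
  set X := normalizer (zpowers x : Set G)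
  set R := Cfsg.pCoreOf 2 X
  obtain ⟨hs, ha, hd⟩ := T.sq h2
  have hx1 : x ≠ 1 := fun e => by
    subst e
    exact hσ1 (Duo.Tri.unique T Duo.tri_one).1
  have hX : ∀ k, k ∈ X ↔ k * x = x * k := fun k => mem_norm_invol h2 hx1
  have hT2 : IsPGroup 2 ↥(zpowers x) := two_of_pow (k := 1) (by rw [pow_one, pow_two, h2])
  have hR : IsPGroup 2 ↥R := Cfsg.Lib.JComp.isPGroup_pCoreOf _
  have hRX : R ≤ X := Cfsg.Lib.JComp.pCoreOf_le X
  have hXR : X ≤ normalizer (R : Set G) :=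
    le_normalizer.trans (Cfsg.Lib.JComp.normalizer_le_pCoreOf 2 X)
  have hxR : zpowers x ≤ R :=
    Cfsg.Lib.JComp.le_pCoreOf hT2 (zpowers_le.2 ((hX x).2 rfl)) le_rfl
  have hno : ∀ z, D.one.v z 0 ∈ R → z = 0 := fun z hz => h.core_avoids T hxs h2 hσ1 hz
  have hr4 : 3 ≤ Nat.card (fixSet σ α) := by
    have := (fixSet_sq hs hσ1 ha).1
    nlinarith
  obtain ⟨y₁, hy₁, hy₁f⟩ := fix_ne_zero hs hσ1 hd
  obtain ⟨x₂, hx₂, hx₂f⟩ := fix_ne_zero hs hσ1 (T.swapT.sq h2).2.2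
  obtain ⟨w₁, hw₁⟩ := T.exists_fix h2 hσ1 hy₁f
  obtain ⟨w₂, hw₂⟩ := T.swapT.exists_fix h2 hσ1 hx₂f
  have he₁X : D.one.v w₁ y₁ ∈ X := (hX _).2 hw₁.symm
  have he₂X : D.two.v w₂ x₂ ∈ X := (hX _).2 (Eq.symm hw₂)
  have hRJ : ∀ r ∈ R, r ∈ D.J → r = 1 := by
    intro r hr hrJ
    obtain ⟨z, y, x', rfl⟩ := hrJ
    have hcom : ∀ e ∈ X, e * D.j z y x' * e⁻¹ * (D.j z y x')⁻¹ ∈ R := fun e he =>
      R.mul_mem ((mem_normalizer_iff.1 (hXR he) _).1 hr) (inv_mem hr)
    have h1 := hcom _ he₁X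
    rw [D.one_eq_j, D.comm_j, zero_mul, zero_add] at h1
    have hx' : x' = 0 := (mul_eq_zero.1 (hno _ h1)).resolve_right hy₁
    have h3 := hcom _ he₂X
    rw [D.two_eq_j, D.comm_j, mul_zero, add_zero] at h3
    have hy : y = 0 := (mul_eq_zero.1 (hno _ h3)).resolve_left hx₂
    subst hx' hy
    rw [← D.one_eq_j] at hr
    rw [hno z hr, D.j_zero]
  -- the centralisers in the core
  have hcent : ∀ z, z ≠ 0 → α * σ z = z → ∀ r ∈ R, r * D.one.v z 0 = D.one.v z 0 * r → r = 1 ∨ r = x := by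
    intro z hz hzf r hr hcz
    have hzX : ∀ w, α * σ w = w → D.one.v w 0 ∈ X := fun w hw =>
      (hX _).2 (mul_inv_eq_iff_eq_mul.1 (by rw [T.za, hw])).symm
    have hcom : ∀ r ∈ R, r ∈ normalizer (D.J : Set G) → ∀ u ∈ D.J, u ∈ X → r * u = u * r := by
      intro r hr hrn u hu huX
      have h1 : r * u * r⁻¹ * u⁻¹ ∈ R := by
        have := R.mul_mem hr ((mem_normalizer_iff.1 (hXR huX) r⁻¹).1 (inv_mem hr))
        rwa [show r * (u * r⁻¹ * u⁻¹) = r * u * r⁻¹ * u⁻¹ by group] at this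
      exact mul_inv_eq_iff_eq_mul.1 (mul_inv_eq_one.1
        (hRJ _ h1 (D.J.mul_mem ((mem_normalizer_iff.1 hrn u).1 hu) (inv_mem hu))))
    have hstab : ∀ r ∈ R, r ∈ normalizer (D.J : Set G) → r ∈ D.stab := by
      intro r hr hrn
      refine (D.norm_J_cases hrn).resolve_right fun hsw => ?_
      have e := hcom r hr hrn _ (D.V1_le_J (D.one.v_mem w₁ y₁)) he₁X
      have h1 : D.one.v w₁ y₁ ∈ D.two.V := by
        have := hsw.1 ▸ cjg_mem (g := r) (D.one.v_mem w₁ y₁)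
        rwa [e, mul_inv_cancel_right] at this
      obtain ⟨w, hw⟩ := D.inter_eq (D.one.v_mem w₁ y₁) h1
      exact hy₁ (D.one.v_inj _ _ _ _ hw).2
    have htriv : ∀ r ∈ R, r ∈ normalizer (D.J : Set G) → ∀ β ε, D.Tri r (RingEquiv.refl F) β ε → r = 1 := by
      intro r hr hrn β ε Tr
      have hrs := hstab r hr hrn
      have hβ : β = 1 := by
        have e := Tr.za z
        rw [hcom r hr hrn _ (D.V1_le_J (D.one.v_mem z 0)) (hzX z hzf), mul_inv_cancel_right] at e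
        exact (mul_eq_right₀ hz).1 (D.one.v_inj _ _ _ _ e).1.symm
      have hε : ε = 1 := by
        obtain ⟨p, hp⟩ := Tr.full w₁ y₁
        rw [hcom r hr hrn _ (D.V1_le_J (D.one.v_mem w₁ y₁)) he₁X, mul_inv_cancel_right] at hp
        exact (mul_eq_right₀ hy₁).1 (D.one.v_inj _ _ _ _ hp).2.symm
      subst hβ hε
      exact hRJ r hr (h.mem_J_of_tri Tr hrs.1)
    have hrn := h.cent_z hq hz hcz
    have hrs := hstab r hr hrn
    obtain ⟨τ, β, ε, Tr⟩ := D.exists_tri hrs.1 hrs.2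
    have hτ : ∀ s, σ s = s → τ s = s := fun s hsf => by
      have e := fun w (hw : α * σ w = w) => by
        have e := Tr.za w
        rw [hcom r hr hrn _ (D.V1_le_J (D.one.v_mem w 0)) (hzX w hw), mul_inv_cancel_right] at e
        exact (D.one.v_inj _ _ _ _ e).1.symm
      have h1 : β * τ z = z := e z hzf
      have h2' : β * τ (s * z) = s * z := e (s * z) (by rw [map_mul, hsf, mul_left_comm, hzf])
      rw [map_mul, mul_left_comm, h1] at h2'
      exact mul_right_cancel₀ hz h2'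
    rcases fixer hs hτ with e | e
    · subst e
      exact Or.inl (htriv r hr hrn β ε Tr)
    · subst e
      have hxR' : x ∈ R := hxR (mem_zpowers x)
      have hrx : r * x ∈ normalizer (D.J : Set G) := mul_mem hrn (D.stab_J hxs)
      have S := Tr.mul T
      have hr0 : τ.trans τ = RingEquiv.refl F :=
        RingEquiv.ext fun w => congrArg (fun f : F ≃+* F => f w) hs
      rw [hr0] at S
      have := htriv _ (R.mul_mem hr hxR') hrx _ _ S
      right
      rw [eq_inv_of_mul_eq_one_left this, inv_eq_of_mul_eq_one_right h2]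
  -- the fixed part of the centre
  set Z₀ := D.one.V ⊓ D.two.V ⊓ X
  have hZ₀ : ∀ u ∈ Z₀, ∃ z, α * σ z = z ∧ u = D.one.v z 0 := by
    rintro u ⟨⟨hu1, hu2⟩, hu3⟩
    obtain ⟨z, rfl⟩ := D.inter_eq hu1 hu2
    have e := T.za z
    rw [← (hX _).1 hu3, mul_inv_cancel_right] at e
    exact ⟨z, (D.one.v_inj _ _ _ _ e).1.symm, rfl⟩
  have hZ₀mem : ∀ z, α * σ z = z → D.one.v z 0 ∈ Z₀ := fun z hz =>
    ⟨⟨D.one.v_mem z 0, D.z_mem2 z⟩, (hX _).2 (mul_inv_eq_iff_eq_mul.1 (by rw [T.za, hz])).symm⟩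
  have hZ₀X : Z₀ ≤ X := inf_le_right
  have hZ₀2 : IsPGroup 2 ↥Z₀ := D.one.V_two.to_le (inf_le_left.trans inf_le_left)
  -- the core is generated by the involution
  have hRx : ∀ r ∈ R, r = 1 ∨ r = x := by
    by_contra hne
    push Not at hne
    obtain ⟨r₀, hr₀, hr₀1, hr₀x⟩ := hne
    set P := R ⊔ Z₀
    have hP : IsPGroup 2 ↥P := hR.to_sup_of_normal_left' hZ₀2 (hZ₀X.trans hXR)
    haveI : Fact (Nat.Prime 2) := ⟨Nat.prime_two⟩
    haveI := hP.isNilpotent
    set H := zpowers x ⊔ Z₀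
    have hHR : ∀ g ∈ H, g ∈ R → g ∈ zpowers x := by
      intro g hg hgR
      rw [← SetLike.mem_coe, coe_mul_of_right_le_normalizer_left (zpowers x) Z₀ hZ₀X] at hg
      obtain ⟨a, ha, u, hu, rfl⟩ := hg
      obtain ⟨z, -, rfl⟩ := hZ₀ u hu
      have := R.mul_mem (inv_mem (hxR ha)) hgR
      rw [inv_mul_cancel_left] at this
      show a * D.one.v z 0 ∈ zpowers x
      rw [hno z this, D.one.v_zero, mul_one]
      exact ha
    have hsub : H.subgroupOf P < ⊤ := lt_top_iff_ne_top.2 fun e => by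
      rcases mem_zpowers_invol h2 (hHR r₀ (subgroupOf_eq_top.1 e (mem_sup_left hr₀)) hr₀) with e' | e'
      exacts [hr₀1 e', hr₀x e']
    obtain ⟨⟨p, hpP⟩, hpn, hpH⟩ := SetLike.exists_of_lt (normalizerCondition_of_isNilpotent _ hsub)
    have hpP' := hpP
    rw [← SetLike.mem_coe, coe_mul_of_right_le_normalizer_left R Z₀ (hZ₀X.trans hXR)] at hpP'
    obtain ⟨r, hr, u, hu, rfl⟩ := hpP'
    have hrH : r ∉ H := fun hrH => hpH (mem_subgroupOf.2 (H.mul_mem hrH (mem_sup_right hu)))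
    have hHP : H ≤ P := sup_le (hxR.trans le_sup_left) le_sup_right
    have hconj : ∀ v ∈ Z₀, r * v * r⁻¹ * v⁻¹ ∈ zpowers x := by
      intro v hv
      refine hHR _ ?_ ?_
      · have h1 : r * u * v * (r * u)⁻¹ ∈ H :=
          (mem_normalizer_iff.1 hpn ⟨v, hHP (mem_sup_right hv)⟩).1 (mem_sup_right hv)
        have huv : u * v = v * u := D.one.comm_V hu.1.1 hv.1.1
        rw [show r * u * v * (r * u)⁻¹ = r * (u * v * u⁻¹) * r⁻¹ by group, huv, mul_inv_cancel_right] at h1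
        exact H.mul_mem h1 (inv_mem (mem_sup_right hv))
      · have := R.mul_mem hr ((mem_normalizer_iff.1 (hXR (hZ₀X hv)) r⁻¹).1 (inv_mem hr))
        rwa [show r * (v * r⁻¹ * v⁻¹) = r * v * r⁻¹ * v⁻¹ by group] at this
    have hno1 : ∀ v ∈ Z₀, r * v * r⁻¹ * v⁻¹ = 1 → v = 1 := by
      intro v hv e
      obtain ⟨z, hzf, rfl⟩ := hZ₀ v hv
      by_contra hv1
      have hz : z ≠ 0 := fun e' => hv1 (by rw [e', D.one.v_zero])
      refine hrH ?_
      rcases hcent z hz hzf r hr (mul_inv_eq_iff_eq_mul.1 (mul_inv_eq_one.1 e)) with e' | e'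
      · rw [e']; exact one_mem H
      · rw [e']; exact mem_sup_left (mem_zpowers x)
    have hinj : ∀ v ∈ Z₀, ∀ v' ∈ Z₀, r * v * r⁻¹ * v⁻¹ = x → r * v' * r⁻¹ * v'⁻¹ = x → v = v' := by
      intro v hv v' hv' e e'
      have hvi : v'⁻¹ = v' := D.one.inv_V hv'.1.1
      refine eq_of_mul_inv_eq_one (hno1 _ (Z₀.mul_mem hv (inv_mem hv')) ?_)
      rw [hvi, show r * (v * v') * r⁻¹ * (v * v')⁻¹ =
        r * v * r⁻¹ * v⁻¹ * (v * (r * v' * r⁻¹ * v'⁻¹) * v⁻¹) by group, e, e', (hX v).1 (hZ₀X hv),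
        mul_inv_cancel_right, h2]
    haveI : Fintype (fixSet σ α) := Fintype.ofFinite _
    obtain ⟨a, b, c, hab, hac, hbc⟩ :=
      Fintype.two_lt_card_iff.1 (Nat.card_eq_fintype_card (α := fixSet σ α) ▸ hr4)
    have key : ∀ a : fixSet σ α, r * D.one.v a 0 * r⁻¹ * (D.one.v a 0)⁻¹ = 1 ∧ (a : F) = 0 ∨
        r * D.one.v a 0 * r⁻¹ * (D.one.v a 0)⁻¹ = x := fun a => by
      rcases mem_zpowers_invol h2 (hconj _ (hZ₀mem _ a.2)) with e | e
      · exact Or.inl ⟨e, (D.one.v_eq_one.1 (hno1 _ (hZ₀mem _ a.2) e)).1⟩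
      · exact Or.inr e
    have two : ∀ a b : fixSet σ α, (r * D.one.v a 0 * r⁻¹ * (D.one.v a 0)⁻¹ = x) →
        (r * D.one.v b 0 * r⁻¹ * (D.one.v b 0)⁻¹ = x) → a = b := fun a b e e' =>
      Subtype.ext (D.one.v_inj _ _ _ _ (hinj _ (hZ₀mem _ a.2) _ (hZ₀mem _ b.2) e e')).1
    rcases key a with ⟨-, ea⟩ | ea <;> rcases key b with ⟨-, eb⟩ | eb <;> rcases key c with ⟨-, ec⟩ | ec
    all_goals first
      | exact hab (Subtype.ext (ea.trans eb.symm))
      | exact hac (Subtype.ext (ea.trans ec.symm))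
      | exact hbc (Subtype.ext (eb.trans ec.symm))
      | exact hab (two _ _ ea eb)
      | exact hac (two _ _ ea ec)
      | exact hbc (two _ _ eb ec)
  obtain ⟨z, hz, hzf⟩ := fix_ne_zero hs hσ1 ha
  have hzX : D.one.v z 0 ∈ X := hZ₀X (hZ₀mem z hzf)
  refine hz (hno z (loc_core h.char2 hT2 (fun e => hx1 (by simpa [zpowers_eq_bot] using e)) hzX fun r hr => ?_))
  rcases hRx r hr with rfl | rfl
  · simp
  · exact (hX _).1 hzX

/-- **the 2-elements of the stabiliser lie in the common subgroup** -/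
theorem stab_two (hq : 8 ≤ Fintype.card F) : ∀ (k : ℕ) {g : G}, g ∈ D.stab → g ^ 2 ^ k = 1 → g ∈ D.J
  | 0, g, _, hg => by
    rw [pow_zero, pow_one] at hg
    subst hg
    exact one_mem _
  | k + 1, g, hgs, hg => by
    have hgg : g * g ∈ D.J :=
      stab_two hq k (mul_mem hgs hgs) (by rw [← pow_two, ← pow_mul, ← pow_succ']; exact hg)
    obtain ⟨σ, α, δ, T⟩ := D.exists_tri hgs.1 hgs.2
    by_cases hσ : σ = 1
    · subst hσ
      exact h.two_mem_J T hgs.1 hg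
    exfalso
    have hs : σ * σ = 1 :=
      RingEquiv.ext fun w => congrArg (fun f : F ≃+* F => f w) (Duo.Tri.unique (T.mul T) (Duo.tri_of_J hgg)).1
    -- a torus element fixed by the automorphism
    obtain ⟨t, ht0, ht1, htf⟩ : ∃ t : F, t ≠ 0 ∧ t ≠ 1 ∧ σ t = t := by
      by_contra hno
      push Not at hno
      have hsub : fixSet σ (1 : F) ⊆ {0, 1} := fun w hw => by
        by_contra hw'
        simp only [Set.mem_insert_iff, Set.mem_singleton_iff, not_or] at hw'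
        exact hno w hw'.1 hw'.2 (by simpa [fixSet] using hw)
      have hle : Nat.card (fixSet σ (1 : F)) ≤ 2 := by
        rw [Nat.card_coe_set_eq]
        exact (Set.ncard_le_ncard hsub).trans ((Set.ncard_insert_le _ _).trans (by rw [Set.ncard_singleton]))
      have h1 := (fixSet_sq hs hσ (show (1 : F) * σ 1 = 1 by simp)).1
      have := Nat.mul_le_mul hle hle
      omega
    obtain ⟨a, ha, hπ, -⟩ := D.two.exists_tor (Units.mk0 t ht0)
    have Ta : D.Tri a (RingEquiv.refl F) t (t * t) := Duo.tri_tor2 (D := D) ha hπ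
    have has : a ∈ D.stab := ⟨D.swap.norm_V2 (D.two.L_le_norm ha) (D.swap.tor_J ha hπ), D.two.L_le_norm ha⟩
    have hc : a⁻¹ * (g * a * g⁻¹) ∈ D.J := by
      have hcs : a⁻¹ * (g * a * g⁻¹) ∈ D.stab := mul_mem (inv_mem has) (mul_mem (mul_mem hgs has) (inv_mem hgs))
      obtain ⟨τ, β, ε, Tc⟩ := D.exists_tri hcs.1 hcs.2
      have L := T.mul Ta
      have R' := (Ta.mul Tc).mul T
      rw [show a * (a⁻¹ * (g * a * g⁻¹)) * g = g * a by group] at R'
      obtain ⟨e1, e2, e3⟩ := Duo.Tri.unique L R'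
      have hτ : τ = RingEquiv.refl F := RingEquiv.ext fun w => by
        obtain ⟨v, rfl⟩ := σ.surjective w
        exact (congrArg (fun f : F ≃+* F => f v) e1).symm
      subst hτ
      simp only [RingEquiv.coe_trans, Function.comp_apply, RingEquiv.refl_apply, map_mul, htf] at e2 e3
      have hβ : β = 1 := by
        have e : β * (t * α) = t * α := by linear_combination -e2
        exact (mul_eq_right₀ (mul_ne_zero ht0 T.α0)).1 e
      have hε : ε = 1 := by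
        have e : ε * (t * t * δ) = t * t * δ := by linear_combination -e3
        exact (mul_eq_right₀ (mul_ne_zero (mul_ne_zero ht0 ht0) T.δ0)).1 e
      subst hβ hε
      exact h.mem_J_of_tri Tc hcs.1
    have hfix : ∀ u ∈ D.J, a * u = u * a → u = 1 := fun u hu hcu => Ta.cent_J ht1
      (fun e => ht1 (mul_self_eq_one_iff.1 e |>.elim id fun e' => by rw [e', CharTwo.neg_eq]))
      (fun e => ht1 ((mul_eq_left₀ ht0).1 e.symm)) hu hcu
    obtain ⟨u, hu, hxa⟩ := exists_centralizing (D.stab_J has) hfix hc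
    set x := u * g
    have hxs : x ∈ D.stab := mul_mem (D.J_le_stab hu) hgs
    have hx2 : x * x = 1 := hfix _ (by
      have h1 := D.J.mul_mem (D.J.mul_mem hu ((mem_normalizer_iff.1 (D.stab_J hgs) u).1 hu)) hgg
      rwa [show u * (g * u * g⁻¹) * (g * g) = x * x by simp only [x]; group] at h1)
      (by rw [← mul_assoc, ← hxa, mul_assoc, ← hxa, ← mul_assoc])
    obtain ⟨τ, β, ε, Tx⟩ := D.exists_tri hxs.1 hxs.2
    refine h.no_outer hq Tx hxs hx2 ?_
    have e := (Duo.Tri.unique Tx ((Duo.tri_of_J hu).mul T)).1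
    intro hτ
    refine hσ ?_
    rw [← hτ, e]
    exact RingEquiv.ext fun w => rfl

end Hyp

end Cfsg.Lib.LTP
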