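import Cfsg.Agent.LThreePlane.CentZ

/-!
# Tools for involutions outside the common subgroup
-/

set_option autoImplicit false

namespace Cfsg.Lib.LTP

open Subgroup

section General

variable {G : Type*} [Group G]

/-- the elements of the group generated by an involution -/
theorem mem_zpowers_invol {x : G} (h2 : x * x = 1) {g : G} (hg : g ∈ zpowers x) : g = 1 ∨ g = x := by
  obtain ⟨i, rfl⟩ := mem_zpowers_iff.1 hg
  rcases Int.even_or_odd' i with ⟨j, rfl | rfl⟩
  · left; rw [zpow_mul, zpow_two, h2, one_zpow]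
  · right; rw [zpow_add, zpow_mul, zpow_two, h2, one_zpow, one_mul, zpow_one]

/-- normalising an involution means centralising it -/
theorem mem_norm_invol {x : G} (h2 : x * x = 1) (h1 : x ≠ 1) {k : G} :
    k ∈ normalizer (zpowers x : Set G) ↔ k * x = x * k := by
  constructor
  · intro hk
    rcases mem_zpowers_invol h2 ((mem_normalizer_iff.1 hk x).1 (mem_zpowers x)) with e | e
    · exact absurd (conj_eq_one_iff.1 e) h1
    · exact mul_inv_eq_iff_eq_mul.1 e
  · intro hk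
    have key : ∀ k : G, k * x = x * k → ∀ g ∈ zpowers x, k * g * k⁻¹ ∈ zpowers x := by
      intro k hk g hg
      rcases mem_zpowers_invol h2 hg with rfl | rfl
      · simpa using one_mem (zpowers x)
      · rw [hk, mul_inv_cancel_right]; exact mem_zpowers g
    refine mem_normalizer_iff.2 fun g => ⟨key k hk g, fun hg => ?_⟩
    have := key k⁻¹ (by rw [inv_mul_eq_iff_eq_mul, ← mul_assoc, hk, mul_inv_cancel_right]) _ hg
    simpa [mul_assoc] using this

/-- the cyclic group of a 2-element -/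
theorem two_of_pow {g : G} {k : ℕ} (hk : g ^ 2 ^ k = 1) : IsPGroup 2 ↥(zpowers g) := fun a => ⟨k, by
  obtain ⟨i, hi⟩ := mem_zpowers_iff.1 a.2
  refine Subtype.ext ?_
  show (a : G) ^ 2 ^ k = 1
  rw [← hi, ← zpow_natCast, ← zpow_mul, mul_comm, zpow_mul, zpow_natCast, hk, one_zpow]⟩

/-- adjusting inside a normal subgroup without fixed points -/
theorem exists_centralizing [Finite G] {J : Subgroup G} {g r : G} (hg : g ∈ normalizer (J : Set G))
    (hfix : ∀ u ∈ J, g * u = u * g → u = 1) (hc : g⁻¹ * (r * g * r⁻¹) ∈ J) :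
    ∃ u ∈ J, u * r * g = g * (u * r) := by
  let f : ↥J → ↥J := fun u => ⟨g⁻¹ * ((u : G)⁻¹ * g * u), by
    have h1 := (mem_normalizer_iff''.1 hg ((u : G)⁻¹)).1 (inv_mem u.2)
    have h2 := J.mul_mem h1 u.2
    rwa [show g⁻¹ * (u : G)⁻¹ * g * u = g⁻¹ * ((u : G)⁻¹ * g * u) by group] at h2⟩
  have hf : Function.Injective f := fun a b e => by
    have e1 : (a : G)⁻¹ * g * a = (b : G)⁻¹ * g * b := mul_left_cancel (congrArg Subtype.val e)
    have h3 : g * ((a : G) * (b : G)⁻¹) = (a : G) * (b : G)⁻¹ * g := by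
      calc g * ((a : G) * (b : G)⁻¹) = (a : G) * ((a : G)⁻¹ * g * a) * (b : G)⁻¹ := by group
        _ = _ := by rw [e1]; group
    exact Subtype.ext (mul_inv_eq_one.1 (hfix _ (J.mul_mem a.2 (inv_mem b.2)) h3))
  obtain ⟨u, hu⟩ := Finite.injective_iff_surjective.1 hf ⟨_, hc⟩
  refine ⟨u, u.2, ?_⟩
  have e1 : (u : G)⁻¹ * g * u = r * g * r⁻¹ := mul_left_cancel (congrArg Subtype.val hu)
  calc (u : G) * r * g = (u : G) * (r * g * r⁻¹) * r := by group
    _ = g * ((u : G) * r) := by rw [← e1]; group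

end General

variable {F : Type*} [Field F]

theorem pair_eq {A B : SL2 F} {z w y : F} (hz : z ≠ 0) (hy : y ≠ 0) (h0 : A.1 0 0 * z = B.1 0 0 * z)
    (h1 : A.1 1 0 * z = B.1 1 0 * z) (h2 : A.1 0 0 * w + A.1 0 1 * y = B.1 0 0 * w + B.1 0 1 * y)
    (h3 : A.1 1 0 * w + A.1 1 1 * y = B.1 1 0 * w + B.1 1 1 * y) : A = B := by
  have e0 := mul_right_cancel₀ hz h0
  have e1 := mul_right_cancel₀ hz h1
  rw [e0] at h2
  rw [e1] at h3
  exact ext2 e0 (mul_right_cancel₀ hy (add_left_cancel h2)) e1 (mul_right_cancel₀ hy (add_left_cancel h3))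

variable [CharP F 2]

theorem trace_sq (A : SL2 F) :
    (A * A).1 0 0 + (A * A).1 1 1 = (A.1 0 0 + A.1 1 1) * (A.1 0 0 + A.1 1 1) := by
  rw [mul_00, mul_11]
  linear_combination (A.1 0 1 * A.1 1 0 - A.1 0 0 * A.1 1 1) * CharTwo.two_eq_zero (R := F)

/-- a 2-element of the linear group has trace zero -/
theorem trace_two : ∀ (k : ℕ) (A : SL2 F), A ^ 2 ^ k = 1 → A.1 0 0 + A.1 1 1 = 0
  | 0, A, h => by
    rw [pow_zero, pow_one] at h
    subst h
    simpa using CharTwo.add_self_eq_zero (1 : F)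
  | k + 1, A, h => by
    have h2 : (A * A) ^ 2 ^ k = 1 := by rw [← pow_two, ← pow_mul, ← pow_succ']; exact h
    have := trace_two k (A * A) h2
    rw [trace_sq] at this
    exact mul_self_eq_zero.1 this

theorem trace_conj_up (c : F) (N : SL2 F) :
    (up c * (N * up c * N⁻¹)).1 0 0 + (up c * (N * up c * N⁻¹)).1 1 1 = c * c * (N.1 1 0 * N.1 1 0) := by
  have hd := det2 N
  simp only [mul_00, mul_11, mul_01, mul_10, up_00, up_01, up_10, up_11,
    Matrix.SpecialLinearGroup.coe_inv, Matrix.adjugate_fin_two]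
  simp
  grind [CharTwo.two_eq_zero]

variable {G : Type*} [Group G] [Fintype F]

theorem fix_ne_zero {σ : F ≃+* F} {c : F} (hσ : σ * σ = 1) (hσ1 : σ ≠ 1) (hc : c * σ c = 1) :
    ∃ z, z ≠ 0 ∧ c * σ z = z := by
  by_contra hno
  push Not at hno
  haveI : Subsingleton (fixSet σ c) := ⟨fun a b => Subtype.ext <| by
    have ha : (a : F) = 0 := by by_contra ha; exact hno _ ha a.2
    have hb : (b : F) = 0 := by by_contra hb; exact hno _ hb b.2
    rw [ha, hb]⟩
  have h1 := (fixSet_sq hσ hσ1 hc).1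
  rw [Nat.card_of_subsingleton (⟨0, by simp [fixSet]⟩ : fixSet σ c)] at h1
  have := Fintype.one_lt_card (α := F)
  omega

namespace Duo

variable {D : Duo F G}

omit [CharP F 2] [Fintype F] in
theorem Tri.swapT {g : G} {σ : F ≃+* F} {α δ : F} (T : D.Tri g σ α δ) : D.swap.Tri g σ α (α / δ) :=
  ⟨fun z => by
    show g * D.two.v z 0 * g⁻¹ = _
    rw [← D.hz]; exact (T.za z).trans (D.hz _), T.xa, fun x => by
    obtain ⟨p, hp⟩ := T.ya x
    refine ⟨p, hp.trans ?_⟩
    show D.one.v p _ = D.one.v p _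
    congr 1
    have := T.α0; have := T.δ0
    field_simp, T.α0, div_ne_zero T.α0 T.δ0⟩

omit [Fintype F] in
theorem comm_j (D : Duo F G) (z y x z' y' x' : F) :
    D.j z y x * D.j z' y' x' * (D.j z y x)⁻¹ * (D.j z' y' x')⁻¹ = D.one.v (x * y' + x' * y) 0 := by
  rw [mul_inv_eq_iff_eq_mul, mul_inv_eq_iff_eq_mul, D.one_eq_j, D.j_mul, D.j_mul, D.j_mul]
  congr 1
  · linear_combination (-(x' * y)) * CharTwo.two_eq_zero (R := F)
  · ring
  · ring

omit [Fintype F] in
/-- no fixed points on the common subgroup -/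
theorem Tri.cent_J {g : G} {α δ : F} (T : D.Tri g (RingEquiv.refl F) α δ) (hα : α ≠ 1) (hδ : δ ≠ 1)
    (hαδ : α ≠ δ) {u : G} (hu : u ∈ D.J) (hc : g * u = u * g) : u = 1 := by
  obtain ⟨z, y, x, rfl⟩ := hu
  obtain ⟨p, hp⟩ := T.full z y
  obtain ⟨p', hp'⟩ := T.xa x
  have e : g * D.j z y x * g⁻¹ = D.j z y x := by rw [hc, mul_inv_cancel_right]
  have e' : g * D.j z y x * g⁻¹ = D.j (p + p') (δ * y) (α / δ * x) := by
    show g * (D.one.v z y * D.two.v 0 x) * g⁻¹ = _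
    rw [show g * (D.one.v z y * D.two.v 0 x) * g⁻¹ = g * D.one.v z y * g⁻¹ * (g * D.two.v 0 x * g⁻¹) by group,
      hp, hp', D.one_eq_j, D.two_eq_j, D.j_mul, zero_mul, add_zero, add_zero, zero_add]
    simp
  obtain ⟨-, e2, e3⟩ := D.j_inj (e'.symm.trans e)
  have hy : y = 0 := by
    by_contra hy
    exact hδ (mul_right_cancel₀ hy (by rw [one_mul]; exact e2))
  have hx : x = 0 := by
    by_contra hx
    have h1 : α / δ = 1 := mul_right_cancel₀ hx (by rw [one_mul]; exact e3)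
    exact hαδ ((div_eq_one_iff_eq T.δ0).1 h1)
  subst hy hx
  rw [← D.one_eq_j] at e ⊢
  rw [T.za, RingEquiv.refl_apply] at e
  have hz : z = 0 := by
    by_contra hz
    exact hα (mul_right_cancel₀ hz (by rw [one_mul]; exact (D.one.v_inj _ _ _ _ e).1))
  rw [hz, D.one.v_zero]

variable [Finite G] {x : G} {σ : F ≃+* F} {α δ : F} (T : D.Tri x σ α δ) (h2 : x * x = 1) (hσ1 : σ ≠ 1)
include T h2 hσ1

/-- fixed vectors over fixed second coordinates -/
theorem Tri.exists_fix {y : F} (hy : δ * σ y = y) : ∃ w, x * D.one.v w y = D.one.v w y * x := by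
  obtain ⟨hs, ha, -⟩ := T.sq h2
  obtain ⟨p, hp⟩ := T.ya y
  rw [hy] at hp
  have hx : x⁻¹ = x := inv_eq_of_mul_eq_one_right h2
  have hpf : α * σ p = p := by
    have e : x * D.one.v p y * x⁻¹ = D.one.v 0 y := by
      rw [← hp, hx, show x * (x * D.one.v 0 y * x) * x = x * x * D.one.v 0 y * (x * x) by group, h2,
        one_mul, mul_one]
    rw [D.one.v_split, show x * (D.one.v p 0 * D.one.v 0 y) * x⁻¹ =
      x * D.one.v p 0 * x⁻¹ * (x * D.one.v 0 y * x⁻¹) by group, T.za, hp, ← D.one.v_add, zero_add] at e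
    exact CharTwo.add_eq_zero.1 (D.one.v_inj _ _ _ _ e).1
  obtain ⟨w, hw⟩ := (fixSet_sq hs hσ1 ha).2 p hpf
  refine ⟨w, mul_inv_eq_iff_eq_mul.1 ?_⟩
  rw [D.one.v_split, show x * (D.one.v w 0 * D.one.v 0 y) * x⁻¹ =
    x * D.one.v w 0 * x⁻¹ * (x * D.one.v 0 y * x⁻¹) by group, T.za, hp, ← D.one.v_add, zero_add,
    ← D.one.v_add, zero_add, add_zero]
  congr 1
  rw [hw]
  linear_combination (α * σ w) * CharTwo.two_eq_zero (R := F)

/-- fixed vectors are norms -/
theorem Tri.norm_surj {d : G} (hd : d ∈ D.one.V) (hfix : x * d = d * x) :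
    ∃ v ∈ D.one.V, d = v * (x * v * x⁻¹) := by
  obtain ⟨hs, ha, hdd⟩ := T.sq h2
  obtain ⟨dz, dy, rfl⟩ := (D.one.mem_V d).1 hd
  obtain ⟨p, hp⟩ := T.full dz dy
  rw [hfix, mul_inv_cancel_right] at hp
  obtain ⟨w, hw⟩ := (fixSet_sq hs hσ1 hdd).2 dy (D.one.v_inj _ _ _ _ hp).2.symm
  obtain ⟨p', hp'⟩ := T.ya w
  have hx : x⁻¹ = x := inv_eq_of_mul_eq_one_right h2
  have hdy : D.one.v p' dy = D.one.v 0 w * (x * D.one.v 0 w * x⁻¹) := by
    rw [hp', ← D.one.v_add, zero_add, ← hw]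
  have hm : x * D.one.v 0 w * x⁻¹ ∈ D.one.V := by rw [hp']; exact D.one.v_mem _ _
  have h0 : x * D.one.v p' dy = D.one.v p' dy * x := by
    refine mul_inv_eq_iff_eq_mul.1 ?_
    rw [hdy, show x * (D.one.v 0 w * (x * D.one.v 0 w * x⁻¹)) * x⁻¹ =
      x * D.one.v 0 w * x⁻¹ * (x * x * D.one.v 0 w * (x⁻¹ * x⁻¹)) by group, h2, hx, h2, one_mul, mul_one]
    exact D.one.comm_V (by simpa only [hx] using hm) (D.one.v_mem 0 w)
  have e1 : D.one.v (dz + p') 0 = D.one.v dz dy * D.one.v p' dy := by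
    rw [← D.one.v_add, CharTwo.add_self_eq_zero]
  have hf : α * σ (dz + p') = dz + p' := by
    have e := T.za (dz + p')
    rw [e1, ← mul_assoc, hfix, mul_assoc (D.one.v dz dy), h0, ← mul_assoc, mul_inv_cancel_right, ← e1] at e
    exact (D.one.v_inj _ _ _ _ e).1.symm
  obtain ⟨u, hu⟩ := (fixSet_sq hs hσ1 ha).2 _ hf
  refine ⟨D.one.v u w, D.one.v_mem u w, ?_⟩
  rw [show D.one.v u w = D.one.v u 0 * D.one.v 0 w from D.one.v_split u w,
    show x * (D.one.v u 0 * D.one.v 0 w) * x⁻¹ = x * D.one.v u 0 * x⁻¹ * (x * D.one.v 0 w * x⁻¹) by group,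
    T.za, hp', ← D.one.v_add, ← D.one.v_add, ← D.one.v_add]
  congr 1
  · linear_combination hu - p' * CharTwo.two_eq_zero (R := F)
  · linear_combination hw

/-- a fixed element of the block moving the centre -/
theorem Tri.lower (hN : x ∈ normalizer (D.one.L : Set G)) {z : F} (hz : z ≠ 0) (hzf : α * σ z = z) :
    ∃ l, ∃ hl : l ∈ D.one.L, l * x = x * l ∧ (D.one.π ⟨l, hl⟩).1 1 0 ≠ 0 := by
  obtain ⟨hs, ha, hd⟩ := T.sq h2
  obtain ⟨y, hy, hyf⟩ := fix_ne_zero hs hσ1 hd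
  obtain ⟨w, hw⟩ := T.exists_fix h2 hσ1 hyf
  let N : SL2 F := ⟨!![1 + w / z, w * w / (z * y); y / z, 1 + w / z], by
    rw [Matrix.det_fin_two_of]
    field_simp
    linear_combination (z * w) * CharTwo.two_eq_zero (R := F)⟩
  obtain ⟨l, hl, hπ⟩ := D.one.exists_lift N
  have hn00 : N.1 0 0 = 1 + w / z := rfl
  have hn01 : N.1 0 1 = w * w / (z * y) := rfl
  have hn10 : N.1 1 0 = y / z := rfl
  have hn11 : N.1 1 1 = 1 + w / z := rfl
  have a1 : l * D.one.v z 0 * l⁻¹ = D.one.v (z + w) y := by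
    rw [D.one.act l hl, hπ, hn00, hn01, hn10, hn11]
    congr 1 <;> field_simp <;> ring
  have a2 : l * D.one.v w y * l⁻¹ = D.one.v w y := by
    rw [D.one.act l hl, hπ, hn00, hn01, hn10, hn11]
    congr 1 <;> field_simp
    · linear_combination (w * w) * CharTwo.two_eq_zero (R := F)
    · linear_combination w * CharTwo.two_eq_zero (R := F)
  have hz0 : x * D.one.v z 0 = D.one.v z 0 * x := mul_inv_eq_iff_eq_mul.1 (by rw [T.za, hzf])
  have hzw : x * D.one.v (z + w) y = D.one.v (z + w) y * x := by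
    rw [show D.one.v (z + w) y = D.one.v z 0 * D.one.v w y by rw [← D.one.v_add, zero_add], ← mul_assoc,
      hz0, mul_assoc, hw, mul_assoc]
  have hl2 : x * l * x⁻¹ ∈ D.one.L := (mem_normalizer_iff.1 hN l).1 hl
  have conj : ∀ v v' : G, x * v = v * x → x * v' = v' * x → l * v * l⁻¹ = v' →
      x * l * x⁻¹ * v * (x * l * x⁻¹)⁻¹ = v' := by
    intro v v' e e' el
    rw [show x * l * x⁻¹ * v * (x * l * x⁻¹)⁻¹ = x * (l * (x⁻¹ * (v * x)) * l⁻¹) * x⁻¹ by group, ← e,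
      inv_mul_cancel_left, el, e', mul_inv_cancel_right]
  have hπ2 : D.one.π ⟨x * l * x⁻¹, hl2⟩ = N := by
    have b1 := conj _ _ hz0 hzw a1
    have b2 := conj _ _ hw hw a2
    rw [D.one.act _ hl2] at b1 b2
    have c1 := a1
    have c2 := a2
    rw [D.one.act l hl, hπ] at c1 c2
    simp only [mul_zero, add_zero] at b1 c1
    obtain ⟨b10, b11⟩ := D.one.v_inj _ _ _ _ (b1.trans c1.symm)
    obtain ⟨b20, b21⟩ := D.one.v_inj _ _ _ _ (b2.trans c2.symm)
    exact pair_eq hz hy b10 b11 b20 b21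
  set d := x * l * x⁻¹ * l⁻¹ with hdd
  have hdV : d ∈ D.one.V := by
    rw [← D.one.π_eq_one (mul_mem hl2 (inv_mem hl)), D.one.π_mul hl2 (inv_mem hl), D.one.π_inv hl, hπ, hπ2,
      mul_inv_cancel]
  have hx : x⁻¹ = x := inv_eq_of_mul_eq_one_right h2
  have hdfix : x * d = d * x := by
    have e : d⁻¹ = d := D.one.inv_V hdV
    conv_rhs => rw [← e]
    calc x * d = x * x * l * x⁻¹ * l⁻¹ := by rw [hdd]; group
      _ = l * x * l⁻¹ := by rw [h2, hx, one_mul]
      _ = d⁻¹ * x := by rw [hdd]; group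
  obtain ⟨v, hv, hdv⟩ := T.norm_surj h2 hσ1 hdV hdfix
  refine ⟨v * l, mul_mem (D.one.vle hv) hl, ?_, ?_⟩
  · refine (mul_inv_eq_iff_eq_mul.1 ?_).symm
    have hxlx : x * l * x⁻¹ = d * l := by rw [hdd]; group
    have hxv : x * v * x⁻¹ ∈ D.one.V := by
      have := D.one.V.mul_mem (inv_mem hv) hdV
      rwa [hdv, inv_mul_cancel_left] at this
    rw [show x * (v * l) * x⁻¹ = x * v * x⁻¹ * (x * l * x⁻¹) by group, hxlx, hdv, ← mul_assoc,
      ← mul_assoc, D.one.comm_V hxv hv, mul_assoc v, D.one.sq_V hxv, mul_one]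
  · rw [D.one.π_mul (D.one.vle hv) hl, (D.one.π_eq_one (D.one.vle hv)).2 hv, one_mul, hπ, hn10]
    exact div_ne_zero hy hz

end Duo

end Cfsg.Lib.LTP
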