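import Cfsg.Agent.OstromWagner.Final
import Cfsg.Agent.Classical.SL
import Cfsg.Agent.Known.ThreeUnipotents

/-!
# A group of collineations containing all elations contains `PSL₃(q)`
-/

set_option autoImplicit false
set_option linter.style.haveILetI false
set_option linter.unusedSectionVars false

namespace Cfsg.Lib.PlanePSL

open Configuration MulAction Matrix Cfsg.Lib.OW
open Cfsg.Lib.Known.ThreeUnipotents (rankOne coe_rankOne)

universe u v w w'

theorem psl3_congr {K : Type w} [Field K] {K' : Type w'} [Field K'] (e : K ≃+* K') :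
    Nonempty (Matrix.ProjectiveSpecialLinearGroup (Fin 3) K ≃*
      Matrix.ProjectiveSpecialLinearGroup (Fin 3) K') := by
  let f : Matrix.SpecialLinearGroup (Fin 3) K ≃* Matrix.SpecialLinearGroup (Fin 3) K' :=
    { toFun := Matrix.SpecialLinearGroup.map e.toRingHom
      invFun := Matrix.SpecialLinearGroup.map e.symm.toRingHom
      left_inv := fun m => Subtype.ext (Matrix.ext fun i j => e.symm_apply_apply _)
      right_inv := fun m => Subtype.ext (Matrix.ext fun i j => e.apply_symm_apply _)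
      map_mul' := map_mul _ }
  refine ⟨QuotientGroup.congr _ _ f ?_⟩
  ext x
  rw [Subgroup.mem_map, Subgroup.mem_center_iff]
  refine ⟨?_, fun hx => ⟨f.symm x,
    Subgroup.mem_center_iff.2 fun g => f.injective ?_, f.apply_symm_apply x⟩⟩
  · rintro ⟨y, hy, rfl⟩ g
    obtain ⟨g, rfl⟩ := f.surjective g
    change f g * f y = f y * f g
    rw [← map_mul, ← map_mul, Subgroup.mem_center_iff.1 hy g]
  · rw [map_mul, map_mul, f.apply_symm_apply]; exact hx _

variable {P : Type u} {L : Type v} [Membership P L]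

/-- Coordinates: lines are the two-dimensional subspaces. -/
structure Coords (P : Type u) (L : Type v) [Membership P L] (F : Type w) [Field F] where
  φ : P ≃ Projectivization F (Fin 3 → F)
  line : L → Submodule F (Fin 3 → F)
  line_dim : ∀ l, Module.finrank F (line l) = 2
  mem_line : ∀ (l : L) (p : P), p ∈ l ↔ (φ p).submodule ≤ line l
  of_sub : ∀ W : Submodule F (Fin 3 → F), Module.finrank F W = 2 → ∃ l : L, ∀ p : P, p ∈ l ↔ (φ p).submodule ≤ W

variable [ProjectivePlane P L] [Finite P] [Finite L] {F : Type w} [Field F]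

theorem line_ext {a b : L} (h : ∀ p : P, p ∈ a ↔ p ∈ b) : a = b := by
  have h3 : 2 < pointCount P a := ProjectivePlane.two_lt_pointCount P a
  obtain ⟨⟨x, hx⟩, ⟨y, hy⟩, hxy⟩ := (Finite.one_lt_card_iff_nontrivial (α := {p : P // p ∈ a})).1
    (lt_trans one_lt_two h3) |>.exists_pair_ne
  exact line_unique (fun e => hxy (Subtype.ext e)) hx hy ((h x).1 hx) ((h y).1 hy)

/-- The subspace moved by an element of `SL₃`. -/
def mv (g : Matrix.SpecialLinearGroup (Fin 3) F) (W : Submodule F (Fin 3 → F)) : Submodule F (Fin 3 → F) :=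
  W.map (Matrix.SpecialLinearGroup.toLin' g).toLinearMap

theorem smul_le_mv (g : Matrix.SpecialLinearGroup (Fin 3) F) (W : Submodule F (Fin 3 → F))
    (x : Projectivization F (Fin 3 → F)) : (g • x).submodule ≤ mv g W ↔ x.submodule ≤ W := by
  induction x using Projectivization.ind with
  | _ v hv =>
    rw [Projectivization.smul_mk, Cfsg.Lib.OW.mk_le_iff, Cfsg.Lib.OW.mk_le_iff]
    constructor
    · rintro ⟨y, hy, e⟩
      have : y = v := (Matrix.SpecialLinearGroup.toLin' g).injective e
      exact this ▸ hy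
    · exact fun h => ⟨v, h, rfl⟩

theorem exists_image (C : Coords P L F) (g : Matrix.SpecialLinearGroup (Fin 3) F) (a : L) :
    ∃ b : L, ∀ p : P, C.φ.symm (g • C.φ p) ∈ b ↔ p ∈ a := by
  obtain ⟨b, hb⟩ := C.of_sub (mv g (C.line a))
    (by rw [mv, LinearEquiv.finrank_map_eq]; exact C.line_dim a)
  exact ⟨b, fun p => by rw [hb, Equiv.apply_symm_apply, smul_le_mv, ← C.mem_line]⟩

/-- The image line. -/
noncomputable def img (C : Coords P L F) (g : Matrix.SpecialLinearGroup (Fin 3) F) (a : L) : L :=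
  (exists_image C g a).choose

theorem mem_img (C : Coords P L F) (g : Matrix.SpecialLinearGroup (Fin 3) F) (a : L) (q : P) :
    q ∈ img C g a ↔ C.φ.symm (g⁻¹ • C.φ q) ∈ a := by
  have h := (exists_image C g a).choose_spec (C.φ.symm (g⁻¹ • C.φ q))
  rw [Equiv.apply_symm_apply, smul_inv_smul, Equiv.symm_apply_apply] at h
  exact h

theorem img_img (C : Coords P L F) (g h : Matrix.SpecialLinearGroup (Fin 3) F) (a : L) :
    img C g (img C h a) = img C (g * h) a := by
  refine line_ext fun q => ?_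
  rw [mem_img, mem_img, mem_img, Equiv.apply_symm_apply, ← mul_smul, _root_.mul_inv_rev]

theorem img_one (C : Coords P L F) (a : L) : img C 1 a = a := by
  refine line_ext fun q => ?_
  rw [mem_img, inv_one, one_smul, Equiv.symm_apply_apply]

/-- `SL₃` as collineations. -/
noncomputable def toColl (C : Coords P L F) : Matrix.SpecialLinearGroup (Fin 3) F →* Coll P L where
  toFun g := ⟨(C.φ.trans ((MulAction.toPerm g).trans C.φ.symm),
      { toFun := img C g
        invFun := img C g⁻¹
        left_inv := fun a => by rw [img_img, inv_mul_cancel, img_one]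
        right_inv := fun a => by rw [img_img, mul_inv_cancel, img_one] }),
    fun p a => by simp [mem_img]⟩
  map_one' := coll_ext fun p => by
    change C.φ.symm ((1 : Matrix.SpecialLinearGroup (Fin 3) F) • C.φ p) = p
    rw [one_smul, Equiv.symm_apply_apply]
  map_mul' g h := coll_ext fun p => by
    change C.φ.symm ((g * h) • C.φ p) = C.φ.symm (g • C.φ (C.φ.symm (h • C.φ p)))
    rw [Equiv.apply_symm_apply, mul_smul]

theorem toColl_smul (C : Coords P L F) (g : Matrix.SpecialLinearGroup (Fin 3) F) (p : P) :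
    C.φ (toColl C g • p) = g • C.φ p :=
  C.φ.apply_symm_apply _

theorem ker_toColl (C : Coords P L F) :
    (toColl C).ker = Subgroup.center (Matrix.SpecialLinearGroup (Fin 3) F) := by
  rw [← Projectivization.SL_mulAction_ker]
  ext g
  rw [MonoidHom.mem_ker, MonoidHom.mem_ker]
  constructor
  · intro h
    refine Equiv.ext fun x => ?_
    have := toColl_smul C g (C.φ.symm x)
    rw [h, one_smul, Equiv.apply_symm_apply] at this
    exact this.symm
  · intro h
    refine coll_ext fun p => C.φ.injective ?_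
    rw [toColl_smul, one_smul]
    exact Equiv.ext_iff.1 h (C.φ p)

theorem exists_form {W : Submodule F (Fin 3 → F)} (hW : Module.finrank F W = 2) :
    ∃ ψ : Fin 3 → F, ψ ≠ 0 ∧ ∀ x, x ∈ W ↔ ψ ⬝ᵥ x = 0 := by
  have hne : W ≠ ⊤ := fun h => by
    rw [h, finrank_top, Module.finrank_fin_fun] at hW
    omega
  obtain ⟨f, hf, hWf⟩ := W.exists_le_ker_of_lt_top (lt_top_iff_ne_top.2 hne)
  have hd : Module.finrank F (LinearMap.ker f) ≤ 2 := by
    have h1 := Submodule.finrank_lt (s := LinearMap.ker f) (fun h => hf (LinearMap.ker_eq_top.1 h))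
    rw [Module.finrank_fin_fun] at h1
    omega
  have heq : W = LinearMap.ker f := Submodule.eq_of_le_of_finrank_le hWf (by omega)
  have hdot : ∀ x, (fun i => f (Pi.single i 1)) ⬝ᵥ x = f x := fun x => by
    conv_rhs => rw [pi_eq_sum_univ' x]
    rw [map_sum]
    refine Finset.sum_congr rfl fun i _ => ?_
    rw [map_smul, smul_eq_mul, mul_comm]
  refine ⟨fun i => f (Pi.single i 1), fun h => hf (LinearMap.ext fun x => ?_), fun x => ?_⟩
  · rw [← hdot, h, zero_dotProduct, LinearMap.zero_apply]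
  · rw [heq, LinearMap.mem_ker, hdot]

theorem rankOne_fix (ψ : Fin 3 → F) {v : Fin 3 → F} (h : ψ ⬝ᵥ v = 0) (x : F) (w : Fin 3 → F) :
    (rankOne v ψ h x : Matrix (Fin 3) (Fin 3) F) *ᵥ w = w + (x * (ψ ⬝ᵥ w)) • v := by
  rw [coe_rankOne, Matrix.add_mulVec, Matrix.one_mulVec, Matrix.smul_mulVec, Matrix.vecMulVec_mulVec]
  ext i
  simp [mul_comm, mul_left_comm]

theorem card_elGroup_le (a : L) :
    Nat.card (elGroup (P := P) a) ≤ ProjectivePlane.order P L ^ 2 := by
  obtain ⟨x, hx⟩ := exists_off (P := P) a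
  refine (card_le_of_semireg _ x {y | y ∉ a} (fun g hg => ?_) fun g hg h => el_semireg hg hx h).trans ?_
  · intro h
    exact hx ((mem_of_fix g (axis_fixed (elGroup_le_axisGroup a hg))).1 h)
  · classical
    haveI := Fintype.ofFinite P
    have h1 : Set.ncard {y : P | y ∉ a} + Set.ncard {y : P | y ∈ a} = Nat.card P := by
      rw [add_comm]
      exact Set.ncard_add_ncard_compl _
    have h2 : Set.ncard {y : P | y ∈ a} = ProjectivePlane.order P L + 1 :=
      ProjectivePlane.pointCount_eq P a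
    have h3 := ProjectivePlane.card_points P L
    rw [Nat.card_eq_fintype_card, h3] at h1
    omega

theorem order_eq [Fintype F] (C : Coords P L F) : ProjectivePlane.order P L = Fintype.card F := by
  haveI := Fintype.ofFinite P
  have h := ProjectivePlane.card_points P L
  rw [← Nat.card_eq_fintype_card, Nat.card_congr C.φ,
    Projectivization.card_of_finrank F (Fin 3 → F) (n := 3) (by rw [Module.finrank_fin_fun]),
    Finset.sum_range_succ, Finset.sum_range_succ, Finset.sum_range_succ, Finset.sum_range_zero,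
    Nat.card_eq_fintype_card] at h
  simp only [pow_zero, pow_one, zero_add] at h
  nlinarith [h]

theorem elGroup_le_range [Fintype F] (C : Coords P L F) (a : L) :
    elGroup (P := P) a ≤ (toColl C).range := by
  obtain ⟨ψ, hψ, hW⟩ := exists_form (C.line_dim a)
  have hmem : ∀ p : P, p ∈ a ↔ ψ ⬝ᵥ (C.φ p).rep = 0 := fun p => by
    conv_lhs => rw [C.mem_line]
    conv_lhs => rw [← Projectivization.mk_rep (C.φ p)]
    rw [Cfsg.Lib.OW.mk_le_iff, hW]
  let t : {v : Fin 3 → F // ψ ⬝ᵥ v = 0} → Coll P L := fun v => toColl C (rankOne v.1 ψ v.2 1)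
  have hsm : ∀ (v : {v : Fin 3 → F // ψ ⬝ᵥ v = 0}) (p : P) (h),
      C.φ (t v • p) = Projectivization.mk F ((C.φ p).rep + (ψ ⬝ᵥ (C.φ p).rep) • v.1) h := by
    intro v p h
    rw [toColl_smul]
    conv_lhs => rw [← Projectivization.mk_rep (C.φ p)]
    rw [Projectivization.smul_mk, Projectivization.mk_eq_mk_iff']
    refine ⟨1, ?_⟩
    rw [one_smul]
    change _ = (rankOne v.1 ψ v.2 1 : Matrix (Fin 3) (Fin 3) F) *ᵥ _
    rw [rankOne_fix, one_mul]
  have hnz : ∀ (v : {v : Fin 3 → F // ψ ⬝ᵥ v = 0}) (p : P),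
      (C.φ p).rep + (ψ ⬝ᵥ (C.φ p).rep) • v.1 ≠ 0 := by
    intro v p h
    have h1 := congrArg (fun x => ψ ⬝ᵥ x) h
    simp only [dotProduct_add, dotProduct_smul, v.2, smul_zero, add_zero, dotProduct_zero] at h1
    rw [h1, zero_smul, add_zero] at h
    exact Projectivization.rep_nonzero _ h
  have haxis : ∀ v, t v ∈ axisGroup a := by
    intro v p hp
    refine C.φ.injective ?_
    rw [hsm v p (hnz v p)]
    conv_rhs => rw [← Projectivization.mk_rep (C.φ p)]
    rw [Projectivization.mk_eq_mk_iff']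
    exact ⟨1, by rw [one_smul, (hmem p).1 hp, zero_smul, add_zero]⟩
  have heq : ∀ (v v' : {v : Fin 3 → F // ψ ⬝ᵥ v = 0}) (p : P), p ∉ a → t v • p = t v' • p → v = v' := by
    intro v v' p hp e
    have e' := congrArg C.φ e
    rw [hsm v p (hnz v p), hsm v' p (hnz v' p), Projectivization.mk_eq_mk_iff'] at e'
    obtain ⟨c, hc⟩ := e'
    have hs : ψ ⬝ᵥ (C.φ p).rep ≠ 0 := fun h => hp ((hmem p).2 h)
    have h1 := congrArg (fun x => ψ ⬝ᵥ x) hc
    simp only [dotProduct_add, dotProduct_smul, v.2, v'.2, smul_zero, add_zero, smul_eq_mul, mul_zero] at h1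
    obtain rfl : c = 1 := mul_right_cancel₀ hs (by rw [h1, one_mul])
    rw [one_smul] at hc
    exact Subtype.ext (smul_right_injective _ hs (add_left_cancel hc)).symm
  have hone : ∀ h0, t ⟨0, h0⟩ = 1 := by
    intro h0
    refine coll_ext fun p => C.φ.injective ?_
    rw [hsm _ p (hnz _ p), one_smul]
    conv_rhs => rw [← Projectivization.mk_rep (C.φ p)]
    rw [Projectivization.mk_eq_mk_iff']
    exact ⟨1, by simp⟩
  have hel : ∀ v, t v ∈ elGroup (P := P) a := by
    intro v
    by_cases hv : v = ⟨0, dotProduct_zero ψ⟩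
    · rw [hv, hone]; exact one_mem _
    refine exists_el_centre (haxis v) fun p hp e => hv ?_
    refine heq v _ p hp ?_
    rw [hone, one_smul, e]
  let T : {v : Fin 3 → F // ψ ⬝ᵥ v = 0} → ↥(elGroup (P := P) a) := fun v => ⟨t v, hel v⟩
  have hinj : Function.Injective T := fun v v' e => by
    obtain ⟨p, hp⟩ := exists_off (P := P) a
    exact heq v v' p hp (congrArg (fun g : ↥(elGroup (P := P) a) => (g : Coll P L) • p) e)
  have hcard : Nat.card {v : Fin 3 → F // ψ ⬝ᵥ v = 0} = Fintype.card F ^ 2 := by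
    have : Nat.card {v : Fin 3 → F // ψ ⬝ᵥ v = 0} = Nat.card (C.line a) :=
      Nat.card_congr (Equiv.subtypeEquivRight fun x => (hW x).symm)
    rw [this, Module.natCard_eq_pow_finrank (K := F), C.line_dim, Nat.card_eq_fintype_card]
  have hbij : Function.Bijective T := by
    refine (Nat.bijective_iff_injective_and_card T).2 ⟨hinj, le_antisymm
      (Nat.card_le_card_of_injective T hinj) ?_⟩
    rw [hcard, ← order_eq C]
    exact card_elGroup_le a
  intro g hg
  obtain ⟨v, hv⟩ := hbij.2 ⟨g, hg⟩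
  exact ⟨_, congrArg Subtype.val hv⟩

theorem rankOne_mem (C : Coords P L F) {v ψ : Fin 3 → F} (hψ : ψ ≠ 0) (h : ψ ⬝ᵥ v = 0) :
    ∃ a : L, toColl C (rankOne v ψ h 1) ∈ elGroup (P := P) a := by
  let f : (Fin 3 → F) →ₗ[F] F :=
    { toFun := fun x => ψ ⬝ᵥ x
      map_add' := fun x y => dotProduct_add ψ x y
      map_smul' := fun c x => dotProduct_smul c ψ x }
  have hf : LinearMap.ker f ≠ ⊤ := fun e => hψ (funext fun i => by
    have := LinearMap.congr_fun (LinearMap.ker_eq_top.1 e) (Pi.single i 1)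
    simpa [f] using this)
  have hd : Module.finrank F (LinearMap.ker f) = 2 := by
    have h1 := LinearMap.finrank_range_add_finrank_ker f
    have h2 := Submodule.finrank_le (LinearMap.range f)
    have h3 := Submodule.finrank_lt hf
    rw [Module.finrank_fin_fun] at h1 h3
    rw [Module.finrank_self] at h2
    omega
  obtain ⟨a, ha⟩ := C.of_sub _ hd
  have hmem : ∀ p : P, p ∈ a ↔ ψ ⬝ᵥ (C.φ p).rep = 0 := fun p => by
    rw [ha]
    conv_lhs => rw [← Projectivization.mk_rep (C.φ p), Cfsg.Lib.OW.mk_le_iff, LinearMap.mem_ker]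
    rfl
  have hsm : ∀ p : P, ∃ hn, C.φ (toColl C (rankOne v ψ h 1) • p) =
      Projectivization.mk F ((C.φ p).rep + (ψ ⬝ᵥ (C.φ p).rep) • v) hn := fun p => by
    have hn : (C.φ p).rep + (ψ ⬝ᵥ (C.φ p).rep) • v ≠ 0 := fun e => by
      have h1 := congrArg (fun x => ψ ⬝ᵥ x) e
      simp only [dotProduct_add, dotProduct_smul, h, smul_zero, add_zero, dotProduct_zero] at h1
      rw [h1, zero_smul, add_zero] at e
      exact Projectivization.rep_nonzero _ e
    refine ⟨hn, ?_⟩
    rw [toColl_smul]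
    conv_lhs => rw [← Projectivization.mk_rep (C.φ p)]
    rw [Projectivization.smul_mk, Projectivization.mk_eq_mk_iff']
    refine ⟨1, ?_⟩
    rw [one_smul]
    change _ = (rankOne v ψ h 1 : Matrix (Fin 3) (Fin 3) F) *ᵥ _
    rw [rankOne_fix, one_mul]
  have haxis : toColl C (rankOne v ψ h 1) ∈ axisGroup (P := P) a := fun p hp => by
    refine C.φ.injective ?_
    obtain ⟨hn, e⟩ := hsm p
    rw [e]
    conv_rhs => rw [← Projectivization.mk_rep (C.φ p)]
    rw [Projectivization.mk_eq_mk_iff']
    exact ⟨1, by rw [one_smul, (hmem p).1 hp, zero_smul, add_zero]⟩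
  by_cases hv : v = 0
  · have he : toColl C (rankOne v ψ h 1) = 1 := coll_ext fun p => C.φ.injective <| by
      obtain ⟨hn, e⟩ := hsm p
      rw [e, one_smul]
      conv_rhs => rw [← Projectivization.mk_rep (C.φ p)]
      rw [Projectivization.mk_eq_mk_iff']
      exact ⟨1, by simp [hv]⟩
    exact ⟨a, he ▸ one_mem _⟩
  refine ⟨a, exists_el_centre haxis fun p hp e => hv ?_⟩
  obtain ⟨hn, e'⟩ := hsm p
  rw [e] at e'
  conv_lhs at e' => rw [← Projectivization.mk_rep (C.φ p)]
  rw [Projectivization.mk_eq_mk_iff'] at e'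
  obtain ⟨c, hc⟩ := e'
  have hs : ψ ⬝ᵥ (C.φ p).rep ≠ 0 := fun h' => hp ((hmem p).2 h')
  have h1 := congrArg (fun x => ψ ⬝ᵥ x) hc
  simp only [dotProduct_add, dotProduct_smul, h, smul_zero, add_zero, smul_eq_mul, mul_zero] at h1
  obtain rfl : c = 1 := mul_right_cancel₀ hs (by rw [h1, one_mul])
  rw [one_smul] at hc
  exact smul_right_injective _ hs (by simpa using hc)

/-- The subgroup generated by all elations. -/
def allEl (P : Type u) (L : Type v) [Membership P L] [ProjectivePlane P L] [Finite P] [Finite L] :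
    Subgroup (Coll P L) :=
  ⨆ a : L, elGroup (P := P) a

theorem range_toColl [Fintype F] (C : Coords P L F) : (toColl C).range = allEl P L := by
  refine le_antisymm ?_ (iSup_le (elGroup_le_range C))
  rw [MonoidHom.range_eq_map, Subgroup.map_le_iff_le_comap, top_le_iff]
  refine Cfsg.Lib.Classical.eq_top_of_transvection_mem _ fun i j hij c => ?_
  have h0 : (Pi.single j (1 : F) : Fin 3 → F) ⬝ᵥ Pi.single i c = 0 := by
    simp [hij.symm]
  have he : Matrix.SpecialLinearGroup.transvection hij c = rankOne (Pi.single i c) (Pi.single j 1) h0 1 := by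
    apply Subtype.ext
    rw [coe_rankOne]
    ext a b
    simp only [Matrix.SpecialLinearGroup.transvection, Matrix.transvection, Matrix.add_apply,
      Matrix.smul_apply, vecMulVec_apply, smul_eq_mul, Matrix.single_apply, Pi.single_apply]
    congr 1
    by_cases ha : a = i <;> by_cases hb : b = j <;> simp [ha, hb, Ne.symm]
  obtain ⟨a, ha⟩ := rankOne_mem C (P := P) (L := L) (v := Pi.single i c) (ψ := Pi.single j 1) (by simp) h0
  rw [Subgroup.mem_comap, he]
  exact Subgroup.mem_iSup_of_mem a ha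

theorem allEl_equiv (ht : TwoTrans P L) {K : Type w'} [Field K] [Fintype K]
    (hK : ProjectivePlane.order P L = Fintype.card K) :
    Nonempty (↥(allEl P L) ≃* Matrix.ProjectiveSpecialLinearGroup (Fin 3) K) := by
  obtain ⟨F, _, _, φ, h1, h2⟩ := ostrom_wagner ht
  choose W hW1 hW2 using h1
  let C : Coords P L F := ⟨φ, W, hW1, hW2, h2⟩
  obtain ⟨e3⟩ := psl3_congr (FiniteField.ringEquivOfCardEq (K := F) (K' := K) ((order_eq C).symm.trans hK))
  exact ⟨(MulEquiv.subgroupCongr (range_toColl C).symm).trans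
    ((QuotientGroup.quotientKerEquivRange (toColl C)).symm.trans
      ((QuotientGroup.quotientMulEquivOfEq (ker_toColl C)).trans e3))⟩

omit [Finite L] in
/-- In even order no involution is a homology. -/
theorem invol_axis_elation [Finite L] (hev : Even (ProjectivePlane.order P L)) {g : Coll P L} {a : L}
    (hg : g ∈ axisGroup a) (h2 : g * g = 1) {x : P} (hx : x ∉ a) (hfix : g • x = x) : g = 1 := by
  by_contra h1
  obtain ⟨D, hD⟩ := exists_centre hg
  have hp : g ∈ perspGroup D a := ⟨hg, hD⟩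
  obtain rfl : x = D := by
    by_contra h
    exact h1 (persp_eq_one hp hx h hfix)
  obtain ⟨m, hm, -⟩ := exists_line (L := L) x x
  obtain ⟨R, hRm, hRa⟩ := exists_point (P := P) m a
  have hma : m ≠ a := fun e => hx (e ▸ hm)
  have : Even {y : P | y ∈ m ∧ y ≠ x ∧ y ≠ R}.ncard := by
    refine even_ncard_of_involutive _ (g • ·) ?_ (fun y _ => invol_smul_smul h2 y) ?_
    · rintro y ⟨hy, hyx, hyR⟩
      exact ⟨centre_mem_line hD hm hy, fun e => hyx (smul_left_cancel g (e.trans hfix.symm)),
        fun e => hyR (smul_left_cancel g (e.trans (hg R hRa).symm))⟩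
    · rintro y ⟨hy, hyx, hyR⟩ e
      exact h1 (persp_eq_one hp (fun h => hyR (point_unique hma hy h hRm hRa)) hyx e)
  have hxR : x ≠ R := fun e => hx (e ▸ hRa)
  have e : {y : P | y ∈ m ∧ y ≠ x ∧ y ≠ R} = ({y : P | y ∈ m} \ {x}) \ {R} := by
    ext y; simp [and_assoc]
  rw [e, Set.ncard_sdiff_singleton_of_mem (show R ∈ {y : P | y ∈ m} \ {x} from ⟨hRm, Ne.symm hxR⟩),
    Set.ncard_sdiff_singleton_of_mem (show x ∈ {y : P | y ∈ m} from hm), card_on] at this
  have h3 := ProjectivePlane.one_lt_order P L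
  obtain ⟨k, hk⟩ := this
  obtain ⟨l, hl⟩ := hev
  omega

omit [Finite L] in
theorem mem_elGroup_of_pow_two [Finite L] (hev : Even (ProjectivePlane.order P L)) {g : Coll P L} {a : L}
    (hg : g ∈ axisGroup a) {k : ℕ} (h2 : g ^ 2 ^ k = 1) : g ∈ elGroup (P := P) a := by
  induction k generalizing g with
  | zero => rw [pow_zero, pow_one] at h2; exact h2 ▸ one_mem _
  | succ k ih =>
    by_cases h1 : g = 1
    · exact h1 ▸ one_mem _
    refine exists_el_centre hg fun x hx hfix => h1 ?_
    have hs : g * g ∈ elGroup (P := P) a := ih (mul_mem hg hg) (by rw [← pow_two, ← pow_mul, ← pow_succ', h2])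
    have hsq : g * g = 1 := el_semireg hs hx (by rw [mul_smul, hfix, hfix])
    exact invol_axis_elation hev hg hsq hx hfix

end Cfsg.Lib.PlanePSL

namespace Cfsg.Lib.LTP

open Configuration Cfsg.Lib.OW Cfsg.Lib.PlanePSL

/-- A doubly transitive group on a plane of even order `q` with `q²` elements fixing each line pointwise:
these generate `PSL₃(q)`. -/
theorem psl3_of_plane {F : Type*} [Field F] [Fintype F] [CharP F 2] (hq : 4 ≤ Fintype.card F)
    {H : Type*} [Group H] [Finite H] {P L : Type*} [Membership P L] [Configuration.ProjectivePlane P L]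
    [Finite P] [Finite L] [MulAction H P] [MulAction H L] [FaithfulSMul H P]
    (hinc : ∀ (g : H) (p : P) (l : L), g • p ∈ g • l ↔ p ∈ l)
    (hord : Configuration.ProjectivePlane.order P L = Fintype.card F)
    (ht : ∀ p₁ p₂ q₁ q₂ : P, p₁ ≠ p₂ → q₁ ≠ q₂ → ∃ g : H, g • p₁ = q₁ ∧ g • p₂ = q₂)
    (E : L → Subgroup H) (hE : ∀ l, ∀ g ∈ E l, ∀ p ∈ l, g • p = p)
    (hcard : ∀ l, Nat.card ↥(E l) = Fintype.card F ^ 2) :
    Nonempty (↥(⨆ l, E l) ≃* Matrix.ProjectiveSpecialLinearGroup (Fin 3) F) := by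
  have _ := hq
  let θ : H →* Coll P L :=
    { toFun := fun g => ⟨(MulAction.toPerm g, MulAction.toPerm g), hinc g⟩
      map_one' := coll_ext fun p => one_smul H p
      map_mul' := fun g h => coll_ext fun p => mul_smul g h p }
  have hθ : ∀ (g : H) (p : P), θ g • p = g • p := fun _ _ => rfl
  have hinj : Function.Injective θ := fun g h e =>
    FaithfulSMul.eq_of_smul_eq_smul fun p => by rw [← hθ, ← hθ, e]
  have ht' : TwoTrans P L := fun p₁ p₂ q₁ q₂ h1 h2 => by
    obtain ⟨g, hg1, hg2⟩ := ht p₁ p₂ q₁ q₂ h1 h2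
    exact ⟨θ g, hg1, hg2⟩
  obtain ⟨n, -, hn⟩ := FiniteField.card F 2
  have hev : Even (ProjectivePlane.order P L) := by
    rw [hord, hn]; exact (Nat.even_pow' n.pos.ne').2 even_two
  have himg : ∀ l, (E l).map θ = elGroup (P := P) l := by
    intro l
    have hle : (E l).map θ ≤ elGroup (P := P) l := by
      rintro _ ⟨g, hg, rfl⟩
      refine mem_elGroup_of_pow_two hev (k := 2 * (n : ℕ)) (fun p hp => hE l g hg p hp) ?_
      rw [← map_pow]
      have h := pow_card_eq_one' (G := ↥(E l)) (x := ⟨g, hg⟩)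
      rw [hcard, hn, ← pow_mul, Nat.mul_comm] at h
      rw [show g ^ 2 ^ (2 * (n : ℕ)) = 1 from congrArg Subtype.val h, map_one]
    refine Subgroup.eq_of_le_of_card_ge hle ?_
    rw [Subgroup.card_map_of_injective hinj, hcard, ← hord]
    exact card_elGroup_le l
  have hmap : (⨆ l, E l).map θ = allEl P L := by
    rw [Subgroup.map_iSup]
    exact iSup_congr himg
  obtain ⟨e⟩ := allEl_equiv ht' hord
  exact ⟨((Subgroup.equivMapOfInjective _ θ hinj).trans (MulEquiv.subgroupCongr hmap)).trans e⟩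

end Cfsg.Lib.LTP
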