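import Cfsg.Agent.LThreePlane.Points
import Cfsg.Agent.LThreePlane.PlaneIso
import Cfsg.Agent.Components.GenFitting

/-!
# All points collinear: the generalized Fitting subgroup is `L₃(q)`
-/

set_option autoImplicit false

namespace Cfsg.Lib.LTP

open Subgroup Configuration

section GenFit

open Cfsg.Lib.Components
open scoped commutatorElement

/-- With trivial centraliser a simple nonabelian normal subgroup is the generalized Fitting subgroup. -/
theorem genFit_simple_normal {K : Type*} [Group K] [Finite K] {N : Subgroup K} [hn : N.Normal] (hs : IsSimpleGroup N)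
    (hna : ¬ IsMulCommutative N) (hC : centralizer (N : Set K) = ⊥) : Cfsg.generalizedFittingSubgroup K = N := by
  haveI := hs
  have hz : center N = ⊥ := by
    rcases (inferInstance : (center N).Normal).eq_bot_or_eq_top with h | h
    · exact h
    · exact absurd ⟨⟨fun a b => mem_center_iff.1 (h ▸ mem_top b) a⟩⟩ hna
  have hperf : commutator N = ⊤ := by
    rcases (inferInstance : (commutator N).Normal).eq_bot_or_eq_top with h | h
    · refine absurd ⟨⟨fun a b => ?_⟩⟩ hna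
      have : ⁅a, b⁆ ∈ commutator N := by
        rw [_root_.commutator_def]
        exact commutator_mem_commutator (mem_top a) (mem_top b)
      rw [h, mem_bot, commutatorElement_eq_one_iff_mul_comm] at this
      exact this
    · exact h
  have hqs : IsQuasisimple N := by
    refine ⟨Group.isPerfect_def.2 hperf, ?_⟩
    let e : N ⧸ center N ≃* N := (QuotientGroup.quotientMulEquivOfEq hz).trans QuotientGroup.quotientBot
    haveI : Nontrivial (N ⧸ center N) := e.toEquiv.nontrivial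
    exact IsSimpleGroup.isSimpleGroup_of_surjective e.symm.toMonoidHom e.symm.surjective
  have hcomp : IsComponent N := ⟨hn.isSubnormal, hqs⟩
  refine le_antisymm (sup_le (sSup_le fun L hL => ?_) (sSup_le fun F hF => ?_)) ((comp_le_layer hcomp).trans le_sup_left)
  · by_cases h : L = N
    · exact h.le
    exfalso
    have h1 : L ≤ centralizer (N : Set K) := commutator_eq_bot_iff_le_centralizer.1 (comp_commute hL hcomp h)
    exact comp_ne_bot hL (le_bot_iff.1 (hC ▸ h1))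
  · obtain ⟨hFn, hFnil⟩ := hF
    haveI := hFn
    haveI := hFnil
    have h0 : F ⊓ N = ⊥ := by
      rcases (inferInstance : ((F ⊓ N).subgroupOf N).Normal).eq_bot_or_eq_top with h | h
      · rw [subgroupOf_eq_bot, disjoint_iff, inf_assoc, inf_idem] at h
        exact h
      · exfalso
        rw [subgroupOf_eq_top] at h
        haveI : Group.IsNilpotent N := nilpotent_of_mulEquiv (subgroupOfEquivOfLe (h.trans inf_le_left))
        exact comp_not_isSolvable hcomp inferInstance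
    have h1 : F ≤ centralizer (N : Set K) := by
      rw [← commutator_eq_bot_iff_le_centralizer, eq_bot_iff, ← h0]
      exact le_inf (commutator_le_left _ _) (commutator_le_right _ _)
    rw [hC] at h1
    exact h1.trans bot_le

end GenFit

variable {F : Type*} [Field F] [Fintype F] [CharP F 2] {G : Type*} [Group G] [Finite G]

/-- conjugation of points -/
instance ptAct (D : Duo F G) (H : Subgroup G) : MulAction ↥H (Pt D H) where
  smul g A := ⟨cjg (g : G) A.1, by
    obtain ⟨k, hk, e⟩ := A.2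
    exact ⟨(g : G) * k, mul_mem g.2 hk, by rw [cjg_mul, ← e]⟩⟩
  one_smul A := Subtype.ext (cjg_one A.1)
  mul_smul g h A := Subtype.ext (cjg_mul (g : G) (h : G) A.1)

/-- incidence of a point and a line -/
instance ptMem (D : Duo F G) (H : Subgroup G) : Membership (Pt D H) (Pt D.swap H) :=
  ⟨fun l A => Inc A.1 l.1⟩

omit [Fintype F] [Finite G] in
theorem ptMem_iff {D : Duo F G} {H : Subgroup G} {A : Pt D H} {l : Pt D.swap H} :
    A ∈ l ↔ Inc A.1 l.1 := Iff.rfl

omit [Fintype F] [Finite G] in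
theorem ptAct_val {D : Duo F G} {H : Subgroup G} (g : ↥H) (A : Pt D H) : (g • A).1 = cjg (g : G) A.1 := rfl

/-- the standard point -/
def basePt (D : Duo F G) (H : Subgroup G) : Pt D H := ⟨D.one.V, 1, H.one_mem, (cjg_one _).symm⟩

omit [Fintype F] [Finite G] in
theorem inc_base (D : Duo F G) (H : Subgroup G) : basePt D H ∈ basePt D.swap H :=
  ⟨D.one.v 1 0, fun e => one_ne_zero (D.one.v_eq_one.1 e).1, D.one.v_mem 1 0, D.z_mem2 1⟩

omit [Fintype F] [Finite G] in
theorem exists_base {D : Duo F G} {H : Subgroup G} (A : Pt D H) : ∃ g : ↥H, g • basePt D H = A := by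
  obtain ⟨A, g, hg, rfl⟩ := A
  exact ⟨⟨g, hg⟩, rfl⟩

omit [Fintype F] [Finite G] in
theorem smul_inc {D : Duo F G} {H : Subgroup G} (g : ↥H) {A : Pt D H} {l : Pt D.swap H} :
    g • A ∈ g • l ↔ A ∈ l :=
  ⟨fun h => Inc.of_cjg (g := (g : G)) h, fun h => Inc.cjg h (g : G)⟩

namespace Sub

variable {D : Duo F G} {H : Subgroup G} (s : Sub D H)
include s

theorem lines_at (A : Pt D H) : Nat.card {l : Pt D.swap H // A ∈ l} = Fintype.card F + 1 := by
  obtain ⟨g, rfl⟩ := exists_base A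
  rw [← s.card_lines]
  exact (Nat.card_congr ((MulAction.toPerm g).subtypeEquiv fun l => (smul_inc g (A := basePt D H) (l := l)).symm)).symm

theorem points_at (l : Pt D.swap H) : Nat.card {A : Pt D H // A ∈ l} = Fintype.card F + 1 := by
  rw [← s.swap.lines_at l]
  exact Nat.card_congr (Equiv.subtypeEquivRight fun A => ⟨Inc.symm, Inc.symm⟩)

theorem other_line (A : Pt D H) (l m : Pt D.swap H) : ∃ n : Pt D.swap H, A ∈ n ∧ n ≠ l ∧ n ≠ m := by
  by_contra hc
  push Not at hc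
  have h1 := s.lines_at A
  have h2 : Nat.card {n : Pt D.swap H // A ∈ n} ≤ 2 := by
    refine (Nat.card_le_card_of_injective (fun n : {n : Pt D.swap H // A ∈ n} => (⟨n.1, ?_⟩ : ↥({l, m} : Set (Pt D.swap H)))) fun a b e =>
      Subtype.ext (congrArg (fun x : ↥({l, m} : Set (Pt D.swap H)) => x.1) e)).trans ?_
    · by_cases h : n.1 = l
      · exact Set.mem_insert_iff.2 (Or.inl h)
      · exact Set.mem_insert_iff.2 (Or.inr (hc n.1 n.2 h))
    · rw [Nat.card_coe_set_eq]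
      exact (Set.ncard_insert_le _ _).trans (by rw [Set.ncard_singleton])
  have := s.card
  omega

theorem other_point (l : Pt D.swap H) (A B : Pt D H) : ∃ C : Pt D H, C ∈ l ∧ C ≠ A ∧ C ≠ B := by
  obtain ⟨C, hC, h1, h2⟩ := s.swap.other_line l A B
  exact ⟨C, hC.symm, h1, h2⟩

theorem line_eq {A B : Pt D H} (hne : A ≠ B) {l m : Pt D.swap H} (hAl : A ∈ l) (hBl : B ∈ l)
    (hAm : A ∈ m) (hBm : B ∈ m) : l = m :=
  s.two_lines hne hAl hBl hAm hBm

theorem point_off (l : Pt D.swap H) : ∃ A : Pt D H, A ∉ l := by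
  obtain ⟨A, hA, -, -⟩ := s.other_point l (basePt D H) (basePt D H)
  obtain ⟨m, hAm, hml, -⟩ := s.other_line A l l
  obtain ⟨B, hB, hBA, -⟩ := s.other_point m A A
  exact ⟨B, fun hBl => hml (s.line_eq (Ne.symm hBA) hAm hB hA hBl)⟩

variable (hall : ∀ A B : Pt D H, Collinear' D H A.1 B.1)
include hall

/-- the projective plane -/
@[reducible] noncomputable def plane (hall' : ∀ A B : Pt D.swap H, Collinear' D.swap H A.1 B.1) :
    ProjectivePlane (Pt D H) (Pt D.swap H) where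
  exists_point l := s.point_off l
  exists_line A := by
    obtain ⟨l, hl⟩ := s.swap.point_off A
    exact ⟨l, fun h => hl h.symm⟩
  eq_or_eq := fun {A B l m} h1 h2 h3 h4 => by
    by_cases h : A = B
    · exact Or.inl h
    · exact Or.inr (s.line_eq h h1 h2 h3 h4)
  mkPoint := fun {l m} _ => (hall' l m).choose
  mkPoint_ax := fun {l m} _ => ⟨(hall' l m).choose_spec.1.symm, (hall' l m).choose_spec.2.symm⟩
  mkLine := fun {A B} _ => (hall A B).choose
  mkLine_ax := fun {A B} _ => (hall A B).choose_spec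
  exists_config := by
    set l₂ := basePt D.swap H
    obtain ⟨p₂, hp2, -, -⟩ := s.other_point l₂ (basePt D H) (basePt D H)
    obtain ⟨p₃, hp3, h32, -⟩ := s.other_point l₂ p₂ p₂
    obtain ⟨l₃, h23, hl32, -⟩ := s.other_line p₂ l₂ l₂
    have h33 : p₃ ∉ l₃ := fun h => hl32 (s.line_eq h32 h h23 hp3 hp2)
    obtain ⟨B, hB, hB2, -⟩ := s.other_point l₃ p₂ p₂
    have hB3 : B ≠ p₃ := fun e => h33 (e ▸ hB)
    obtain ⟨m, hmB, hm3⟩ := hall B p₃
    have hml3 : m ≠ l₃ := fun e => h33 (e ▸ hm3)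
    have hml2 : m ≠ l₂ := fun e => hl32 (s.line_eq hB2 hB h23 (e ▸ hmB) hp2)
    obtain ⟨p₁, hp1, h13, h1B⟩ := s.other_point m p₃ B
    obtain ⟨n, hn1, hn2⟩ := hall p₁ p₂
    have h12 : p₁ ∉ l₂ := fun h => hml2 (s.line_eq h13 hp1 hm3 h hp3)
    have h13' : p₁ ∉ l₃ := fun h => hml3 (s.line_eq h1B hp1 hmB h hB)
    obtain ⟨l₁, hl1, hl1n, hl1m⟩ := s.other_line p₁ n m
    have hne2 : p₁ ≠ p₂ := fun e => h12 (e ▸ hp2)
    exact ⟨p₁, p₂, p₃, l₁, l₂, l₃, h12, h13',
      fun h => hl1n (s.line_eq hne2 hl1 h hn1 hn2), hp2, h23,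
      fun h => hl1m (s.line_eq h13 hl1 h hp1 hm3), hp3, h33⟩

theorem trans_base (A B : Pt D H) (hne : A ≠ B) : ∀ B₀ : Pt D H, D.two.v 0 1 ∈ B₀.1 →
    ∃ g : ↥H, g • basePt D H = A ∧ g • B₀ = B := by
  intro B₀ hB₀
  obtain ⟨g, rfl⟩ := exists_base A
  set B' := g⁻¹ • B with hB'
  have hne' : basePt D H ≠ B' := fun e => hne (by rw [e, hB', smul_inv_smul])
  obtain ⟨l, hl1, hl2⟩ := hall (basePt D H) B'
  obtain ⟨c, hc, hlc⟩ := s.line_through hl1
  let c' : ↥H := ⟨c, s.L1 hc⟩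
  have hcA : c' • basePt D H = basePt D H := Subtype.ext (cjg_eq_iff.2 (D.one.L_le_norm hc))
  have hcl : c' • basePt D.swap H = l := Subtype.ext hlc.symm
  set B'' := c'⁻¹ • B' with hB''
  have hne'' : basePt D H ≠ B'' := fun e => hne' (by rw [← hcA, e, hB'', smul_inv_smul])
  have hin : B'' ∈ basePt D.swap H := by
    rw [← smul_inc c', hB'', smul_inv_smul, hcl]
    exact hl2
  obtain ⟨a, ha1, haB, hal⟩ := hin
  obtain ⟨d, hd, z, hz, rfl⟩ := D.two.conj_axis hal ha1
  have hB2 : B''.1 = cjg d D.one.V :=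
    congrArg Subtype.val (s.Pt_eq (B := ⟨_, d, s.L2 hd, rfl⟩) ha1 haB (cjg_mem (D.hz z ▸ D.one.v_mem z 0)))
  set P := D.two.π ⟨d, hd⟩
  have hb : P.1 1 0 ≠ 0 := by
    intro hb
    have ha0 : P.1 0 0 ≠ 0 := fun h => by
      have := det2 P
      rw [h, hb] at this
      simp at this
    refine hne'' (s.Pt_eq (a := D.one.v (P.1 0 0) 0) (fun e => ha0 (D.one.v_eq_one.1 e).1) (D.one.v_mem _ _) ?_)
    rw [hB2, D.hz]
    have e := D.two.act d hd 1 0
    simp only [P, mul_one, mul_zero, add_zero] at hb e ⊢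
    rw [hb] at e
    rw [← e, ← D.hz]
    exact cjg_mem (D.one.v_mem 1 0)
  set y := P.1 0 0 / P.1 1 0
  have hmem : D.two.v y 1 ∈ B''.1 := by
    rw [hB2]
    have e := D.two.act d hd (1 / P.1 1 0) 0
    rw [mul_zero, mul_zero, add_zero, add_zero] at e
    have e2 : D.two.v y 1 = d * D.two.v (1 / P.1 1 0) 0 * d⁻¹ := by
      rw [e]
      congr 1
      · show P.1 0 0 / P.1 1 0 = P.1 0 0 * (1 / P.1 1 0)
        rw [mul_one_div]
      · show (1 : F) = P.1 1 0 * (1 / P.1 1 0)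
        rw [mul_one_div, div_self hb]
    rw [e2, ← D.hz]
    exact cjg_mem (D.one.v_mem _ 0)
  let j : ↥H := ⟨D.one.v 0 y, s.L1 (D.one.v_memL 0 y)⟩
  have hjA : j • basePt D H = basePt D H := Subtype.ext (cjg_eq_iff.2 (le_normalizer (D.one.v_mem 0 y)))
  have hjB : j • B₀ = B'' := by
    refine s.Pt_eq (a := D.two.v y 1) (fun e => one_ne_zero (D.two.v_eq_one.1 e).2) ?_ hmem
    have e := D.two.act_up (D.h12 (D.one.v_mem 0 y)) (D.up2 0 y) 0 1
    rw [zero_add, mul_one] at e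
    rw [ptAct_val, ← e]
    exact cjg_mem hB₀
  refine ⟨g * (c' * j), ?_, ?_⟩
  · rw [mul_smul, mul_smul, hjA, hcA]
  · rw [mul_smul, mul_smul, hjB, hB'', smul_inv_smul, hB', smul_inv_smul]

omit hall in
/-- only the identity fixes all points -/
theorem fix_all {g : G} (hg : g ∈ H) (hfix : ∀ A : Pt D H, cjg g A.1 = A.1) : g = 1 := by
  have hV : ∀ a ∈ D.one.V, (∀ A : Pt D H, cjg a A.1 = A.1) → a = 1 := by
    intro a ha hfa
    by_contra ha1
    obtain ⟨c, hc, z, hz, rfl⟩ := D.one.conj_axis ha ha1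
    set w := D.one.v z 0
    have hw1 : w ≠ 1 := fun e => hz (D.one.v_eq_one.1 e).1
    have hwfix : ∀ A : Pt D H, cjg w A.1 = A.1 := fun A => by
      have h := hfa ((⟨c, s.L1 hc⟩ : ↥H) • A)
      rw [ptAct_val, ← cjg_mul] at h
      have h' := congrArg (cjg c⁻¹) h
      rw [← cjg_mul, ← cjg_mul, inv_mul_cancel, cjg_one, show c⁻¹ * (c * w * c⁻¹ * c) = w by group] at h'
      exact h'
    obtain ⟨A, hA⟩ := s.point_off (basePt D.swap H)
    rcases s.invol_fix_pt A (s.J_le (D.V1_le_J (D.one.v_mem z 0))) (D.one.v_sq z 0) (hwfix A) with h | ⟨l, hl, hwl⟩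
    · exact hA (s.Pt_eq hw1 h (D.one.v_mem z 0) (B := basePt D H) ▸ inc_base D H)
    · exact hA (s.swap.Pt_eq hw1 hwl (D.z_mem2 z) (B := basePt D.swap H) ▸ hl)
  have hgn : g ∈ normalizer (D.one.V : Set G) := cjg_eq_iff.1 (hfix (basePt D H))
  have hc : ∀ v ∈ D.one.V, g * v = v * g := fun v hv => by
    refine mul_inv_eq_iff_eq_mul.1 (mul_inv_eq_one.1 (hV _ (mul_mem ((mem_normalizer_iff.1 hgn v).1 hv) (inv_mem hv)) ?_))
    intro A
    have hginv : ∀ B : Pt D H, cjg g⁻¹ B.1 = B.1 := fun B => by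
      conv_lhs => rw [← hfix B]
      rw [← cjg_mul, inv_mul_cancel, cjg_one]
    let v' : ↥H := ⟨v, s.L1 (D.one.vle hv)⟩
    have h1 : cjg (v * g⁻¹ * v⁻¹) A.1 = A.1 := by
      rw [cjg_mul, cjg_mul]
      have e := hginv (v'⁻¹ • A)
      rw [ptAct_val] at e
      rw [show (v⁻¹ : G) = ((v'⁻¹ : ↥H) : G) from rfl, e, ← cjg_mul,
        show v * ((v'⁻¹ : ↥H) : G) = 1 from mul_inv_cancel v, cjg_one]
    rw [show g * v * g⁻¹ * v⁻¹ = g * (v * g⁻¹ * v⁻¹) by group, cjg_mul, h1, hfix A]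
  exact hV g (s.hyp.cent_V1 hc) hfix

/-- **all points collinear gives `L₃(q)`** -/
theorem psl3 (hall' : ∀ A B : Pt D.swap H, Collinear' D.swap H A.1 B.1) :
    Nonempty (↥(Cfsg.generalizedFittingSubgroup G) ≃* Matrix.ProjectiveSpecialLinearGroup (Fin 3) F) := by
  letI := s.plane hall hall'
  haveI : FaithfulSMul ↥H (Pt D H) := ⟨fun {g h} e => by
    refine inv_mul_eq_one.1 (Subtype.ext (s.fix_all (g⁻¹ * h).2 fun A => ?_))
    have := congrArg Subtype.val (show (g⁻¹ * h) • A = A by rw [mul_smul, ← e, inv_smul_smul])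
    exact this⟩
  have hord : ProjectivePlane.order (Pt D H) (Pt D.swap H) = Fintype.card F := by
    have h1 := ProjectivePlane.lineCount_eq (Pt D.swap H) (basePt D H)
    have h2 : lineCount (Pt D.swap H) (basePt D H) = Fintype.card F + 1 := s.lines_at _
    omega
  obtain ⟨B₀, hB₀⟩ : ∃ B₀ : Pt D H, D.two.v 0 1 ∈ B₀.1 :=
    s.exists_pt (s.L1 (D.h21 (D.two.v_mem 0 1))) (D.two.v_sq 0 1)
      (fun e => one_ne_zero (D.two.v_eq_one.1 e).2)
  have ht : ∀ p₁ p₂ q₁ q₂ : Pt D H, p₁ ≠ p₂ → q₁ ≠ q₂ → ∃ g : ↥H, g • p₁ = q₁ ∧ g • p₂ = q₂ := by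
    intro p₁ p₂ q₁ q₂ hp hq
    obtain ⟨g, hg1, hg2⟩ := s.trans_base hall p₁ p₂ hp B₀ hB₀
    obtain ⟨k, hk1, hk2⟩ := s.trans_base hall q₁ q₂ hq B₀ hB₀
    refine ⟨k * g⁻¹, ?_, ?_⟩
    · rw [mul_smul, ← hg1, inv_smul_smul, hk1]
    · rw [mul_smul, ← hg2, inv_smul_smul, hk2]
  let E : Pt D.swap H → Subgroup ↥H := fun l => l.1.subgroupOf H
  have hE : ∀ l : Pt D.swap H, ∀ g ∈ E l, ∀ p ∈ l, g • p = p := by
    intro l g hg A hA
    refine Subtype.ext ?_
    obtain ⟨k, -, eA, el⟩ := s.flag hA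
    have hgl := mem_subgroupOf.1 hg
    rw [el] at hgl
    obtain ⟨u, hu, eu⟩ := hgl
    rw [ptAct_val, eA, ← eu]
    show cjg (k * u * k⁻¹) (cjg k D.one.V) = _
    rw [← cjg_mul, inv_mul_cancel_right, cjg_mul, cjg_eq_iff.2 (D.one.L_le_norm (D.h21 hu))]
  have hcard : ∀ l : Pt D.swap H, Nat.card ↥(E l) = Fintype.card F ^ 2 := fun l => by
    show Nat.card ↥(l.1.subgroupOf H) = _
    rw [Nat.card_congr (subgroupOfEquivOfLe (s.swap.pt_le l)).toEquiv, ← Nat.card_eq_fintype_card]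
    obtain ⟨k, -, e⟩ := l.2
    rw [e, card_cjg]
    exact D.two.card_V
  obtain ⟨e⟩ := psl3_of_plane (by have := s.card; omega) (fun g p l => smul_inc g) hord ht E hE hcard
  set N := (⨆ l, E l).map H.subtype with hN
  have heq : N = closure {a : G | a ∈ H ∧ a * a = 1} := by
    refine le_antisymm ?_ ((closure_le _).2 ?_)
    · rw [hN, Subgroup.map_iSup]
      refine iSup_le fun l => ?_
      rintro _ ⟨u, hu, rfl⟩
      exact subset_closure ⟨u.2, s.swap.pt_sq l (mem_subgroupOf.1 hu)⟩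
    · rintro a ⟨ha, h2⟩
      by_cases h1 : a = 1
      · rw [h1]; exact N.one_mem
      obtain ⟨l, hl⟩ := s.swap.exists_pt ha h2 h1
      exact ⟨⟨a, ha⟩, mem_iSup_of_mem l (mem_subgroupOf.2 hl), rfl⟩
  haveI hNn : N.Normal := ⟨fun n hn g => by
    rw [heq] at hn ⊢
    induction hn using closure_induction with
    | mem a ha =>
      refine subset_closure ⟨s.normal.conj_mem a ha.1 g, ?_⟩
      rw [show g * a * g⁻¹ * (g * a * g⁻¹) = g * (a * a) * g⁻¹ by group, ha.2, mul_one, mul_inv_cancel]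
    | one => simp
    | mul a b _ _ ha hb => rw [show g * (a * b) * g⁻¹ = g * a * g⁻¹ * (g * b * g⁻¹) by group]; exact mul_mem ha hb
    | inv a _ ha => rw [show g * a⁻¹ * g⁻¹ = (g * a * g⁻¹)⁻¹ by group]; exact inv_mem ha⟩
  have hiso : Nonempty (↥N ≃* Matrix.ProjectiveSpecialLinearGroup (Fin 3) F) :=
    ⟨((⨆ l, E l).equivMapOfInjective _ H.subtype_injective).symm.trans e⟩
  obtain ⟨e'⟩ := hiso
  haveI : IsSimpleGroup (Matrix.ProjectiveSpecialLinearGroup (Fin 3) F) :=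
    Cfsg.Lib.Classical.isSimpleGroup_PSL (by rw [Fintype.card_fin])
  haveI : Nontrivial ↥N := e'.toEquiv.nontrivial
  have hs : IsSimpleGroup ↥N := IsSimpleGroup.isSimpleGroup_of_surjective e'.symm.toMonoidHom e'.symm.surjective
  have hmem : ∀ a ∈ D.J, a * a = 1 → a ∈ N := fun a ha h2 => heq ▸ subset_closure ⟨s.J_le ha, h2⟩
  have hV1 : ∀ a ∈ D.one.V, a ∈ N := fun a ha => hmem a (D.V1_le_J ha) (D.one.sq_V ha)
  have hV2 : ∀ a ∈ D.two.V, a ∈ N := fun a ha => hmem a (D.V2_le_J ha) (D.two.sq_V ha)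
  have hna : ¬ IsMulCommutative ↥N := fun hc => by
    have e1 := congrArg Subtype.val (hc.is_comm.comm (⟨_, hV1 _ (D.one.v_mem 0 1)⟩ : ↥N) ⟨_, hV2 _ (D.two.v_mem 0 1)⟩)
    simp only [Subgroup.coe_mul] at e1
    rw [D.one_eq_j, D.two_eq_j, D.commute_j] at e1
    simp at e1
  have hC : centralizer (N : Set G) = ⊥ := by
    rw [eq_bot_iff_forall]
    have hz : ∀ g ∈ centralizer (N : Set G), ∃ z, g = D.one.v z 0 := fun g hg => by
      have h1 := s.hyp.cent_V1 (c := g) fun v hv => (mem_centralizer_iff.1 hg v (hV1 v hv)).symm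
      have h2 := s.hyp.swap.cent_V1 (c := g) fun v hv => (mem_centralizer_iff.1 hg v (hV2 v hv)).symm
      exact D.inter_eq h1 h2
    intro g hg
    obtain ⟨l, hl, hπ⟩ := D.one.exists_lift (lo 1)
    have hg' : l * g * l⁻¹ ∈ centralizer (N : Set G) := mem_centralizer_iff.2 fun n hn => by
      have := mem_centralizer_iff.1 hg _ (hNn.conj_mem n hn l⁻¹)
      rw [inv_inv] at this
      calc n * (l * g * l⁻¹) = l * (l⁻¹ * n * l * g) * l⁻¹ := by group
        _ = l * g * l⁻¹ * n := by rw [this]; group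
    obtain ⟨z, rfl⟩ := hz g hg
    obtain ⟨z', hz'⟩ := hz _ hg'
    rw [D.one.act_lo hl hπ, one_mul, add_zero] at hz'
    rw [(D.one.v_inj _ _ _ _ hz').2, D.one.v_zero]
  rw [genFit_simple_normal hs hna hC]
  exact ⟨e'⟩

end Sub

end Cfsg.Lib.LTP
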