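import Cfsg.Agent.LThreePlane.Split

/-!
# Points and lines
-/

set_option autoImplicit false

namespace Cfsg.Lib.LTP

open Subgroup

section General

variable {G : Type*} [Group G] [Finite G]

/-- conjugacy into a maximal 2-subgroup of a subgroup -/
theorem sylow_conj {K J : Subgroup G} (hJK : J ≤ K) (hJ : IsPGroup 2 ↥J)
    (hmax : ∀ P : Subgroup G, IsPGroup 2 ↥P → J ≤ P → P ≤ K → P = J) {P : Subgroup G}
    (hP : IsPGroup 2 ↥P) (hPK : P ≤ K) : ∃ k ∈ K, P ≤ cjg k J := by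
  haveI : Fact (Nat.Prime 2) := ⟨Nat.prime_two⟩
  have hJ' : IsPGroup 2 ↥(J.subgroupOf K) := hJ.comap_of_injective K.subtype Subtype.val_injective
  obtain ⟨S, hS⟩ := hJ'.exists_le_sylow
  have hSJ : (S : Subgroup ↥K).map K.subtype = J := by
    refine hmax _ (S.isPGroup'.map _) (fun u hu => ⟨⟨u, hJK hu⟩, hS (mem_subgroupOf.2 hu), rfl⟩) ?_
    rintro _ ⟨u, -, rfl⟩
    exact u.2
  obtain ⟨T, hT⟩ := (hP.comap_of_injective K.subtype Subtype.val_injective :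
    IsPGroup 2 ↥(P.subgroupOf K)).exists_le_sylow
  obtain ⟨k, hk⟩ := MulAction.exists_smul_eq ↥K S T
  refine ⟨k, k.2, fun p hp => ?_⟩
  have hpT := hT (show (⟨p, hPK hp⟩ : ↥K) ∈ P.subgroupOf K from mem_subgroupOf.2 hp)
  rw [← hk, Sylow.coe_subgroup_smul, Subgroup.mem_pointwise_smul_iff_inv_smul_mem] at hpT
  rw [mem_cjg, ← hSJ]
  refine ⟨_, hpT, ?_⟩
  simp [MulAut.smul_def]

/-- two subgroups meet outside the identity -/
def Inc (A B : Subgroup G) : Prop := ∃ a, a ≠ 1 ∧ a ∈ A ∧ a ∈ B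

omit [Finite G] in
theorem Inc.symm {A B : Subgroup G} (h : Inc A B) : Inc B A := by
  obtain ⟨a, h1, h2, h3⟩ := h
  exact ⟨a, h1, h3, h2⟩

omit [Finite G] in
theorem Inc.cjg {A B : Subgroup G} (h : Inc A B) (g : G) : Inc (cjg g A) (cjg g B) := by
  obtain ⟨a, h1, h2, h3⟩ := h
  exact ⟨g * a * g⁻¹, fun e => h1 (conj_eq_one_iff.1 e), cjg_mem h2, cjg_mem h3⟩

omit [Finite G] in
theorem Inc.of_cjg {A B : Subgroup G} {g : G} (h : Inc (LTP.cjg g A) (LTP.cjg g B)) : Inc A B := by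
  have := h.cjg g⁻¹
  rwa [← cjg_mul, ← cjg_mul, inv_mul_cancel, cjg_one, cjg_one] at this

end General

variable {F : Type*} [Field F] [Fintype F] [CharP F 2] {G : Type*} [Group G] [Finite G]

/-- the normal subgroup in which the common subgroup is a Sylow subgroup -/
structure Sub (D : Duo F G) (H : Subgroup G) : Prop where
  hyp : Hyp D
  card : 8 ≤ Fintype.card F
  normal : H.Normal
  L1 : D.one.L ≤ H
  L2 : D.two.L ≤ H
  jsyl : ∀ p ∈ H, p ∈ normalizer (D.J : Set G) → ∀ k : ℕ, p ^ 2 ^ k = 1 → p ∈ D.J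

omit [Fintype F] [Finite G] in
/-- every involution of a module is conjugate to a central one inside the block -/
theorem Blk.conj_axis (B : Blk F G) {a : G} (ha : a ∈ B.V) (h1 : a ≠ 1) :
    ∃ c ∈ B.L, ∃ z, z ≠ 0 ∧ a = c * B.v z 0 * c⁻¹ := by
  obtain ⟨z, y, rfl⟩ := (B.mem_V a).1 ha
  by_cases hz : z = 0
  · subst hz
    have hy : y ≠ 0 := fun e => h1 (by rw [e, B.v_zero])
    obtain ⟨l, hl, hπ⟩ := B.exists_lift (lo 1)
    obtain ⟨l', hl', hπ'⟩ := B.exists_lift (up 1)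
    refine ⟨l' * l, mul_mem hl' hl, y, hy, ?_⟩
    rw [show l' * l * B.v y 0 * (l' * l)⁻¹ = l' * (l * B.v y 0 * l⁻¹) * l'⁻¹ by group,
      B.act_lo hl hπ, B.act_up hl' hπ', one_mul, add_zero, one_mul, CharTwo.add_self_eq_zero]
  · obtain ⟨l, hl, hπ⟩ := B.exists_lift (lo (y / z))
    exact ⟨l, hl, z, hz, by rw [B.act_lo hl hπ, div_mul_cancel₀ _ hz, add_zero]⟩

/-- the conjugates in `H` of the first module -/
def Pt (D : Duo F G) (H : Subgroup G) : Type _ := {A : Subgroup G // ∃ g ∈ H, A = cjg g D.one.V}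

omit [Fintype F] [CharP F 2] in
instance finitePt (D : Duo F G) (H : Subgroup G) : Finite (Pt D H) := by
  unfold Pt; infer_instance

/-- a common line -/
def Collinear' (D : Duo F G) (H : Subgroup G) (A B : Subgroup G) : Prop :=
  ∃ l : Pt D.swap H, Inc A l.1 ∧ Inc B l.1

namespace Sub

variable {D : Duo F G} {H : Subgroup G} (s : Sub D H)
include s

theorem swap : Sub D.swap H :=
  ⟨s.hyp.swap, s.card, s.normal, s.L2, s.L1, by rw [D.J_swap]; exact s.jsyl⟩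

theorem J_le : D.J ≤ H := D.J_le_L1.trans s.L1

theorem J_top {P : Subgroup G} (hP : IsPGroup 2 ↥P) (hJP : D.J ≤ P) (hPH : P ≤ H) : P = D.J := by
  refine le_antisymm (fun p hp => ?_) hJP
  obtain ⟨k, hk⟩ := hP ⟨p, hp⟩
  exact s.jsyl p (hPH hp) (s.hyp.le_norm_J hP hJP hp) k (congrArg Subtype.val hk)

/-- the normaliser of the common subgroup in `H` fixes both modules -/
theorem norm_stab {g : G} (hH : g ∈ H) (hn : g ∈ normalizer (D.J : Set G)) : g ∈ D.stab := by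
  by_contra hs
  have hsw := (D.norm_J_cases hn).resolve_left hs
  have hgg : g * g ∈ D.stab := D.swa_mul_mem hsw hsw
  obtain ⟨k, m, hm, he⟩ := Nat.exists_eq_two_pow_mul_odd (orderOf_pos g).ne'
  obtain ⟨i, rfl⟩ := hm
  have hpow : g ^ (2 * i + 1) ∈ D.J := by
    refine s.jsyl _ (pow_mem hH _) (pow_mem hn _) k ?_
    rw [← pow_mul, mul_comm, ← he, pow_orderOf_eq_one]
  refine hs ?_
  have h2 := D.stab.mul_mem (inv_mem (pow_mem hgg i)) (D.J_le_stab hpow)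
  rwa [show (g * g) ^ i = g ^ (2 * i) by rw [pow_mul, pow_two], pow_succ, inv_mul_cancel_left] at h2

/-- an element of `H` carrying one central involution to another fixes both modules -/
theorem align {g : G} (hg : g ∈ H) {z z' : F} (hz : z ≠ 0)
    (e : g * D.one.v z 0 * g⁻¹ = D.one.v z' 0) : g ∈ D.stab := by
  have hz' : z' ≠ 0 := fun e' => hz (D.one.v_eq_one.1 (conj_eq_one_iff.1 (e.trans (by rw [e', D.one.v_zero])))).1
  refine s.norm_stab hg (cjg_eq_iff.1 (eq_of_le_of_card_ge ?_ (card_cjg _ _).ge))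
  rintro _ ⟨u, hu, rfl⟩
  show g * u * g⁻¹ ∈ D.J
  obtain ⟨k, hk⟩ := D.J_two ⟨u, hu⟩
  refine s.jsyl _ (mul_mem (mul_mem hg (s.J_le hu)) (inv_mem hg)) (s.hyp.cent_z s.card hz' ?_) k ?_
  · rw [← e, show g * u * g⁻¹ * (g * D.one.v z 0 * g⁻¹) = g * (u * D.one.v z 0) * g⁻¹ by group,
      ← D.z_central z hu]
    group
  · rw [conj_pow, show u ^ 2 ^ k = 1 from congrArg Subtype.val hk, mul_one, mul_inv_cancel]

theorem cjg_eq {g g' : G} (h : g⁻¹ * g' ∈ normalizer (D.one.V : Set G)) :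
    cjg g' D.one.V = cjg g D.one.V := by
  conv_lhs => rw [show g' = g * (g⁻¹ * g') by group, cjg_mul, cjg_eq_iff.2 h]

/-- a point containing a central involution -/
theorem pt_eq {g : G} (hg : g ∈ H) {z : F} (hz : z ≠ 0) (hm : D.one.v z 0 ∈ cjg g D.one.V) :
    cjg g D.one.V = D.one.V := by
  obtain ⟨c, hc, z', hz', e⟩ := D.one.conj_axis (mem_cjg.1 hm) (fun e => hz (D.one.v_eq_one.1
    (by rw [show D.one.v z 0 = g * (g⁻¹ * D.one.v z 0 * g) * g⁻¹ by group, e, mul_one, mul_inv_cancel])).1)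
  have hgc : g * c ∈ D.stab := s.align (mul_mem hg (s.L1 hc)) hz' (z := z') (z' := z) (by
    rw [show g * c * D.one.v z' 0 * (g * c)⁻¹ = g * (c * D.one.v z' 0 * c⁻¹) * g⁻¹ by group, ← e]; group)
  have h1 := cjg_eq_iff.2 hgc.1
  rwa [cjg_mul, cjg_eq_iff.2 (D.one.L_le_norm hc)] at h1

/-- two points sharing an involution are equal -/
theorem pt_unique {g g' : G} (hg : g ∈ H) (hg' : g' ∈ H) {a : G} (ha1 : a ≠ 1) (ha : a ∈ cjg g D.one.V)
    (ha' : a ∈ cjg g' D.one.V) : cjg g D.one.V = cjg g' D.one.V := by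
  obtain ⟨b, hb, rfl⟩ := ha
  obtain ⟨c, hc, z, hz, rfl⟩ := D.one.conj_axis hb (fun e => ha1 (by simp [e]))
  have key := s.pt_eq (g := (g * c)⁻¹ * g') (mul_mem (inv_mem (mul_mem hg (s.L1 hc))) hg') hz (by
    rw [cjg_mul, mem_cjg, inv_inv]
    convert ha' using 1
    show g * c * D.one.v z 0 * (g * c)⁻¹ = g * (c * D.one.v z 0 * c⁻¹) * g⁻¹
    group)
  conv_rhs => rw [show g' = g * c * ((g * c)⁻¹ * g') by group, cjg_mul, key, cjg_mul,
    cjg_eq_iff.2 (D.one.L_le_norm hc)]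

theorem Pt_eq {A B : Pt D H} {a : G} (ha1 : a ≠ 1) (ha : a ∈ A.1) (hb : a ∈ B.1) : A = B := by
  obtain ⟨A, g, hg, rfl⟩ := A
  obtain ⟨B, g', hg', rfl⟩ := B
  exact Subtype.ext (s.pt_unique hg hg' ha1 ha hb)

/-- every involution of `H` is conjugate to a central one -/
theorem invol_conj {a : G} (ha : a ∈ H) (h2 : a * a = 1) (h1 : a ≠ 1) :
    ∃ g ∈ H, ∃ z, z ≠ 0 ∧ a = g * D.one.v z 0 * g⁻¹ := by
  obtain ⟨k, hk, hle⟩ := sylow_conj s.J_le D.J_two (fun _ h1 h2 h3 => s.J_top h1 h2 h3)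
    (two_of_pow (g := a) (k := 1) (by rw [pow_one, pow_two, h2])) (zpowers_le.2 ha)
  have haJ := mem_cjg.1 (hle (mem_zpowers a))
  obtain ⟨c, hc, z, hz, e⟩ := D.conj_center haJ (by
    rw [show k⁻¹ * a * k * (k⁻¹ * a * k) = k⁻¹ * (a * a) * k by group, h2, mul_one, inv_mul_cancel])
    (fun e => h1 (by rw [show a = k * (k⁻¹ * a * k) * k⁻¹ by group, e, mul_one, mul_inv_cancel]))
  exact ⟨k * c, mul_mem hk (sup_le s.L1 s.L2 hc), z, hz, by
    rw [show k * c * D.one.v z 0 * (k * c)⁻¹ = k * (c * D.one.v z 0 * c⁻¹) * k⁻¹ by group, ← e]; group⟩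

theorem exists_pt {a : G} (ha : a ∈ H) (h2 : a * a = 1) (h1 : a ≠ 1) : ∃ A : Pt D H, a ∈ A.1 := by
  obtain ⟨g, hg, z, -, rfl⟩ := s.invol_conj ha h2 h1
  exact ⟨⟨_, g, hg, rfl⟩, cjg_mem (D.one.v_mem z 0)⟩

theorem pt_le (A : Pt D H) : A.1 ≤ H := by
  obtain ⟨A, g, hg, rfl⟩ := A
  rintro _ ⟨u, hu, rfl⟩
  exact mul_mem (mul_mem hg (s.L1 (D.one.vle hu))) (inv_mem hg)

theorem pt_sq (A : Pt D H) {a : G} (ha : a ∈ A.1) : a * a = 1 := by
  obtain ⟨A, g, hg, rfl⟩ := A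
  obtain ⟨u, hu, rfl⟩ := ha
  rw [← map_mul, D.one.sq_V hu, map_one]

/-- an incident pair is a conjugate of the standard one -/
theorem flag {A : Pt D H} {l : Pt D.swap H} (h : Inc A.1 l.1) :
    ∃ k ∈ H, A.1 = cjg k D.one.V ∧ l.1 = cjg k D.two.V := by
  obtain ⟨a, ha1, hA, hl⟩ := h
  obtain ⟨g, hg, z, hz, rfl⟩ := s.invol_conj (s.pt_le A hA) (s.pt_sq A hA) ha1
  refine ⟨g, hg, ?_, ?_⟩
  · exact congrArg Subtype.val (s.Pt_eq (B := ⟨_, g, hg, rfl⟩) ha1 hA (cjg_mem (D.one.v_mem z 0)))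
  · exact congrArg Subtype.val (s.swap.Pt_eq (B := ⟨_, g, hg, rfl⟩) ha1 hl (cjg_mem (D.z_mem2 z)))

/-- a line through the standard point -/
theorem line_through {l : Pt D.swap H} (h : Inc D.one.V l.1) : ∃ c ∈ D.one.L, l.1 = cjg c D.two.V := by
  obtain ⟨a, ha1, hA, hl⟩ := h
  obtain ⟨c, hc, z, hz, rfl⟩ := D.one.conj_axis hA ha1
  exact ⟨c, hc, congrArg Subtype.val (s.swap.Pt_eq (B := ⟨_, c, s.L1 hc, rfl⟩) ha1 hl (cjg_mem (D.z_mem2 z)))⟩

/-- the meet of the standard point with a line through it -/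
theorem meet_line {c : G} (hc : c ∈ D.one.L) {a : G} :
    a ∈ D.one.V ∧ a ∈ cjg c D.two.V ↔ ∃ z, a = c * D.one.v z 0 * c⁻¹ := by
  constructor
  · rintro ⟨h1, h2⟩
    have h1' : c⁻¹ * a * c ∈ D.one.V := (mem_normalizer_iff''.1 (D.one.L_le_norm hc) a).1 h1
    obtain ⟨z, hz⟩ := D.inter_eq h1' (mem_cjg.1 h2)
    exact ⟨z, by rw [← hz]; group⟩
  · rintro ⟨z, rfl⟩
    exact ⟨D.one.conj_mem hc (D.one.v_mem z 0), cjg_mem (D.z_mem2 z)⟩

/-- the standard point lies on `q + 1` lines -/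
theorem card_lines : Nat.card {l : Pt D.swap H // Inc D.one.V l.1} = Fintype.card F + 1 := by
  classical
  set q := Fintype.card F
  let Lns := {l : Pt D.swap H // Inc D.one.V l.1}
  haveI : Fintype Lns := Fintype.ofFinite _
  let f : (Σ l : Lns, {a : G // a ∈ D.one.V ∧ a ≠ 1 ∧ a ∈ l.1.1}) → {a : G // a ∈ D.one.V ∧ a ≠ 1} :=
    fun p => ⟨p.2.1, p.2.2.1, p.2.2.2.1⟩
  have hf : Function.Bijective f := by
    refine ⟨fun p p' e => ?_, fun a => ?_⟩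
    · obtain ⟨l, a, ha⟩ := p
      obtain ⟨l', a', ha'⟩ := p'
      obtain rfl : a = a' := congrArg Subtype.val e
      obtain rfl : l = l' := Subtype.ext (s.swap.Pt_eq ha.2.1 ha.2.2 ha'.2.2)
      rfl
    · obtain ⟨c, hc, z, hz, e⟩ := D.one.conj_axis a.2.1 a.2.2
      have hm : (a : G) ∈ cjg c D.two.V := e ▸ cjg_mem (D.z_mem2 z)
      exact ⟨⟨⟨⟨_, c, s.L1 hc, rfl⟩, a, a.2.2, a.2.1, hm⟩, a, a.2.1, a.2.2, hm⟩, rfl⟩
  have hfib : ∀ l : Lns, Nat.card {a : G // a ∈ D.one.V ∧ a ≠ 1 ∧ a ∈ l.1.1} = q - 1 := by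
    intro l
    obtain ⟨c, hc, e⟩ := s.line_through l.2
    have hu : Nat.card Fˣ = q - 1 := by rw [Nat.card_eq_fintype_card, Fintype.card_units]
    rw [← hu]
    refine (Nat.card_congr (Equiv.ofBijective (fun t : Fˣ => (⟨c * D.one.v t 0 * c⁻¹,
      ((s.meet_line hc).2 ⟨t, rfl⟩).1, fun e' => t.ne_zero (D.one.v_eq_one.1 (conj_eq_one_iff.1 e')).1,
      e ▸ ((s.meet_line hc).2 ⟨t, rfl⟩).2⟩ : {a : G // a ∈ D.one.V ∧ a ≠ 1 ∧ a ∈ l.1.1})) ⟨?_, ?_⟩)).symm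
    · intro t t' e'
      have e2 := congrArg Subtype.val e'
      exact Units.ext (D.one.v_inj _ _ _ _ (mul_left_cancel (mul_right_cancel e2))).1
    · rintro ⟨a, h1, h2, h3⟩
      obtain ⟨z, rfl⟩ := (s.meet_line hc).1 ⟨h1, e ▸ h3⟩
      exact ⟨Units.mk0 z fun e' => h2 (by rw [e', D.one.v_zero, mul_one, mul_inv_cancel]), rfl⟩
  have htot : Nat.card {a : G // a ∈ D.one.V ∧ a ≠ 1} = q ^ 2 - 1 := by
    have h1 : Nat.card ↥D.one.V = q ^ 2 := by rw [D.one.card_V, Nat.card_eq_fintype_card]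
    haveI : Fintype ↥D.one.V := Fintype.ofFinite _
    rw [← h1, Nat.card_eq_fintype_card (α := ↥D.one.V)]
    have h2 : Nat.card {a : G // a ∈ D.one.V ∧ a ≠ 1} = Nat.card {a : ↥D.one.V // a ≠ 1} :=
      Nat.card_congr
        { toFun := fun a => ⟨⟨a.1, a.2.1⟩, fun e => a.2.2 (congrArg Subtype.val e)⟩
          invFun := fun a => ⟨a.1.1, a.1.2, fun e => a.2 (Subtype.ext e)⟩
          left_inv := fun _ => rfl
          right_inv := fun _ => rfl }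
    rw [h2, Nat.card_eq_fintype_card, Fintype.card_subtype_compl, Fintype.card_subtype_eq]
  have hsum := Nat.card_congr (Equiv.ofBijective f hf)
  rw [Nat.card_sigma, htot] at hsum
  simp only [hfib, Finset.sum_const, Finset.card_univ, smul_eq_mul, ← Nat.card_eq_fintype_card] at hsum
  have hq := s.card
  have e : q ^ 2 - 1 = (q + 1) * (q - 1) := by rw [← Nat.sq_sub_sq, one_pow]
  exact Nat.eq_of_mul_eq_mul_right (by omega) (hsum.trans e)

/-- an involution fixing the standard point -/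
theorem invol_fix {a : G} (ha : a ∈ H) (h2 : a * a = 1) (hn : a ∈ normalizer (D.one.V : Set G)) :
    a ∈ D.one.L ∧ (a ∈ D.one.V ∨ ∃ l : Pt D.swap H, Inc D.one.V l.1 ∧ a ∈ l.1) := by
  obtain ⟨k, hk, hle⟩ := sylow_conj (K := H ⊓ normalizer (D.one.V : Set G))
    (le_inf s.J_le (D.J_le_L1.trans D.one.L_le_norm)) D.J_two
    (fun _ h1 h2 h3 => s.J_top h1 h2 (h3.trans inf_le_left))
    (two_of_pow (g := a) (k := 1) (by rw [pow_one, pow_two, h2])) (zpowers_le.2 ⟨ha, hn⟩)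
  have haJ := mem_cjg.1 (hle (mem_zpowers a))
  have hkL : k ∈ normalizer (D.one.L : Set G) := s.hyp.norm1 ▸ hk.2
  refine ⟨by simpa [mul_assoc] using (mem_normalizer_iff.1 hkL _).1 (D.J_le_L1 haJ), ?_⟩
  rcases D.sq_cases haJ (by
    rw [show k⁻¹ * a * k * (k⁻¹ * a * k) = k⁻¹ * (a * a) * k by group, h2, mul_one, inv_mul_cancel]) with h | h
  · exact Or.inl ((mem_normalizer_iff''.1 hk.2 a).2 h)
  · refine Or.inr ⟨⟨_, k, hk.1, rfl⟩, ?_, mem_cjg.2 h⟩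
    have := Inc.cjg ⟨D.one.v 1 0, fun e => one_ne_zero (D.one.v_eq_one.1 e).1, D.one.v_mem 1 0, D.z_mem2 1⟩
      (A := D.one.V) (B := D.two.V) k
    rwa [cjg_eq_iff.2 hk.2] at this

/-- the involutions fixing a point -/
theorem invol_fix_pt (A : Pt D H) {a : G} (ha : a ∈ H) (h2 : a * a = 1) (hn : cjg a A.1 = A.1) :
    a ∈ A.1 ∨ ∃ l : Pt D.swap H, Inc A.1 l.1 ∧ a ∈ l.1 := by
  obtain ⟨A, g, hg, rfl⟩ := A
  have hb : g⁻¹ * a * g ∈ normalizer (D.one.V : Set G) := by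
    rw [← cjg_eq_iff, cjg_mul, cjg_mul, hn, ← cjg_mul, inv_mul_cancel, cjg_one]
  rcases (s.invol_fix (mul_mem (mul_mem (inv_mem hg) ha) hg)
    (by rw [show g⁻¹ * a * g * (g⁻¹ * a * g) = g⁻¹ * (a * a) * g by group, h2, mul_one, inv_mul_cancel]) hb).2
    with h | ⟨l, hl, hal⟩
  · exact Or.inl (mem_cjg.2 h)
  · obtain ⟨l, k, hk, rfl⟩ := l
    refine Or.inr ⟨⟨_, g * k, mul_mem hg hk, rfl⟩, ?_, ?_⟩
    · show Inc (cjg g D.one.V) (cjg (g * k) D.swap.one.V)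
      rw [cjg_mul]; exact hl.cjg g
    · show a ∈ cjg (g * k) D.swap.one.V
      rw [cjg_mul, mem_cjg]; exact hal

/-- an involution fixing two points puts them on a line -/
theorem coll_of_fix {A B : Pt D H} (hne : A ≠ B) {a : G} (ha : a ∈ H) (h2 : a * a = 1) (h1 : a ≠ 1)
    (hA : cjg a A.1 = A.1) (hB : cjg a B.1 = B.1) : Collinear' D H A.1 B.1 := by
  rcases s.invol_fix_pt A ha h2 hA with h | ⟨l, hl, hal⟩ <;>
    rcases s.invol_fix_pt B ha h2 hB with h' | ⟨m, hm, ham⟩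
  · exact absurd (s.Pt_eq h1 h h') hne
  · exact ⟨m, ⟨a, h1, h, ham⟩, hm⟩
  · exact ⟨l, hl, ⟨a, h1, h', hal⟩⟩
  · obtain rfl := s.swap.Pt_eq h1 hal ham
    exact ⟨l, hl, hm⟩

/-- two points lie on at most one line -/
theorem two_lines {A B : Pt D H} (hne : A ≠ B) {l m : Pt D.swap H} (hAl : Inc A.1 l.1) (hBl : Inc B.1 l.1)
    (hAm : Inc A.1 m.1) (hBm : Inc B.1 m.1) : l = m := by
  by_contra hlm
  obtain ⟨y, hy1, hyA, hym⟩ := hAm
  obtain ⟨b, hb1, hbB, hbm⟩ := hBm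
  obtain ⟨k, hk, eA, el⟩ := s.flag hAl
  obtain ⟨a, ha1, haB, hal⟩ := hBl
  -- the two involutions on the second line commute
  have hyB : cjg y B.1 = B.1 := by
    have e : y * b * y⁻¹ = b := by
      obtain ⟨M, g, hg, rfl⟩ := m
      obtain ⟨u, hu, rfl⟩ := hym
      obtain ⟨u', hu', rfl⟩ := hbm
      show MulAut.conj g u * MulAut.conj g u' * (MulAut.conj g u)⁻¹ = MulAut.conj g u'
      rw [← map_inv, ← map_mul, ← map_mul, D.two.comm_V hu hu', mul_inv_cancel_right]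
    obtain ⟨B, g, hg, rfl⟩ := B
    have := s.Pt_eq (A := ⟨cjg (y * g) D.one.V, _, mul_mem (s.pt_le A hyA) hg, rfl⟩)
      (B := ⟨_, g, hg, rfl⟩) hb1 (by
        show b ∈ cjg (y * g) D.one.V
        rw [cjg_mul, ← e]
        exact cjg_mem hbB) hbB
    rw [← cjg_mul]
    exact congrArg Subtype.val this
  have haA : cjg a A.1 = A.1 := by
    rw [el] at hal
    rw [eA]
    obtain ⟨u, hu, rfl⟩ := hal
    show cjg (k * u * k⁻¹) (cjg k D.one.V) = _
    rw [← cjg_mul, inv_mul_cancel_right, cjg_mul, cjg_eq_iff.2 (D.one.L_le_norm (D.h21 hu))]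
  have hcA : a * y * a⁻¹ * y⁻¹ ∈ A.1 := by
    refine mul_mem ?_ (inv_mem hyA)
    rw [← haA]
    exact cjg_mem hyA
  have hcB : a * y * a⁻¹ * y⁻¹ ∈ B.1 := by
    rw [mul_assoc, mul_assoc, ← mul_assoc y]
    refine mul_mem haB ?_
    rw [← hyB]
    exact cjg_mem (inv_mem haB)
  have hc : a * y * a⁻¹ * y⁻¹ = 1 := by
    by_contra hc
    exact hne (s.Pt_eq hc hcA hcB)
  -- in coordinates
  rw [eA] at hyA
  rw [el] at hal
  obtain ⟨u, hu, rfl⟩ := hyA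
  obtain ⟨v, hv, rfl⟩ := hal
  obtain ⟨z, w, rfl⟩ := (D.one.mem_V u).1 hu
  obtain ⟨p, x, rfl⟩ := (D.two.mem_V v).1 hv
  have hx : x ≠ 0 := by
    rintro rfl
    refine hne (s.Pt_eq ha1 ?_ haB)
    rw [eA]
    refine ⟨_, ?_, rfl⟩
    rw [← D.hz]; exact D.one.v_mem p 0
  have hw : w ≠ 0 := by
    rintro rfl
    refine hlm (s.swap.Pt_eq hy1 ?_ hym)
    rw [el]
    exact ⟨_, D.z_mem2 z, rfl⟩
  simp only [← map_inv, ← map_mul, map_eq_one_iff _ (MulEquiv.injective _), MulEquiv.coe_toMonoidHom] at hc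
  rw [D.two_eq_j, D.one_eq_j, D.comm_j, zero_mul, add_zero, D.one.v_eq_one] at hc
  exact mul_ne_zero hx hw hc.1

end Sub

end Cfsg.Lib.LTP
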