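import Cfsg.Agent.LThreePlane.Action
import Cfsg.Agent.LThreePlane.InvolCount
import Cfsg.Agent.LThreePlane.OddBound

/-!
# Elements inverted by an involution moving a point off its lines
-/

set_option autoImplicit false

namespace Cfsg.Lib.LTP

open Subgroup

variable {F : Type*} [Field F] [Fintype F] [CharP F 2] {G : Type*} [Group G] [Finite G]

/-- an odd group of scalars at the standard point -/
structure ScalGrp (D : Duo F G) (H : Subgroup G) (B : Subgroup G) : Prop where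
  le : B ≤ D.one.scalSub (ptStab D H) ptStab_norm
  odd : Odd (Nat.card ↥B)

/-- its centraliser fixes the point -/
def Good (D : Duo F G) (H : Subgroup G) (B : Subgroup G) : Prop :=
  ∀ x ∈ H, (∀ b ∈ B, x * b = b * x) → x ∈ ptStab D H

omit [Fintype F] [CharP F 2] in
/-- an involutive self map of an odd finite set has a fixed point -/
theorem exists_fix_of_odd {S : Type*} [Finite S] (hS : Odd (Nat.card S)) (f : S → S)
    (hf : ∀ a, f (f a) = a) : ∃ a, f a = a := by
  by_contra hno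
  push Not at hno
  haveI := Fintype.ofFinite S
  have h0 : ∑ _x : S, (1 : ZMod 2) = 0 :=
    Finset.sum_involution (fun x _ => f x) (fun x _ => by decide)
      (fun x _ _ => hno x) (fun x _ => Finset.mem_univ _) (fun x _ => hf x)
  simp only [Finset.sum_const, Finset.card_univ, nsmul_eq_mul, mul_one] at h0
  rw [← Nat.card_eq_fintype_card, ZMod.natCast_eq_zero_iff_even] at h0
  exact Nat.not_even_iff_odd.2 hS h0

namespace Sub

variable {D : Duo F G} {H : Subgroup G} (s : Sub D H)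
include s

theorem L1_le : D.one.L ≤ ptStab D H := le_inf s.L1 D.one.L_le_norm

theorem invol_L {a : G} (ha : a ∈ ptStab D H) (h2 : a * a = 1) : a ∈ D.one.L :=
  (s.invol_fix ha.1 h2 ha.2).1

/-- the involutions centralising scalars -/
theorem card_cent {B : Subgroup G} (hB : ScalGrp D H B) (hne : B ≠ ⊥) :
    Nat.card {a : G // (a ∈ ptStab D H ∧ a * a = 1 ∧ ∀ b ∈ B, a * b = b * a) ∧ a ≠ 1} =
      Fintype.card F ^ 2 - 1 := by
  classical
  have hBM : B ≤ ptStab D H := fun b hb => (hB.le hb).1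
  obtain ⟨b, hb, hb1⟩ : ∃ b ∈ B, b ≠ 1 := B.bot_or_exists_ne_one.resolve_left hne
  have h1 := D.one.card_invol_cent (B : Set G)
    (fun x hx y hy => s.scal_comm hBM hB.odd hx hy (hB.le hx).2 (hB.le hy).2)
    (fun x hx => s.hyp.norm1 ▸ (hBM hx).2) (fun x hx => D.one.scal_spec (hBM hx).2 (hB.le hx).2)
    ⟨b, hb, fun v hv hc => s.scal_fpf (hBM hb) (hB.le hb).2 hv hc fun e => hb1 (odd_V (D := D) hB.odd hb e)⟩
  let A := {a : G // a ∈ D.one.L ∧ a * a = 1 ∧ ∀ x ∈ (B : Set G), a * x = x * a}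
  haveI : Fintype A := Fintype.ofFinite A
  have h1' : Nat.card A = Fintype.card F ^ 2 := h1
  have e : Nat.card {a : G // (a ∈ ptStab D H ∧ a * a = 1 ∧ ∀ b ∈ B, a * b = b * a) ∧ a ≠ 1} =
      Nat.card {a : A // a ≠ ⟨1, one_mem _, one_mul 1, fun x _ => by rw [one_mul, mul_one]⟩} :=
    Nat.card_congr
      { toFun := fun a => ⟨⟨a.1, s.invol_L a.2.1.1 a.2.1.2.1, a.2.1.2.1, a.2.1.2.2⟩,
          fun e => a.2.2 (congrArg (fun w : A => w.1) e)⟩
        invFun := fun a => ⟨a.1.1, ⟨s.L1_le a.1.2.1, a.1.2.2.1, a.1.2.2.2⟩, fun e => a.2 (Subtype.ext e)⟩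
        left_inv := fun _ => rfl
        right_inv := fun _ => rfl }
  rw [e, Nat.card_eq_fintype_card (α := {a : A // a ≠ _}), Fintype.card_subtype_compl, Fintype.card_subtype_eq,
    ← Nat.card_eq_fintype_card, h1']

/-- **the inverted elements are few** -/
theorem inv_bound {B : Subgroup G} (hB : ScalGrp D H B)
    (hgood : ∀ B', ScalGrp D H B' → B < B' → Good D H B') {v : G} (hv : v ∈ H) (hv2 : v * v = 1)
    (hvB : ∀ b ∈ B, v * b = b * v) (hQ : ¬ Collinear' D H D.one.V (cjg v D.one.V))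
    (hne : cjg v D.one.V ≠ D.one.V) :
    Nat.card {g : G // g ∈ ptStab D H ∧ cjg g (cjg v D.one.V) = cjg v D.one.V ∧
      (∀ b ∈ B, g * b = b * g) ∧ v * g * v = g⁻¹} ≤ Fintype.card F ^ 2 - 2 := by
  classical
  haveI : Fact (Nat.Prime 2) := ⟨Nat.prime_two⟩
  set q := Fintype.card F
  set Q := cjg v D.one.V
  set M := ptStab D H
  have hBM : B ≤ M := fun b hb => (hB.le hb).1
  have hvi : v⁻¹ = v := inv_eq_of_mul_eq_one_right hv2
  set D0 := M ⊓ normalizer (Q : Set G) ⊓ centralizer (B : Set G)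
  have hD0 : ∀ g, g ∈ D0 ↔ g ∈ M ∧ cjg g Q = Q ∧ ∀ b ∈ B, g * b = b * g := fun g => by
    simp only [D0, mem_inf, and_assoc, cjg_eq_iff, mem_centralizer_iff]
    exact and_congr_right fun _ => and_congr_right fun _ => forall₂_congr fun _ _ => eq_comm
  let A0 : Pt D H := ⟨_, 1, one_mem H, (cjg_one _).symm⟩
  let AQ : Pt D H := ⟨Q, v, hv, rfl⟩
  have hAne : A0 ≠ AQ := fun e => hne (congrArg Subtype.val e).symm
  have hnoinv : ∀ a ∈ M, a * a = 1 → cjg a Q = Q → a = 1 := fun a ha h2 hQa => by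
    by_contra h1
    exact hQ (s.coll_of_fix hAne ha.1 h2 h1 (cjg_eq_iff.2 ha.2) hQa)
  have hodd : Odd (Nat.card ↥D0) := by
    rw [← Nat.not_even_iff_odd]
    intro he
    obtain ⟨x, hx⟩ := exists_prime_orderOf_dvd_card' 2 he.two_dvd
    have hx2 : (x : G) * x = 1 := by
      have := congrArg Subtype.val (hx ▸ pow_orderOf_eq_one x : x ^ 2 = 1)
      simpa [pow_two] using this
    have := hnoinv x ((hD0 x).1 x.2).1 hx2 ((hD0 x).1 x.2).2.1
    rw [show x = 1 from Subtype.ext this, orderOf_one] at hx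
    exact absurd hx (by norm_num)
  have hconj : ∀ g ∈ D0, v * g * v ∈ D0 := by
    intro g hg
    obtain ⟨h1, h2, h3⟩ := (hD0 g).1 hg
    refine (hD0 _).2 ⟨⟨mul_mem (mul_mem hv h1.1) hv, cjg_eq_iff.1 ?_⟩, ?_, fun b hb => ?_⟩
    · rw [cjg_mul, cjg_mul, show cjg g Q = Q from h2]
      show cjg v (cjg v D.one.V) = D.one.V
      rw [← cjg_mul, hv2, cjg_one]
    · show cjg (v * g * v) (cjg v D.one.V) = cjg v D.one.V
      rw [← cjg_mul, mul_assoc (v * g), hv2, mul_one, cjg_mul, cjg_eq_iff.2 h1.2]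
    · rw [mul_assoc, hvB b hb, ← mul_assoc, mul_assoc v g b, h3 b hb, ← mul_assoc, hvB b hb]
      group
  have hBD : B ≤ D0 := fun b hb => (hD0 b).2 ⟨hBM hb, by
    show cjg b (cjg v D.one.V) = cjg v D.one.V
    rw [← cjg_mul, ← hvB b hb, cjg_mul, cjg_eq_iff.2 (hBM hb).2],
    fun c hc => s.scal_comm hBM hB.odd hb hc (hB.le hb).2 (hB.le hc).2⟩
  have hD0M : D0 ≤ M := fun g hg => ((hD0 g).1 hg).1
  -- no inverted scalar
  have hnoscal : ∀ μ ∈ D0, D.one.Scal μ → v * μ * v = μ⁻¹ → μ = 1 := by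
    intro μ hμ hS hinv
    by_contra hμ1
    have hμB : μ ∉ B := fun hb => hμ1 (by
      have e : μ * μ = 1 := by
        rw [hvB μ hb, mul_assoc, hv2, mul_one] at hinv
        conv_lhs => arg 2; rw [hinv]
        rw [mul_inv_cancel]
      obtain ⟨m, hm⟩ := hodd
      have h1 : μ ^ Nat.card ↥D0 = 1 := congrArg Subtype.val (pow_card_eq_one' (x := (⟨μ, hμ⟩ : ↥D0)))
      rwa [hm, pow_succ, pow_mul, pow_two, e, one_pow, one_mul] at h1)
    set B' := B ⊔ zpowers μ
    have hB'D : B' ≤ D0 := sup_le hBD (zpowers_le.2 hμ)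
    have hB' : ScalGrp D H B' :=
      ⟨sup_le hB.le (zpowers_le.2 ⟨hD0M hμ, hS⟩), hodd.of_dvd_nat (card_dvd_of_le hB'D)⟩
    have hlt : B < B' := lt_of_le_of_ne le_sup_left fun e => hμB (e ▸ mem_sup_right (mem_zpowers μ))
    have hg := hgood B' hB' hlt
    let S := {a : G // (a ∈ M ∧ a * a = 1 ∧ ∀ b ∈ B', a * b = b * a) ∧ a ≠ 1}
    have hSc : Nat.card S = q ^ 2 - 1 := s.card_cent hB' (ne_bot_of_gt hlt)
    have hSodd : Odd (Nat.card S) := by
      obtain ⟨e, he⟩ := exists_exp (F := F)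
      have := s.card
      have he1 : 1 ≤ e := by
        by_contra h0
        rw [show e = 0 by omega, pow_zero] at he
        omega
      obtain ⟨k, hk⟩ : 2 ∣ q ^ 2 := dvd_pow (show 2 ∣ q by rw [show q = 2 ^ e from he]; exact dvd_pow_self 2 (by omega)) two_ne_zero
      have hpos : 0 < q ^ 2 := by positivity
      rw [hSc]
      exact ⟨k - 1, by omega⟩
    have hstable : ∀ a : S, (v * a * v ∈ M ∧ v * a * v * (v * a * v) = 1 ∧
        ∀ b ∈ B', v * a * v * b = b * (v * a * v)) ∧ v * a * v ≠ 1 := by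
      rintro ⟨a, ⟨haM, ha2, hac⟩, ha1⟩
      have hcom : B' ≤ centralizer {v * a * v} := by
        refine sup_le (fun b hb => ?_) (zpowers_le.2 ?_)
        · rw [mem_centralizer_singleton_iff]
          calc b * (v * a * v) = v * (b * a) * v := by rw [← mul_assoc, ← mul_assoc, ← hvB b hb]; group
            _ = v * (a * b) * v := by rw [hac b (mem_sup_left hb)]
            _ = v * a * v * b := by rw [mul_assoc (v * a), hvB b hb]; group
        · rw [mem_centralizer_singleton_iff]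
          have h1 : μ * v = v * μ⁻¹ := by
            rw [← hinv, ← mul_assoc, ← mul_assoc, hv2, one_mul]
          have h2 : v * μ = μ⁻¹ * v := by
            rw [← hinv, mul_assoc (v * μ), hv2, mul_one]
          have h3 : μ⁻¹ * a = a * μ⁻¹ := (hac _ (inv_mem (mem_sup_right (mem_zpowers μ)))).symm
          calc μ * (v * a * v) = (μ * v) * a * v := by group
            _ = v * (μ⁻¹ * a) * v := by rw [h1]; group
            _ = v * a * (μ⁻¹ * v) := by rw [h3]; group
            _ = v * a * v * μ := by rw [← h2]; group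
      have hc' : ∀ b ∈ B', v * a * v * b = b * (v * a * v) := fun b hb =>
        (mem_centralizer_singleton_iff.1 (hcom hb)).symm
      exact ⟨⟨hg _ (mul_mem (mul_mem hv haM.1) hv) hc', by
        rw [show v * a * v * (v * a * v) = v * a * (v * v) * a * v by group, hv2, mul_one, mul_assoc v a a, ha2,
          mul_one, hv2], hc'⟩, fun e => ha1 (by
        rw [show a = v⁻¹ * (v * a * v) * v⁻¹ by group, e, hvi, mul_one, hv2])⟩
    obtain ⟨⟨a, ⟨haM, ha2, _⟩, ha1⟩, hfix⟩ := exists_fix_of_odd hSodd (fun a : S => ⟨_, hstable a⟩)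
      (fun a => Subtype.ext (by
        show v * (v * a * v) * v = a
        rw [← mul_assoc v, ← mul_assoc v, hv2, one_mul, mul_assoc, hv2, mul_one]))
    have e : v * a * v = a := congrArg Subtype.val hfix
    refine ha1 (hnoinv a haM ha2 ?_)
    show cjg a (cjg v D.one.V) = cjg v D.one.V
    rw [← cjg_mul, show a * v = v * a by
      conv_lhs => rw [← e]
      rw [mul_assoc, hv2, mul_one], cjg_mul, cjg_eq_iff.2 haM.2]
  -- the field parts and the linear kernel
  choose σ hσ using fun g : ↥D0 => s.exists_sem (hD0M g.2)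
  have hN : ∀ g : ↥D0, (g : G) ∈ normalizer (D.one.V : Set G) := fun g => (hD0M g.2).2
  let hom : ↥D0 →* (F ≃+* F) := MonoidHom.mk' σ fun g g' =>
    (hσ (g * g')).unique D.one (hN _) ((hσ g).mul D.one (hN g) (hN g') (hσ g'))
  have hlin : ∀ (g : hom.ker) (c : F) (w : F × F),
      D.one.coordAct (g.1 : G) (c • w) = c • D.one.coordAct (g.1 : G) w := fun g c w => by
    rw [hσ g.1 c w, show σ g.1 = 1 from g.2]; rfl
  let lin : hom.ker → (F × F) →ₗ[F] (F × F) := fun g =>
    { toFun := D.one.coordAct (g.1 : G)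
      map_add' := D.one.coordAct_add (hN g.1)
      map_smul' := hlin g }
  have hlinv : ∀ (g : hom.ker) w, lin g⁻¹ (lin g w) = w := fun g w => by
    show D.one.coordAct ((g.1 : G)⁻¹) (D.one.coordAct (g.1 : G) w) = w
    rw [← D.one.coordAct_mul (inv_mem (hN g.1)) (hN g.1), inv_mul_cancel, D.one.coordAct_one]
  let ρ : hom.ker →* ((F × F) ≃ₗ[F] (F × F)) := MonoidHom.mk'
    (fun g => LinearEquiv.ofLinearMap (lin g) (lin g⁻¹)
      (LinearMap.ext fun w => by simpa using hlinv g⁻¹ w) (LinearMap.ext (hlinv g)))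
    (fun g g' => LinearEquiv.ext fun w => D.one.coordAct_mul (hN g.1) (hN g'.1) w)
  obtain ⟨κ, hκ⟩ := odd_linear_bound (hodd.of_dvd_nat (card_subgroup_dvd_card hom.ker)) ρ
  let rep : (F ≃+* F) → ↥D0 := fun τ => if h : ∃ g, hom g = τ then h.choose else 1
  have hrep : ∀ g, hom (rep (hom g)) = hom g := fun g => by
    have h : ∃ g', hom g' = hom g := ⟨g, rfl⟩
    simp only [rep, dif_pos h]
    exact h.choose_spec
  let Inv := {g : G // g ∈ M ∧ cjg g Q = Q ∧ (∀ b ∈ B, g * b = b * g) ∧ v * g * v = g⁻¹}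
  let up : Inv → ↥D0 := fun g => ⟨g.1, (hD0 _).2 ⟨g.2.1, g.2.2.1, g.2.2.2.1⟩⟩
  let f : Inv → (F ≃+* F) × Fin (q + 1) := fun g =>
    (hom (up g), κ ⟨(rep (hom (up g)))⁻¹ * up g, by
      rw [MonoidHom.mem_ker, map_mul, map_inv, hrep, inv_mul_cancel]⟩)
  have hf : Function.Injective f := by
    rintro ⟨g, hg⟩ ⟨g', hg'⟩ e
    obtain ⟨e1, e2⟩ := Prod.ext_iff.1 e
    have e1' : hom (up ⟨g, hg⟩) = hom (up ⟨g', hg'⟩) := e1
    obtain ⟨c, hc⟩ := hκ _ _ e2
    set r : ↥D0 := rep (hom (up ⟨g, hg⟩))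
    set r' : ↥D0 := rep (hom (up ⟨g', hg'⟩))
    have hr : r = r' := congrArg rep e1'
    have hgD : g ∈ D0 := (up ⟨g, hg⟩).2
    have hg'D : g' ∈ D0 := (up ⟨g', hg'⟩).2
    set μ := g'⁻¹ * g
    have hμD : μ ∈ D0 := mul_mem (inv_mem hg'D) hgD
    have hSμ : D.one.Scal μ := ⟨c, fun w => by
      have h1 : D.one.coordAct ((r : G)⁻¹ * g) w = D.one.coordAct ((r' : G)⁻¹ * g') (c • w) := hc w
      have hrN := hN r
      have hgN := (hD0M hgD).2
      have hg'N := (hD0M hg'D).2
      rw [← hr] at h1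
      have h2 := congrArg (D.one.coordAct ((r : G)⁻¹ * g')⁻¹) h1
      rw [← D.one.coordAct_mul (inv_mem (mul_mem (inv_mem hrN) hg'N)) (mul_mem (inv_mem hrN) hgN),
        ← D.one.coordAct_mul (inv_mem (mul_mem (inv_mem hrN) hg'N)) (mul_mem (inv_mem hrN) hg'N),
        inv_mul_cancel, D.one.coordAct_one] at h2
      rwa [show ((r : G)⁻¹ * g')⁻¹ * ((r : G)⁻¹ * g) = μ by simp only [μ]; group] at h2⟩
    have hgi : v * g * v = g⁻¹ := hg.2.2.2
    have hg'i : v * g' * v = g'⁻¹ := hg'.2.2.2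
    have hvμ : v * μ * v = g' * μ⁻¹ * g'⁻¹ := by
      have h1 : v * g'⁻¹ * v = g' := by
        rw [← hg'i, ← mul_assoc v, ← mul_assoc v, hv2, one_mul, mul_assoc, hv2, mul_one]
      calc v * μ * v = v * g'⁻¹ * v * (v * g * v) := by
            simp only [μ]
            rw [show v * g'⁻¹ * v * (v * g * v) = v * g'⁻¹ * (v * v) * g * v by group, hv2]
            group
        _ = g' * g⁻¹ := by rw [h1, hgi]
        _ = g' * μ⁻¹ * g'⁻¹ := by simp only [μ]; group
    obtain ⟨τ, hτ⟩ := s.exists_sem (hD0M hg'D)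
    have hS' : D.one.Scal (v * μ * v) := by
      rw [hvμ]
      exact (hSμ.inv D.one (hD0M hμD).2).conj D.one (hD0M hg'D).2 (inv_mem (hD0M hμD).2) hτ
    have hμ'D := hconj μ hμD
    have hcm : μ * (v * μ * v) = v * μ * v * μ := s.scal_comm hD0M hodd hμD hμ'D hSμ hS'
    have hfix : v * μ * v = μ := by
      refine (mul_inv_eq_one.1 (hnoscal _ (mul_mem hμD (inv_mem hμ'D))
        (hSμ.mul D.one (hD0M hμD).2 (inv_mem (hD0M hμ'D).2) (hS'.inv D.one (hD0M hμ'D).2)) ?_)).symm
      calc v * (μ * (v * μ * v)⁻¹) * v = v * μ * v⁻¹ * μ⁻¹ * (v⁻¹ * v) := by group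
        _ = v * μ * v * μ⁻¹ := by rw [inv_mul_cancel, mul_one, hvi]
        _ = (μ * (v * μ * v)⁻¹)⁻¹ := by group
    rw [hvμ] at hfix
    have hinv : g' * μ * g'⁻¹ = μ⁻¹ := by
      have := congrArg (·⁻¹) hfix
      simp only [mul_inv_rev, inv_inv] at this
      rwa [← mul_assoc] at this
    have h2 : g' * g' * μ = μ * (g' * g') := by
      have e' : g' * (g' * μ * g'⁻¹) * g'⁻¹ = μ := by rw [hinv, hfix]
      calc g' * g' * μ = g' * (g' * μ * g'⁻¹) * g'⁻¹ * (g' * g') := by group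
        _ = μ * (g' * g') := by rw [e']
    obtain ⟨m, hm⟩ := hodd
    have h3 : g' = (g' * g') ^ (m + 1) := by
      have h1 : g' ^ Nat.card ↥D0 = 1 := congrArg Subtype.val (pow_card_eq_one' (x := (⟨g', hg'D⟩ : ↥D0)))
      rw [← pow_two, ← pow_mul, show 2 * (m + 1) = Nat.card ↥D0 + 1 by omega, pow_succ, h1, one_mul]
    have hcomm : g' * μ = μ * g' := by
      rw [h3]
      exact Commute.pow_left (show Commute (g' * g') μ from h2) _
    have hsq : μ * μ = 1 := by
      rw [hcomm, mul_inv_cancel_right] at hinv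
      conv_lhs => arg 2; rw [hinv]
      exact mul_inv_cancel μ
    have hμ1 : μ = 1 := by
      have h1 : μ ^ Nat.card ↥D0 = 1 := congrArg Subtype.val (pow_card_eq_one' (x := (⟨μ, hμD⟩ : ↥D0)))
      rwa [hm, pow_succ, pow_mul, pow_two, hsq, one_pow, one_mul] at h1
    exact Subtype.ext (inv_mul_eq_one.1 hμ1).symm
  have hle := Nat.card_le_card_of_injective f hf
  rw [Nat.card_prod, Nat.card_eq_fintype_card (α := Fin (q + 1)), Fintype.card_fin] at hle
  obtain ⟨e, he⟩ := exists_exp (F := F)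
  rw [aut_card he] at hle
  refine hle.trans ?_
  have h8 := s.card
  have he' : e + 2 ≤ q := by
    rw [show q = 2 ^ e from he]
    have h3 : 3 ≤ e := by
      by_contra hlt
      have : 2 ^ e ≤ 2 ^ 2 := Nat.pow_le_pow_right (by norm_num) (by omega)
      omega
    have key : ∀ n, 2 ≤ n → n + 2 ≤ 2 ^ n := fun n hn => by
      induction n, hn using Nat.le_induction with
      | base => norm_num
      | succ n _ ih => rw [pow_succ]; omega
    exact key e (by omega)
  obtain ⟨r, hr⟩ : ∃ r, q = r + 2 := ⟨q - 2, by omega⟩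
  calc e * (q + 1) ≤ r * (q + 1) := Nat.mul_le_mul_right _ (by omega)
    _ ≤ q ^ 2 - 2 := by rw [hr]; ring_nf; omega

end Sub

end Cfsg.Lib.LTP
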