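import Cfsg.Agent.LThreePlane.Cent

/-!
# The action of the normalisers in coordinates
-/

set_option autoImplicit false

namespace Cfsg.Lib.LTP

open Subgroup

variable {F : Type*} [Field F]

/-- multiplicativity up to constants gives a field automorphism -/
theorem exists_semi [Finite F] (A C E : F → F) (hA : ∀ a b, A (a + b) = A a + A b)
    (hAi : ∀ a, A a = 0 → a = 0) (h : ∀ x y, A (x * y) = E x * C y) :
    ∃ (σ : F ≃+* F) (α δ : F), α ≠ 0 ∧ δ ≠ 0 ∧ (∀ z, A z = α * σ z) ∧ (∀ y, C y = δ * σ y) ∧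
      ∀ x, E x = α / δ * σ x := by
  have h0 : A 0 = 0 := by simpa using hA 0 0
  have h11 : A 1 = E 1 * C 1 := by simpa using h 1 1
  have hα : A 1 ≠ 0 := fun e => one_ne_zero (hAi 1 e)
  have hC1 : C 1 ≠ 0 := fun e => hα (by rw [h11, e, mul_zero])
  have hE1 : E 1 ≠ 0 := fun e => hα (by rw [h11, e, zero_mul])
  have hC : ∀ y, A y = E 1 * C y := fun y => by simpa using h 1 y
  have hE : ∀ x, A x = E x * C 1 := fun x => by simpa using h x 1
  let σ₀ : F →+* F :=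
    { toFun := fun r => A r / A 1
      map_one' := div_self hα
      map_mul' := fun r y => by
        rw [h r y, div_mul_div_comm, hE r, hC y, h11]
        field_simp
      map_zero' := by rw [h0, zero_div]
      map_add' := fun r y => by rw [hA, add_div] }
  let σ : F ≃+* F := RingEquiv.ofBijective σ₀ (Finite.injective_iff_bijective.1 σ₀.injective)
  refine ⟨σ, A 1, C 1, hα, hC1, fun z => ?_, fun y => ?_, fun x => ?_⟩
  · show A z = A 1 * (A z / A 1)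
    field_simp
  · show C y = C 1 * (A y / A 1)
    rw [hC y, h11]; field_simp
  · show E x = A 1 / C 1 * (A x / A 1)
    rw [hE x]; field_simp

variable {G : Type*} [Group G]

namespace Duo

variable (D : Duo F G)

/-- the coordinates of an element fixing both modules -/
structure Tri (g : G) (σ : F ≃+* F) (α δ : F) : Prop where
  za : ∀ z, g * D.one.v z 0 * g⁻¹ = D.one.v (α * σ z) 0
  ya : ∀ y, ∃ p, g * D.one.v 0 y * g⁻¹ = D.one.v p (δ * σ y)
  xa : ∀ x, ∃ p, g * D.two.v 0 x * g⁻¹ = D.two.v p (α / δ * σ x)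
  α0 : α ≠ 0
  δ0 : δ ≠ 0

/-- the coordinates of an element exchanging the modules -/
structure Swa (g : G) (σ : F ≃+* F) (α δ : F) : Prop where
  za : ∀ z, g * D.one.v z 0 * g⁻¹ = D.one.v (α * σ z) 0
  ya : ∀ y, ∃ p, g * D.one.v 0 y * g⁻¹ = D.two.v p (δ * σ y)
  xa : ∀ x, ∃ p, g * D.two.v 0 x * g⁻¹ = D.one.v p (α / δ * σ x)
  α0 : α ≠ 0
  δ0 : δ ≠ 0

variable [CharP F 2]

theorem comm_rule (p x r y : F) :
    D.two.v p x * D.one.v r y = D.one.v (x * y) 0 * (D.one.v r y * D.two.v p x) := by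
  simp only [D.one_eq_j, D.two_eq_j, D.j_mul]
  congr 1 <;> ring

variable [Finite F]

theorem conj_z {g : G} (h1 : g * g⁻¹ = 1) {V W : Subgroup G} (hV : ∀ a ∈ D.one.V, g * a * g⁻¹ ∈ V)
    (hW : ∀ a ∈ D.two.V, g * a * g⁻¹ ∈ W) (hVW : ∀ a, a ∈ V → a ∈ W → ∃ z, a = D.one.v z 0) (z : F) :
    ∃ z', g * D.one.v z 0 * g⁻¹ = D.one.v z' 0 :=
  hVW _ (hV _ (D.one.v_mem z 0)) (hW _ (D.z_mem2 z))

theorem A_facts {g : G} {A : F → F} (hA : ∀ z, g * D.one.v z 0 * g⁻¹ = D.one.v (A z) 0) :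
    (∀ a b, A (a + b) = A a + A b) ∧ ∀ a, A a = 0 → a = 0 := by
  refine ⟨fun a b => ?_, fun a ha => ?_⟩
  · refine (D.one.v_inj _ 0 _ 0 ?_).1
    calc D.one.v (A (a + b)) 0 = g * D.one.v (a + b) 0 * g⁻¹ := (hA _).symm
      _ = g * (D.one.v a 0 * D.one.v b 0) * g⁻¹ := by rw [← D.one.v_add, add_zero]
      _ = (g * D.one.v a 0 * g⁻¹) * (g * D.one.v b 0 * g⁻¹) := by group
      _ = D.one.v (A a + A b) 0 := by rw [hA, hA, ← D.one.v_add, add_zero]
  · have h := hA a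
    rw [ha, D.one.v_zero, conj_eq_one_iff, D.one.v_eq_one] at h
    exact h.1

theorem exists_tri {g : G} (h1 : g ∈ normalizer (D.one.V : Set G))
    (h2 : g ∈ normalizer (D.two.V : Set G)) : ∃ σ α δ, D.Tri g σ α δ := by
  have hm1 : ∀ a ∈ D.one.V, g * a * g⁻¹ ∈ D.one.V := fun a ha => (mem_normalizer_iff.1 h1 a).1 ha
  have hm2 : ∀ a ∈ D.two.V, g * a * g⁻¹ ∈ D.two.V := fun a ha => (mem_normalizer_iff.1 h2 a).1 ha
  choose A hA using D.conj_z (mul_inv_cancel g) hm1 hm2 (fun _ => D.inter_eq)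
  choose P C hC using fun y => (D.one.mem_V _).1 (hm1 _ (D.one.v_mem 0 y))
  choose Q E hE using fun x => (D.two.mem_V _).1 (hm2 _ (D.two.v_mem 0 x))
  obtain ⟨hadd, hinj⟩ := D.A_facts hA
  have hrel : ∀ x y, A (x * y) = E x * C y := by
    intro x y
    have e := congrArg (fun w => g * w * g⁻¹) (D.comm_rule 0 x 0 y)
    have expand : ∀ u w : G, g * (u * w) * g⁻¹ = (g * u * g⁻¹) * (g * w * g⁻¹) := fun u w => by group
    simp only [expand, hA, hC, hE] at e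
    rw [D.comm_rule] at e
    exact ((D.one.v_inj _ _ _ _ (mul_right_cancel e)).1).symm
  obtain ⟨σ, α, δ, hα, hδ, eA, eC, eE⟩ := exists_semi A C E hadd hinj hrel
  exact ⟨σ, α, δ, fun z => by rw [hA, eA], fun y => ⟨P y, by rw [hC, eC]⟩, fun x => ⟨Q x, by rw [hE, eE]⟩,
    hα, hδ⟩

theorem exists_swa {g : G} (h1 : cjg g D.one.V = D.two.V) (h2 : cjg g D.two.V = D.one.V) :
    ∃ σ α δ, D.Swa g σ α δ := by
  have hm1 : ∀ a ∈ D.one.V, g * a * g⁻¹ ∈ D.two.V := fun a ha => h1 ▸ cjg_mem ha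
  have hm2 : ∀ a ∈ D.two.V, g * a * g⁻¹ ∈ D.one.V := fun a ha => h2 ▸ cjg_mem ha
  choose A hA using D.conj_z (mul_inv_cancel g) hm1 hm2 (fun _ ha hb => D.inter_eq hb ha)
  choose P C hC using fun y => (D.two.mem_V _).1 (hm1 _ (D.one.v_mem 0 y))
  choose Q E hE using fun x => (D.one.mem_V _).1 (hm2 _ (D.two.v_mem 0 x))
  obtain ⟨hadd, hinj⟩ := D.A_facts hA
  have hrel : ∀ x y, A (x * y) = E x * C y := by
    intro x y
    have e := congrArg (fun w => g * w * g⁻¹) (D.comm_rule 0 x 0 y)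
    have expand : ∀ u w : G, g * (u * w) * g⁻¹ = (g * u * g⁻¹) * (g * w * g⁻¹) := fun u w => by group
    simp only [expand, hA, hC, hE] at e
    rw [D.comm_rule (P y) (C y) (Q x) (E x), ← mul_assoc, ← D.one.v_add, add_zero] at e
    have h3 := mul_right_cancel (b := D.one.v (Q x) (E x) * D.two.v (P y) (C y))
      (show D.one.v 0 0 * (D.one.v (Q x) (E x) * D.two.v (P y) (C y)) =
        D.one.v (A (x * y) + C y * E x) 0 * (D.one.v (Q x) (E x) * D.two.v (P y) (C y)) by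
        rw [D.one.v_zero, one_mul]; exact e)
    rw [mul_comm (E x)]
    exact CharTwo.add_eq_zero.1 (D.one.v_inj _ _ _ _ h3).1.symm
  obtain ⟨σ, α, δ, hα, hδ, eA, eC, eE⟩ := exists_semi A C E hadd hinj hrel
  exact ⟨σ, α, δ, fun z => by rw [hA, eA], fun y => ⟨P y, by rw [hC, eC]⟩, fun x => ⟨Q x, by rw [hE, eE]⟩,
    hα, hδ⟩

variable {D}

omit [CharP F 2] [Finite F] in
theorem Tri.full {g : G} {σ : F ≃+* F} {α δ : F} (T : D.Tri g σ α δ) (z y : F) :
    ∃ p, g * D.one.v z y * g⁻¹ = D.one.v p (δ * σ y) := by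
  obtain ⟨p, hp⟩ := T.ya y
  refine ⟨α * σ z + p, ?_⟩
  rw [D.one.v_split, show g * (D.one.v z 0 * D.one.v 0 y) * g⁻¹ =
    g * D.one.v z 0 * g⁻¹ * (g * D.one.v 0 y * g⁻¹) by group, T.za, hp, ← D.one.v_add, zero_add]

omit [CharP F 2] [Finite F] in
theorem Tri.full2 {g : G} {σ : F ≃+* F} {α δ : F} (T : D.Tri g σ α δ) (z x : F) :
    ∃ p, g * D.two.v z x * g⁻¹ = D.two.v p (α / δ * σ x) := by
  obtain ⟨p, hp⟩ := T.xa x
  refine ⟨α * σ z + p, ?_⟩
  rw [D.two.v_split, show g * (D.two.v z 0 * D.two.v 0 x) * g⁻¹ =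
    g * D.two.v z 0 * g⁻¹ * (g * D.two.v 0 x * g⁻¹) by group, ← D.hz, T.za, hp, D.hz, ← D.two.v_add, zero_add]

omit [CharP F 2] [Finite F] in
theorem Tri.mul {g h : G} {σ τ : F ≃+* F} {α δ β ε : F} (T : D.Tri g σ α δ) (S : D.Tri h τ β ε) :
    D.Tri (g * h) (τ.trans σ) (α * σ β) (δ * σ ε) where
  za z := by
    rw [show g * h * D.one.v z 0 * (g * h)⁻¹ = g * (h * D.one.v z 0 * h⁻¹) * g⁻¹ by group, S.za, T.za,
      map_mul, mul_assoc]
    rfl
  ya y := by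
    obtain ⟨p, hp⟩ := S.ya y
    obtain ⟨r, hr⟩ := T.full p (ε * τ y)
    refine ⟨r, ?_⟩
    rw [show g * h * D.one.v 0 y * (g * h)⁻¹ = g * (h * D.one.v 0 y * h⁻¹) * g⁻¹ by group, hp, hr,
      map_mul, mul_assoc]
    rfl
  xa x := by
    obtain ⟨p, hp⟩ := S.xa x
    obtain ⟨r, hr⟩ := T.full2 p (β / ε * τ x)
    refine ⟨r, ?_⟩
    rw [show g * h * D.two.v 0 x * (g * h)⁻¹ = g * (h * D.two.v 0 x * h⁻¹) * g⁻¹ by group, hp, hr]
    congr 1
    rw [map_mul, map_div₀, div_mul_eq_div_div]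
    show _ = α * σ β / δ / σ ε * σ (τ x)
    field_simp
  α0 := mul_ne_zero T.α0 (by simpa using S.α0)
  δ0 := mul_ne_zero T.δ0 (by simpa using S.δ0)

omit [CharP F 2] [Finite F] in
theorem Tri.unique {g : G} {σ τ : F ≃+* F} {α δ β ε : F} (T : D.Tri g σ α δ) (S : D.Tri g τ β ε) :
    σ = τ ∧ α = β ∧ δ = ε := by
  have hα : α = β := by simpa using (D.one.v_inj _ _ _ _ ((T.za 1).symm.trans (S.za 1))).1
  have hσ : σ = τ := RingEquiv.ext fun z => by
    have := (D.one.v_inj _ _ _ _ ((T.za z).symm.trans (S.za z))).1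
    rw [← hα] at this
    exact mul_left_cancel₀ T.α0 this
  refine ⟨hσ, hα, ?_⟩
  obtain ⟨p, hp⟩ := T.ya 1
  obtain ⟨r, hr⟩ := S.ya 1
  simpa using (D.one.v_inj _ _ _ _ (hp.symm.trans hr)).2

theorem tri_one : D.Tri 1 (RingEquiv.refl F) 1 1 where
  za z := by simp
  ya y := ⟨0, by simp⟩
  xa x := ⟨0, by simp⟩
  α0 := one_ne_zero
  δ0 := one_ne_zero

omit [Finite F] in
theorem tri_of_J {g : G} (hg : g ∈ D.J) : D.Tri g (RingEquiv.refl F) 1 1 := by
  obtain ⟨z, y, x, rfl⟩ := hg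
  have hinv : ∀ a b, D.j z y x * a = b * D.j z y x → D.j z y x * a * (D.j z y x)⁻¹ = b := fun a b e => by
    rw [e, mul_inv_cancel_right]
  refine ⟨fun w => ?_, fun b => ⟨x * b, hinv _ _ ?_⟩, fun c => ⟨c * y, hinv _ _ ?_⟩, one_ne_zero, one_ne_zero⟩
  · simp only [one_mul, RingEquiv.refl_apply]
    exact hinv _ _ (D.z_central w (D.j_mem z y x)).symm
  · simp only [one_mul, RingEquiv.refl_apply, D.one_eq_j, D.j_mul]
    congr 1
    · ring
    · exact add_comm _ _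
    · rw [add_comm]
  · simp only [div_one, one_mul, RingEquiv.refl_apply, D.two_eq_j, D.j_mul]
    congr 1
    · linear_combination (-(c * y)) * CharTwo.two_eq_zero (R := F)
    · rw [add_comm]
    · rw [add_comm]

omit [Finite F] in
/-- a diagonal element of the first block -/
theorem tri_tor [Finite G] {a : G} (ha : a ∈ D.one.L) {t : Fˣ} (hπ : D.one.π ⟨a, ha⟩ = dg t)
    [Fintype F] : D.Tri a (RingEquiv.refl F) t ((t⁻¹ : Fˣ) : F) where
  za z := by rw [D.one.act_dg ha hπ, mul_zero]; rfl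
  ya y := ⟨0, by rw [D.one.act_dg ha hπ, mul_zero]; rfl⟩
  xa x := by
    obtain ⟨p, hp⟩ := D.tor_two ha hπ (D.norm_V2 (D.one.L_le_norm ha) (D.tor_J ha hπ)) 0 x
    refine ⟨p, hp.trans ?_⟩
    simp
  α0 := t.ne_zero
  δ0 := (t⁻¹).ne_zero

omit [Finite F] in
/-- a diagonal element of the second block -/
theorem tri_tor2 [Finite G] {a : G} (ha : a ∈ D.two.L) {t : Fˣ} (hπ : D.two.π ⟨a, ha⟩ = dg t)
    [Fintype F] : D.Tri a (RingEquiv.refl F) t ((t : F) * t) := by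
  have S : D.swap.Tri a (RingEquiv.refl F) t ((t⁻¹ : Fˣ) : F) := tri_tor (D := D.swap) ha hπ
  refine ⟨fun z => ?_, fun y => ?_, fun x => ?_, t.ne_zero, mul_ne_zero t.ne_zero t.ne_zero⟩
  · rw [D.hz, D.hz]; exact S.za z
  · obtain ⟨p, hp⟩ := S.xa y
    refine ⟨p, hp.trans ?_⟩
    show D.one.v p _ = _
    simp
  · obtain ⟨p, hp⟩ := S.ya x
    refine ⟨p, hp.trans ?_⟩
    show D.two.v p _ = _
    congr 1
    simp

omit [CharP F 2] [Finite F] in
theorem Swa.full {g : G} {σ : F ≃+* F} {α δ : F} (T : D.Swa g σ α δ) (z y : F) :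
    ∃ p, g * D.one.v z y * g⁻¹ = D.two.v p (δ * σ y) := by
  obtain ⟨p, hp⟩ := T.ya y
  refine ⟨α * σ z + p, ?_⟩
  rw [D.one.v_split, show g * (D.one.v z 0 * D.one.v 0 y) * g⁻¹ =
    g * D.one.v z 0 * g⁻¹ * (g * D.one.v 0 y * g⁻¹) by group, T.za, hp, D.hz, ← D.two.v_add, zero_add]

omit [CharP F 2] [Finite F] in
theorem Swa.full2 {g : G} {σ : F ≃+* F} {α δ : F} (T : D.Swa g σ α δ) (z x : F) :
    ∃ p, g * D.two.v z x * g⁻¹ = D.one.v p (α / δ * σ x) := by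
  obtain ⟨p, hp⟩ := T.xa x
  refine ⟨α * σ z + p, ?_⟩
  rw [D.two.v_split, show g * (D.two.v z 0 * D.two.v 0 x) * g⁻¹ =
    g * D.two.v z 0 * g⁻¹ * (g * D.two.v 0 x * g⁻¹) by group, ← D.hz, T.za, hp, ← D.one.v_add, zero_add]

end Duo

namespace Hyp

variable [CharP F 2] [Fintype F] [Finite G] {D : Duo F G} (h : Hyp D)
include h

omit [Finite G] in
theorem norm_J_le {g : G} (h1 : g ∈ normalizer (D.one.V : Set G)) (h2 : g ∈ normalizer (D.two.V : Set G)) :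
    g ∈ normalizer (D.J : Set G) := by
  rw [← cjg_eq_iff, D.J_eq_sup]
  show (D.one.V ⊔ D.two.V).map _ = _
  rw [Subgroup.map_sup]
  exact congrArg₂ (· ⊔ ·) (cjg_eq_iff.2 h1) (cjg_eq_iff.2 h2)

/-- the upper part of an element fixing both modules is semilinear -/
theorem tri_upper {g : G} {σ : F ≃+* F} {α δ : F} (T : D.Tri g σ α δ)
    (h1 : g ∈ normalizer (D.one.V : Set G)) :
    ∃ β, ∀ z y, g * D.one.v z y * g⁻¹ = D.one.v (α * σ z + β * σ y) (δ * σ y) := by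
  choose B hB using T.ya
  obtain ⟨l, hl, hπ⟩ := D.one.exists_lift (lo 1)
  have hgL : g ∈ normalizer (D.one.L : Set G) := h.norm1 ▸ h1
  have hl' := (mem_normalizer_iff.1 hgL l).1 hl
  set M := D.one.π ⟨g * l * g⁻¹, hl'⟩
  refine ⟨M.1 0 0 * α - α, fun z y => ?_⟩
  have hm := D.one.act _ hl' (α * σ y) 0
  rw [← T.za y, show g * l * g⁻¹ * (g * D.one.v y 0 * g⁻¹) * (g * l * g⁻¹)⁻¹ =
    g * (l * D.one.v y 0 * l⁻¹) * g⁻¹ by group, D.one.act_lo hl hπ, one_mul, add_zero, D.one.v_split y y,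
    show g * (D.one.v y 0 * D.one.v 0 y) * g⁻¹ = g * D.one.v y 0 * g⁻¹ * (g * D.one.v 0 y * g⁻¹) by group,
    T.za, hB, ← D.one.v_add, zero_add] at hm
  have e := (D.one.v_inj _ _ _ _ hm).1
  rw [mul_zero, add_zero] at e
  rw [D.one.v_split, show g * (D.one.v z 0 * D.one.v 0 y) * g⁻¹ =
    g * D.one.v z 0 * g⁻¹ * (g * D.one.v 0 y * g⁻¹) by group, T.za, hB, ← D.one.v_add, zero_add]
  congr 1
  linear_combination e

/-- trivial coordinates mean membership in the common subgroup -/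
theorem mem_J_of_tri {g : G} (T : D.Tri g (RingEquiv.refl F) 1 1)
    (h1 : g ∈ normalizer (D.one.V : Set G)) : g ∈ D.J := by
  obtain ⟨β, hβ⟩ := h.tri_upper T h1
  have hu := D.two.v_mem 0 β
  have hc : ∀ v ∈ D.one.V, (D.two.v 0 β)⁻¹ * g * v = v * ((D.two.v 0 β)⁻¹ * g) := by
    intro v hv
    obtain ⟨z, y, rfl⟩ := (D.one.mem_V v).1 hv
    have e := D.one.act_up (D.h21 hu) (D.up1 0 β) z y
    have e2 := hβ z y
    simp only [one_mul, RingEquiv.refl_apply] at e2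
    rw [← e] at e2
    calc (D.two.v 0 β)⁻¹ * g * D.one.v z y = (D.two.v 0 β)⁻¹ * (g * D.one.v z y * g⁻¹) * g := by group
      _ = D.one.v z y * ((D.two.v 0 β)⁻¹ * g) := by rw [e2]; group
  simpa using D.J.mul_mem (D.V2_le_J hu) (D.V1_le_J (h.cent_V1 hc))

end Hyp

end Cfsg.Lib.LTP
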