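import Cfsg.Agent.LThreePlane.Cent

/-!
# A 2-group stabilising a short series in a constrained local subgroup
-/

set_option autoImplicit false

namespace Cfsg.Lib.LTP

open Subgroup

variable {G : Type*} [Group G] [Finite G]

/-- elements stabilising a series `1 ≤ Z ≤ S ≤ R` lie in the core -/
theorem stab_series_le {X : Subgroup G} (Z S : Subgroup G) (hSR : S ≤ Cfsg.pCoreOf 2 X)
    (hC : ∀ g ∈ X, (∀ r ∈ Cfsg.pCoreOf 2 X, g * r = r * g) → g ∈ Cfsg.pCoreOf 2 X)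
    (hZS : Z ≤ S) (hZ2 : ∀ z ∈ Z, z * z = 1) (hSZ : ∀ s ∈ S, s * s ∈ Z)
    (hZn : ∀ g ∈ X, ∀ z ∈ Z, g * z * g⁻¹ ∈ Z) (hSn : ∀ g ∈ X, ∀ s ∈ S, g * s * g⁻¹ ∈ S)
    {J : Subgroup G} (hJX : J ≤ X) (hJ1 : ∀ u ∈ J, ∀ z ∈ Z, u * z = z * u)
    (hJ2 : ∀ u ∈ J, ∀ s ∈ S, s⁻¹ * (u * s * u⁻¹) ∈ Z)
    (hJ3 : ∀ u ∈ J, ∀ r ∈ Cfsg.pCoreOf 2 X, r⁻¹ * (u * r * u⁻¹) ∈ S) :
    J ≤ Cfsg.pCoreOf 2 X := by
  classical
  set R := Cfsg.pCoreOf 2 X
  let P : G → Prop := fun g => g ∈ X ∧ (∀ z ∈ Z, g * z = z * g) ∧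
    (∀ s ∈ S, s⁻¹ * (g * s * g⁻¹) ∈ Z) ∧ ∀ r ∈ R, r⁻¹ * (g * r * g⁻¹) ∈ S
  have hRn : X ≤ normalizer (R : Set G) :=
    le_normalizer.trans (Cfsg.Lib.JComp.normalizer_le_pCoreOf 2 X)
  have hone : P 1 := ⟨one_mem X, fun z _ => by simp, fun s _ => by simp, fun r _ => by simp⟩
  have hclosed : ∀ a b, P a → P b → P (a * b) := by
    rintro a b ⟨ha, a1, a2, a3⟩ ⟨hb, b1, b2, b3⟩
    refine ⟨mul_mem ha hb, fun z hz => ?_, fun s hs => ?_, fun r hr => ?_⟩
    · rw [mul_assoc, b1 z hz, ← mul_assoc, a1 z hz, mul_assoc]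
    · rw [show s⁻¹ * (a * b * s * (a * b)⁻¹) =
        s⁻¹ * (a * s * a⁻¹) * (a * (s⁻¹ * (b * s * b⁻¹)) * a⁻¹) by group]
      exact Z.mul_mem (a2 s hs) (hZn a ha _ (b2 s hs))
    · have hbr : b * r * b⁻¹ ∈ R := (mem_normalizer_iff.1 (hRn hb) r).1 hr
      rw [show r⁻¹ * (a * b * r * (a * b)⁻¹) =
        r⁻¹ * (b * r * b⁻¹) * ((b * r * b⁻¹)⁻¹ * (a * (b * r * b⁻¹) * a⁻¹)) by group]
      exact S.mul_mem (b3 r hr) (a3 _ hbr)
  have hpow : ∀ g, P g → ∀ n : ℕ, P (g ^ n) := fun g hg n => by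
    induction n with
    | zero => simpa using hone
    | succ n ih => rw [pow_succ]; exact hclosed _ _ ih hg
  let K : Subgroup G :=
    { carrier := {g | P g}
      one_mem' := hone
      mul_mem' := fun {a b} => hclosed a b
      inv_mem' := fun {g} hg => by
        have e : g⁻¹ = g ^ (orderOf g - 1) := inv_eq_of_mul_eq_one_right (by
          rw [← pow_succ', Nat.sub_add_cancel (orderOf_pos g), pow_orderOf_eq_one])
        show P g⁻¹
        rw [e]; exact hpow g hg _ }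
  have hfour : ∀ g, P g → g ^ 4 ∈ R := by
    intro g hg
    obtain ⟨hgX, h1, h2, h3⟩ := hg
    refine hC _ (pow_mem hgX 4) fun r hr => ?_
    set c := r⁻¹ * (g * r * g⁻¹) with hc
    have hcS := h3 r hr
    have e1 : g * r = r * c * g := by rw [hc]; group
    set w := c * (c * (c⁻¹ * (g * c * g⁻¹))) with hw
    have hwZ : w ∈ Z := by
      rw [hw, ← mul_assoc c c]
      exact Z.mul_mem (hSZ c hcS) (h2 c hcS)
    have hfix : g * w = w * g := h1 w hwZ
    have e2 : g * g * r = r * w * (g * g) := by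
      calc g * g * r = g * (r * c * g) := by rw [mul_assoc, e1]
        _ = (g * r) * (c * g) := by group
        _ = r * c * g * (c * g) := by rw [e1]
        _ = r * w * (g * g) := by rw [hw]; group
    have hfix2 : g * g * w = w * (g * g) := by rw [mul_assoc, hfix, ← mul_assoc, hfix, mul_assoc]
    calc g ^ 4 * r = g * g * (g * g * r) := by simp [pow_succ, mul_assoc]
      _ = g * g * (r * w * (g * g)) := by rw [e2]
      _ = g * g * r * w * (g * g) := by group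
      _ = r * w * (g * g * w) * (g * g) := by rw [e2]; group
      _ = r * (w * w) * (g * g * (g * g)) := by rw [hfix2]; group
      _ = r * g ^ 4 := by rw [hZ2 w hwZ, mul_one]; simp [pow_succ, mul_assoc]
  have hK2 : IsPGroup 2 ↥K := fun g => by
    obtain ⟨k, hk⟩ := Cfsg.Lib.JComp.isPGroup_pCoreOf X ⟨_, hfour g g.2⟩
    refine ⟨2 + k, Subtype.ext ?_⟩
    have := congrArg Subtype.val hk
    simpa [pow_add, pow_mul] using this
  have hKn : X ≤ normalizer (K : Set G) := by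
    have hconj : ∀ x ∈ X, ∀ g, P g → P (x * g * x⁻¹) := by
      rintro x hx g ⟨hg, h1, h2, h3⟩
      have hxi := inv_mem hx
      refine ⟨mul_mem (mul_mem hx hg) hxi, fun z hz => ?_, fun s hs => ?_, fun r hr => ?_⟩
      · have e := h1 _ (hZn _ hxi z hz)
        calc x * g * x⁻¹ * z = x * (g * (x⁻¹ * z * x⁻¹⁻¹)) * x⁻¹ := by group
          _ = x * ((x⁻¹ * z * x⁻¹⁻¹) * g) * x⁻¹ := by rw [e]
          _ = z * (x * g * x⁻¹) := by group
      · have e := hZn x hx _ (h2 _ (hSn _ hxi s hs))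
        convert e using 1
        group
      · have e := hSn x hx _ (h3 _ ((mem_normalizer_iff.1 (hRn hxi) r).1 hr))
        convert e using 1
        group
    refine fun x hx => mem_normalizer_iff.2 fun g => ⟨fun hg => hconj x hx g hg, fun hg => ?_⟩
    have := hconj x⁻¹ (inv_mem hx) _ hg
    rw [show x⁻¹ * (x * g * x⁻¹) * x⁻¹⁻¹ = g by group] at this
    exact this
  exact (show J ≤ K from fun u hu => ⟨hJX hu, hJ1 u hu, hJ2 u hu, hJ3 u hu⟩).trans
    (Cfsg.Lib.JComp.le_pCoreOf hK2 (fun g hg => hg.1) hKn)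

end Cfsg.Lib.LTP
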