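import Cfsg.Agent.LThreePlane.Sylow
import Cfsg.Agent.TwoFusion.DihedralByFour

/-!
# Four field elements: sectional rank at most four
-/

set_option autoImplicit false

namespace Cfsg.Lib.LTP

open Subgroup
open Cfsg.Lib.DihedralByFour (SquareBound comm_mem_of_squares sectional_of_squareBound)

variable {F : Type*} [Field F] [Fintype F] [CharP F 2] {G : Type*} [Group G] [Finite G]

omit [CharP F 2] in
theorem four_proper (hq : Fintype.card F = 4) {A : AddSubgroup F} {a : F} (ha : a ∉ A) :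
    Nat.card A ≤ 2 := by
  have h1 := A.card_mul_index
  rw [Nat.card_eq_fintype_card (α := F), hq] at h1
  have h2 : A.index ≠ 1 := fun h => ha ((AddSubgroup.index_eq_one.1 h).symm ▸ AddSubgroup.mem_top a)
  rcases Nat.lt_or_ge A.index 2 with h3 | h3
  · interval_cases h4 : A.index <;> omega
  · nlinarith

omit [CharP F 2] in
theorem four_full (hq : Fintype.card F = 4) {A : AddSubgroup F} (h : 2 < Nat.card A) (a : F) : a ∈ A := by
  by_contra ha
  have := four_proper hq ha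
  omega

theorem card_le_ker_mul {A B : Type*} [AddCommGroup A] [AddCommGroup B] [Finite A] [Finite B] (θ : A →+ B)
    {S : AddSubgroup A} {T : AddSubgroup B} (h : ∀ a ∈ S, θ a ∈ T) :
    Nat.card S ≤ Nat.card ↥(S ⊓ θ.ker) * Nat.card T := by
  set θ' : ↥S →+ B := θ.comp S.subtype
  rw [← θ'.ker.card_mul_index, AddSubgroup.index_ker]
  refine Nat.mul_le_mul ?_ ?_
  · exact Nat.card_le_card_of_injective (fun x => (⟨x.1.1, x.1.2, x.2⟩ : ↥(S ⊓ θ.ker)))
      fun a b e => Subtype.ext (Subtype.ext (congrArg (fun y : ↥(S ⊓ θ.ker) => (y : A)) e))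
  · exact Nat.card_le_card_of_injective
      (fun x => (⟨x.1, by obtain ⟨⟨a, ha⟩, e⟩ := x.2; exact e ▸ h a ha⟩ : ↥T))
      fun a b e => Subtype.ext (congrArg (fun y : ↥T => (y : B)) e)

namespace Duo

variable (D : Duo F G)

omit [Fintype F] [Finite G] in
theorem j_inv (z y x : F) : (D.j z y x)⁻¹ = D.j (z + x * y) y x := by
  refine inv_eq_of_mul_eq_one_right ?_
  rw [D.j_mul, CharTwo.add_self_eq_zero y, CharTwo.add_self_eq_zero x, ← D.j_zero]
  congr 1
  linear_combination (z + x * y) * CharTwo.two_eq_zero (R := F)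

/-- the central coordinates of a subgroup -/
def zPart (A : Subgroup G) : AddSubgroup F where
  carrier := {z | D.j z 0 0 ∈ A}
  zero_mem' := by rw [Set.mem_ofPred_eq, D.j_zero]; exact A.one_mem
  add_mem' := fun {a b} ha hb => by
    have h := A.mul_mem ha hb
    rw [D.j_mul, zero_mul, add_zero, add_zero] at h
    exact h
  neg_mem' := fun {a} ha => by rwa [CharTwo.neg_eq]

/-- the coordinates modulo the centre of a subgroup -/
def bPart (A : Subgroup G) : AddSubgroup (F × F) where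
  carrier := {u | ∃ z, D.j z u.1 u.2 ∈ A}
  zero_mem' := ⟨0, by rw [Prod.fst_zero, Prod.snd_zero, D.j_zero]; exact A.one_mem⟩
  add_mem' := by
    rintro a b ⟨z, hz⟩ ⟨w, hw⟩
    have h := A.mul_mem hz hw
    rw [D.j_mul] at h
    exact ⟨_, h⟩
  neg_mem' := by
    rintro ⟨y, x⟩ ⟨z, hz⟩
    exact ⟨z, by simpa [CharTwo.neg_eq] using hz⟩

omit [Fintype F] [Finite G] in
theorem mem_zPart {A : Subgroup G} {z : F} : z ∈ D.zPart A ↔ D.j z 0 0 ∈ A := Iff.rfl

omit [Fintype F] [Finite G] in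
theorem mem_bPart {A : Subgroup G} {u : F × F} : u ∈ D.bPart A ↔ ∃ z, D.j z u.1 u.2 ∈ A := Iff.rfl

theorem card_parts {A : Subgroup G} :
    Nat.card ↥(A ⊓ D.J) = Nat.card (D.zPart A) * Nat.card (D.bPart A) := by
  classical
  choose r hr using fun u : D.bPart A => (D.mem_bPart).1 u.2
  rw [← Nat.card_prod]
  refine (Nat.card_congr (Equiv.ofBijective
    (fun p : D.zPart A × D.bPart A => (⟨D.j p.1.1 0 0 * D.j (r p.2) p.2.1.1 p.2.1.2,
      ⟨A.mul_mem p.1.2 (hr p.2), D.J.mul_mem (D.j_mem _ _ _) (D.j_mem _ _ _)⟩⟩ : ↥(A ⊓ D.J))) ⟨?_, ?_⟩)).symm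
  · rintro ⟨a, u⟩ ⟨b, v⟩ h
    have h' : D.j a.1 0 0 * D.j (r u) u.1.1 u.1.2 = D.j b.1 0 0 * D.j (r v) v.1.1 v.1.2 :=
      congrArg Subtype.val h
    rw [D.j_mul, D.j_mul] at h'
    obtain ⟨h1, h2, h3⟩ := D.j_inj h'
    simp only [zero_mul, add_zero, zero_add] at h1 h2 h3
    have huv : u = v := Subtype.ext (Prod.ext h2 h3)
    subst huv
    exact Prod.ext (Subtype.ext (add_right_cancel h1)) rfl
  · rintro ⟨g, hgA, hgJ⟩
    obtain ⟨z, y, x, rfl⟩ := hgJ
    let u : D.bPart A := ⟨(y, x), z, hgA⟩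
    have hz : z + r u ∈ D.zPart A := by
      have h := A.mul_mem hgA (A.inv_mem (hr u))
      rw [D.j_inv, D.j_mul, CharTwo.add_self_eq_zero, CharTwo.add_self_eq_zero] at h
      rw [D.mem_zPart]
      convert h using 2
      show z + r u = z + (r u + x * y) + x * y
      linear_combination (-(x * y)) * CharTwo.two_eq_zero (R := F)
    refine ⟨(⟨_, hz⟩, u), Subtype.ext ?_⟩
    show D.j (z + r u) 0 0 * D.j (r u) y x = D.j z y x
    rw [D.j_mul, zero_mul, add_zero, zero_add, zero_add, add_assoc, CharTwo.add_self_eq_zero, add_zero]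

variable {D}

omit [Fintype F] [Finite G] in
theorem bar_tri {g : G} {σ : F ≃+* F} {α δ : F} (T : D.Tri g σ α δ) (z y x : F) :
    ∃ p, g * D.j z y x * g⁻¹ = D.j p (δ * σ y) (α / δ * σ x) := by
  obtain ⟨p, hp⟩ := T.full z y
  obtain ⟨r, hr⟩ := T.full2 0 x
  refine ⟨p + r, ?_⟩
  rw [show g * D.j z y x * g⁻¹ = (g * D.one.v z y * g⁻¹) * (g * D.two.v 0 x * g⁻¹) by rw [Duo.j]; group,
    hp, hr, D.one_eq_j, D.two_eq_j, D.j_mul]
  simp

omit [Fintype F] [Finite G] in
theorem bar_swa {g : G} {σ : F ≃+* F} {α δ : F} (T : D.Swa g σ α δ) (z y x : F) :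
    ∃ p, g * D.j z y x * g⁻¹ = D.j p (α / δ * σ x) (δ * σ y) := by
  obtain ⟨p, hp⟩ := T.full z y
  obtain ⟨r, hr⟩ := T.full2 0 x
  refine ⟨p + r + δ * σ y * (α / δ * σ x), ?_⟩
  rw [show g * D.j z y x * g⁻¹ = (g * D.one.v z y * g⁻¹) * (g * D.two.v 0 x * g⁻¹) by rw [Duo.j]; group,
    hp, hr, D.one_eq_j, D.two_eq_j, D.j_mul]
  simp

/-- a semilinear map of the plane coordinates, plus the identity -/
def barMap (σ : F ≃+* F) (a b : F) : (F × F) →+ F × F where
  toFun u := (a * σ u.1 + u.1, b * σ u.2 + u.2)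
  map_zero' := by simp
  map_add' u v := by ext <;> simp <;> ring

/-- a semilinear map exchanging the plane coordinates, plus the identity -/
def swapMap (σ : F ≃+* F) (a b : F) : (F × F) →+ F × F where
  toFun u := (a * σ u.2 + u.1, b * σ u.1 + u.2)
  map_zero' := by simp
  map_add' u v := by ext <;> simp <;> ring

end Duo

section Bound

variable (D : Duo F G) {K M : Subgroup G} (hsq : ∀ k ∈ K, k * k ∈ M)
include hsq

omit [Fintype F] [Finite G] in
theorem mul_mem_zPart {u : F × F} (hu : u ∈ D.bPart K) : u.2 * u.1 ∈ D.zPart M := by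
  obtain ⟨z, hz⟩ := hu
  have h := hsq _ hz
  rwa [D.j_sq] at h

omit [Fintype F] [Finite G] in
theorem bil_mem_zPart {u v : F × F} (hu : u ∈ D.bPart K) (hv : v ∈ D.bPart K) :
    u.2 * v.1 + v.2 * u.1 ∈ D.zPart M := by
  have h := (D.zPart M).sub_mem (mul_mem_zPart D hsq ((D.bPart K).add_mem hu hv))
    ((D.zPart M).add_mem (mul_mem_zPart D hsq hu) (mul_mem_zPart D hsq hv))
  convert h using 1
  simp only [Prod.fst_add, Prod.snd_add]
  ring

omit [Finite G] in
/-- many coordinates give all the central squares -/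
theorem zPart_full (hq : Fintype.card F = 4) (h8 : 4 < Nat.card (D.bPart K)) (c : F) : c ∈ D.zPart M := by
  let Y : AddSubgroup F := (D.bPart K).comap (AddMonoidHom.inl F F)
  let X : AddSubgroup F := (D.bPart K).map (AddMonoidHom.snd F F)
  have hle : Nat.card (D.bPart K) ≤ Nat.card Y * Nat.card X := by
    refine (card_le_ker_mul (AddMonoidHom.snd F F) (S := D.bPart K) (T := X)
      fun a ha => AddSubgroup.mem_map_of_mem _ ha).trans (Nat.mul_le_mul_right _ ?_)
    refine Nat.card_le_card_of_injective (fun u => (⟨u.1.1, ?_⟩ : Y)) fun u v e => ?_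
    · show ((u.1.1, 0) : F × F) ∈ D.bPart K
      rw [show ((u.1.1, 0) : F × F) = u.1 from Prod.ext rfl u.2.2.symm]
      exact u.2.1
    · exact Subtype.ext (Prod.ext (congrArg (fun t : Y => (t : F)) e) (u.2.2.trans v.2.2.symm))
  have hF : ∀ A : AddSubgroup F, Nat.card A ≤ 4 := fun A => by
    rw [← hq, ← Nat.card_eq_fintype_card]
    exact Finite.card_subtype_le _
  have key : ∀ a x : F, a ∈ Y → x ∈ X → x * a ∈ D.zPart M := by
    rintro a x ha ⟨v, hv, rfl⟩
    simpa using bil_mem_zPart D hsq (u := (a, 0)) ha hv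
  by_cases hX : 2 < Nat.card X
  · obtain ⟨a, ha, ha0⟩ : ∃ a ∈ Y, a ≠ 0 := by
      by_contra hc
      push Not at hc
      rw [show Y = ⊥ from (AddSubgroup.eq_bot_iff_forall _).2 hc, AddSubgroup.card_bot] at hle
      have := hF X
      omega
    have := key a (c / a) ha (four_full hq hX _)
    rwa [div_mul_cancel₀ _ ha0] at this
  · obtain ⟨x, hx, hx0⟩ : ∃ x ∈ X, x ≠ 0 := by
      by_contra hc
      push Not at hc
      rw [show X = ⊥ from (AddSubgroup.eq_bot_iff_forall _).2 hc, AddSubgroup.card_bot] at hle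
      have := hF Y
      omega
    have hY : 2 < Nat.card Y := by nlinarith [hle]
    have := key (c / x) x (four_full hq hY _) hx
    rwa [mul_div_cancel₀ _ hx0] at this

theorem tri_mem {g : G} (hg : g ∈ K) {σ : F ≃+* F} {α δ : F} (T : D.Tri g σ α δ) :
    (∀ u ∈ D.bPart K, Duo.barMap σ δ (α / δ) u ∈ D.bPart M) ∧
      ∀ z ∈ D.zPart K, α * σ z + z ∈ D.zPart M := by
  constructor
  · rintro ⟨y, x⟩ ⟨z, hz⟩
    obtain ⟨p, hp⟩ := Duo.bar_tri T z y x
    have h := comm_mem_of_squares hsq hg hz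
    rw [hp, D.j_inv, D.j_mul] at h
    exact ⟨_, h⟩
  · intro z hz
    have e : g * D.j z 0 0 * g⁻¹ = D.j (α * σ z) 0 0 := by rw [← D.one_eq_j, T.za, D.one_eq_j]
    have h := comm_mem_of_squares hsq hg hz
    rw [e, D.j_inv, D.j_mul] at h
    simpa [D.mem_zPart] using h

theorem swa_mem {g : G} (hg : g ∈ K) {σ : F ≃+* F} {α δ : F} (T : D.Swa g σ α δ) :
    ∀ u ∈ D.bPart K, Duo.swapMap σ (α / δ) δ u ∈ D.bPart M := by
  rintro ⟨y, x⟩ ⟨z, hz⟩
  obtain ⟨p, hp⟩ := Duo.bar_swa T z y x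
  have h := comm_mem_of_squares hsq hg hz
  rw [hp, D.j_inv, D.j_mul] at h
  exact ⟨_, h⟩

end Bound

/-- the fixed points of a semilinear map which is not linear -/
def fixSub (σ : F ≃+* F) (c : F) : AddSubgroup F where
  carrier := fixSet σ c
  zero_mem' := by show c * σ 0 = 0; rw [map_zero, mul_zero]
  add_mem' := fun {a b} (ha : c * σ a = a) (hb : c * σ b = b) => by
    show c * σ (a + b) = a + b
    rw [map_add, mul_add, ha, hb]
  neg_mem' := fun {a} (ha : c * σ a = a) => by show c * σ (-a) = -a; rw [map_neg, mul_neg, ha]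

omit [CharP F 2] in
theorem exists_not_fix {σ : F ≃+* F} (hσ : σ ≠ 1) (c : F) : ∃ a, c * σ a ≠ a := by
  by_contra h
  push Not at h
  have h1 := h 1
  rw [map_one, mul_one] at h1
  exact hσ (RingEquiv.ext fun x => by simpa [h1] using h x)

omit [CharP F 2] in
theorem card_fixSub (hq : Fintype.card F = 4) {σ : F ≃+* F} (hσ : σ ≠ 1) (c : F) :
    Nat.card (fixSub σ c) ≤ 2 :=
  let ⟨_, ha⟩ := exists_not_fix hσ c
  four_proper hq ha

theorem ker_bar (hq : Fintype.card F = 4) {σ : F ≃+* F} (hσ : σ ≠ 1) (a b : F) (S : AddSubgroup (F × F)) :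
    Nat.card ↥(S ⊓ (Duo.barMap σ a b).ker) ≤ 4 := by
  refine le_trans (Nat.card_le_card_of_injective (β := fixSub σ a × fixSub σ b) (fun u =>
      (⟨u.1.1, CharTwo.add_eq_zero.1 (congrArg Prod.fst u.2.2)⟩,
       ⟨u.1.2, CharTwo.add_eq_zero.1 (congrArg Prod.snd u.2.2)⟩)) fun u v e => ?_) ?_
  · have e1 := congrArg (fun p : fixSub σ a × fixSub σ b => (p.1 : F)) e
    have e2 := congrArg (fun p : fixSub σ a × fixSub σ b => (p.2 : F)) e
    exact Subtype.ext (Prod.ext e1 e2)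
  · rw [Nat.card_prod]
    exact Nat.mul_le_mul (card_fixSub hq hσ a) (card_fixSub hq hσ b)

theorem ker_swap (hq : Fintype.card F = 4) (σ : F ≃+* F) (a b : F) (S : AddSubgroup (F × F)) :
    Nat.card ↥(S ⊓ (Duo.swapMap σ a b).ker) ≤ 4 := by
  rw [← hq, ← Nat.card_eq_fintype_card]
  refine Nat.card_le_card_of_injective (fun u => u.1.1) fun u v e => Subtype.ext (Prod.ext e ?_)
  have h1 : b * σ u.1.1 = u.1.2 := CharTwo.add_eq_zero.1 (congrArg Prod.snd u.2.2)
  have h2 : b * σ v.1.1 = v.1.2 := CharTwo.add_eq_zero.1 (congrArg Prod.snd v.2.2)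
  have e' : u.1.1 = v.1.1 := e
  rw [← h1, ← h2, e']


namespace Hyp

variable {D : Duo F G} (h : Hyp D)
include h

/-- **four field elements: sectional rank at most four** -/
theorem sectional_four (hq : Fintype.card F = 4) : Cfsg.SectionalPRankLE 2 4 G := by
  haveI : Fact (Nat.Prime 2) := ⟨Nat.prime_two⟩
  obtain ⟨S, hJS⟩ := D.J_two.exists_le_sylow
  refine sectional_of_squareBound S fun K M hKS hMK hsq => ?_
  have hKn : K ≤ normalizer (D.J : Set G) := hKS.trans (h.le_norm_J S.2 hJS)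
  have hpow : ∀ g ∈ K, ∃ k : ℕ, g ^ 2 ^ k = 1 := fun g hg => by
    obtain ⟨k, hk⟩ := S.2 ⟨g, hKS hg⟩
    exact ⟨k, congrArg Subtype.val hk⟩
  have haut : ∀ σ τ : F ≃+* F, σ ≠ 1 → τ ≠ 1 → τ.trans σ = RingEquiv.refl F := by
    intro σ τ hσ hτ
    have h2 : ∀ ρ : F ≃+* F, ρ * ρ = 1 := fun ρ => by
      have h3 := pow_card_eq_one' (G := F ≃+* F) (x := ρ)
      rwa [aut_card (e := 2) (by rw [hq]; norm_num), pow_two] at h3
    rw [invol_unique (h2 τ) (h2 σ) hτ hσ]
    exact RingEquiv.ext fun x => congrArg (fun f : F ≃+* F => f x) (h2 σ)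
  have hfield : ∀ g ∈ K, g ∈ D.stab → g ∉ D.J → ∃ σ α δ, D.Tri g σ α δ ∧ σ ≠ 1 := by
    intro g hg hs hgJ
    obtain ⟨σ, α, δ, T⟩ := D.exists_tri hs.1 hs.2
    refine ⟨σ, α, δ, T, fun e => hgJ ?_⟩
    subst e
    obtain ⟨k, hk⟩ := hpow g hg
    exact h.two_mem_J T hs.1 hk
  have hswap : ∀ g ∈ K, g ∉ D.stab → ∃ σ α δ, D.Swa g σ α δ := by
    intro g hg hs
    obtain ⟨h1, h2⟩ := (D.norm_J_cases (hKn hg)).resolve_left hs
    exact D.exists_swa h1 h2
  have i1 := card_le_two_mul (inf_le_left : K ⊓ D.stab ≤ K) fun a ha b hb haB hbB =>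
    ⟨K.mul_mem ha hb, D.swa_mul_mem ((D.norm_J_cases (hKn ha)).resolve_left fun e => haB ⟨ha, e⟩)
      ((D.norm_J_cases (hKn hb)).resolve_left fun e => hbB ⟨hb, e⟩)⟩
  have i2 : Nat.card ↥(K ⊓ D.stab) ≤ 2 * Nat.card ↥(K ⊓ D.J) := by
    refine card_le_two_mul (fun g hg => ⟨hg.1, D.J_le_stab hg.2⟩) fun a ha b hb haB hbB => ?_
    obtain ⟨σ, α, δ, Ta, hσ⟩ := hfield a ha.1 ha.2 fun e => haB ⟨ha.1, e⟩
    obtain ⟨τ, β, ε, Tb, hτ⟩ := hfield b hb.1 hb.2 fun e => hbB ⟨hb.1, e⟩
    have T := Ta.mul Tb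
    rw [haut σ τ hσ hτ] at T
    obtain ⟨k, hk⟩ := hpow _ (K.mul_mem ha.1 hb.1)
    exact ⟨K.mul_mem ha.1 hb.1, h.two_mem_J T (D.stab.mul_mem ha.2 hb.2).1 hk⟩
  have hL : Nat.card ↥(K ⊓ D.J) = Nat.card (D.zPart K) * Nat.card (D.bPart K) := D.card_parts
  have hM : Nat.card (D.zPart M) * Nat.card (D.bPart M) ≤ Nat.card ↥M := by
    rw [← D.card_parts]
    exact Nat.card_le_card_of_injective (fun x => (⟨x.1, x.2.1⟩ : ↥M))
      fun a b e => Subtype.ext (congrArg (fun y : ↥M => (y : G)) e)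
  have hF4 : Nat.card F = 4 := by rw [Nat.card_eq_fintype_card, hq]
  have hz4 : Nat.card (D.zPart K) ≤ 4 := hF4 ▸ Finite.card_subtype_le _
  have hb16 : Nat.card (D.bPart K) ≤ 16 := by
    refine (Finite.card_subtype_le _).trans ?_
    rw [Nat.card_prod, hF4]
  have hzM1 : 1 ≤ Nat.card (D.zPart M) := Nat.card_pos
  have hbM1 : 1 ≤ Nat.card (D.bPart M) := Nat.card_pos
  have hbig : 4 < Nat.card (D.bPart K) → Nat.card (D.zPart M) = 4 := fun h8 => by
    rw [show D.zPart M = ⊤ from (AddSubgroup.eq_top_iff' _).2 (zPart_full D hsq hq h8),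
      AddSubgroup.card_top, hF4]
  have field_z : ∀ g ∈ K, ∀ {σ : F ≃+* F} {α δ : F}, D.Tri g σ α δ → σ ≠ 1 →
      Nat.card (D.zPart K) ≤ 2 * Nat.card (D.zPart M) := by
    intro g hg σ α δ T hσ
    by_contra hlt
    push Not at hlt
    obtain ⟨a, ha⟩ := exists_not_fix hσ α
    have h1 := (tri_mem D hsq hg T).2 a (four_full hq (by omega) a)
    have : (D.zPart M) = ⊥ := AddSubgroup.card_eq_one.1 (by omega)
    rw [this, AddSubgroup.mem_bot, CharTwo.add_eq_zero] at h1
    exact ha h1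
  have field_b : ∀ g ∈ K, ∀ {σ : F ≃+* F} {α δ : F}, D.Tri g σ α δ → σ ≠ 1 →
      Nat.card (D.bPart K) ≤ 4 * Nat.card (D.bPart M) := fun g hg σ α δ T hσ =>
    (card_le_ker_mul _ (tri_mem D hsq hg T).1).trans (Nat.mul_le_mul_right _ (ker_bar hq hσ _ _ _))
  have swap_b : ∀ g ∈ K, ∀ {σ : F ≃+* F} {α δ : F}, D.Swa g σ α δ →
      Nat.card (D.bPart K) ≤ 4 * Nat.card (D.bPart M) := fun g hg σ α δ T =>
    (card_le_ker_mul _ (swa_mem D hsq hg T)).trans (Nat.mul_le_mul_right _ (ker_swap hq _ _ _ _))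
  by_cases hs : K ≤ D.stab
  · rw [inf_eq_left.2 hs] at i2
    by_cases hJ : K ≤ D.J
    · rw [inf_eq_left.2 hJ] at hL
      rcases le_or_gt (Nat.card (D.bPart K)) 4 with hb | hb
      · nlinarith
      · have := hbig hb
        nlinarith
    · obtain ⟨g, hg, hgJ⟩ := SetLike.not_le_iff_exists.1 hJ
      obtain ⟨σ, α, δ, T, hσ⟩ := hfield g hg (hs hg) hgJ
      have h1 := field_z g hg T hσ
      rcases le_or_gt (Nat.card (D.bPart K)) 4 with hb | hb
      · have : Nat.card (D.zPart K) * Nat.card (D.bPart K) ≤ 2 * Nat.card (D.zPart M) * 4 :=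
          Nat.mul_le_mul h1 hb
        nlinarith
      · have := hbig hb
        have := field_b g hg T hσ
        nlinarith
  · obtain ⟨g, hg, hgs⟩ := SetLike.not_le_iff_exists.1 hs
    obtain ⟨σ', α', δ', W⟩ := hswap g hg hgs
    have hbs := swap_b g hg W
    by_cases hJ : K ⊓ D.stab ≤ D.J
    · rw [show K ⊓ D.stab = K ⊓ D.J from le_antisymm (le_inf inf_le_left hJ)
        fun x hx => ⟨hx.1, D.J_le_stab hx.2⟩, hL] at i1
      rcases le_or_gt (Nat.card (D.bPart K)) 4 with hb | hb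
      · by_contra hlt
        push Not at hlt
        have hzM : D.zPart M = ⊥ := AddSubgroup.card_eq_one.1 (by nlinarith)
        have hbK : 2 < Nat.card (D.bPart K) := by nlinarith
        have hz : ∀ u ∈ D.bPart K, u.2 * u.1 = 0 := fun u hu =>
          AddSubgroup.mem_bot.1 (hzM ▸ mul_mem_zPart D hsq hu)
        have hk : (D.bPart K) ⊓ (Duo.swapMap σ' (α' / δ') δ').ker = ⊥ := by
          rw [AddSubgroup.eq_bot_iff_forall]
          rintro ⟨y, x⟩ ⟨hu, hu'⟩
          have hx : δ' * σ' y = x := CharTwo.add_eq_zero.1 (congrArg Prod.snd hu')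
          have h0 := hz _ hu
          simp only at h0
          rcases mul_eq_zero.1 h0 with hh | hh
          · subst hh
            rw [← Prod.mk_zero_zero]
            simpa [W.δ0] using hx
          · subst hh
            simp at hx
            simp [← hx]
        have h1 := card_le_ker_mul _ (swa_mem D hsq hg W)
        rw [hk, AddSubgroup.card_bot, one_mul] at h1
        nlinarith
      · have := hbig hb
        nlinarith
    · obtain ⟨f, hf, hfJ⟩ := SetLike.not_le_iff_exists.1 hJ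
      obtain ⟨σ, α, δ, T, hσ⟩ := hfield f hf.1 hf.2 hfJ
      have h1 := field_z f hf.1 T hσ
      have hKL : Nat.card ↥K ≤ 4 * (Nat.card (D.zPart K) * Nat.card (D.bPart K)) := by
        rw [← hL]; omega
      rcases le_or_gt (Nat.card (D.bPart K)) 4 with hb | hb
      · have h2 : Nat.card (D.bPart K) ≤ 2 * Nat.card (D.bPart M) := by
          by_contra hlt
          push Not at hlt
          have hbM : D.bPart M = ⊥ := AddSubgroup.card_eq_one.1 (by omega)
          have hT := (tri_mem D hsq hf.1 T).1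
          have hW := swa_mem D hsq hg W
          rw [hbM] at hT hW
          have : Nat.card (D.bPart K) ≤ Nat.card (fixSub σ δ) := by
            refine Nat.card_le_card_of_injective (fun u : ↥(D.bPart K) => (⟨u.1.1,
              CharTwo.add_eq_zero.1 (congrArg Prod.fst (AddSubgroup.mem_bot.1 (hT _ u.2)))⟩ : fixSub σ δ))
              fun u v e => Subtype.ext (Prod.ext (congrArg (fun t : fixSub σ δ => (t : F)) e) ?_)
            have e' : u.1.1 = v.1.1 := congrArg (fun t : fixSub σ δ => (t : F)) e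
            have hu : δ' * σ' u.1.1 = u.1.2 :=
              CharTwo.add_eq_zero.1 (congrArg Prod.snd (AddSubgroup.mem_bot.1 (hW _ u.2)))
            have hv : δ' * σ' v.1.1 = v.1.2 :=
              CharTwo.add_eq_zero.1 (congrArg Prod.snd (AddSubgroup.mem_bot.1 (hW _ v.2)))
            rw [← hu, ← hv, e']
          have := card_fixSub hq hσ δ
          omega
        have : Nat.card (D.zPart K) * Nat.card (D.bPart K) ≤
            2 * Nat.card (D.zPart M) * (2 * Nat.card (D.bPart M)) := Nat.mul_le_mul h1 h2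
        nlinarith
      · have := hbig hb
        nlinarith

end Hyp

end Cfsg.Lib.LTP
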