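import Cfsg.Agent.LThreePlane.Outer
import Cfsg.Agent.Transfer.ThompsonTransfer

/-!
# Splitting off the elements exchanging the two modules
-/

set_option autoImplicit false

namespace Cfsg.Lib.LTP

open Subgroup

variable {F : Type*} [Field F] [Fintype F] [CharP F 2] {G : Type*} [Group G] [Finite G]

/-- an additive involution of the field has many fixed points -/
theorem fix_card (θ : F →+ F) (h : ∀ x, θ (θ x) = x) :
    Fintype.card F ≤ Nat.card {x | θ x = x} * Nat.card {x | θ x = x} := by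
  let η : F →+ F :=
    { toFun := fun x => x + θ x
      map_zero' := by simp
      map_add' := fun a b => by rw [map_add]; abel }
  have hker : ∀ x, η x = 0 → θ x = x := fun x hx => (CharTwo.add_eq_zero.1 hx).symm
  have hran : ∀ x, θ (η x) = η x := fun x => by
    show θ (x + θ x) = x + θ x
    rw [map_add, h, add_comm]
  rw [← Nat.card_eq_fintype_card, ← η.ker.card_mul_index, AddSubgroup.index_ker]
  refine Nat.mul_le_mul ?_ ?_
  · exact Nat.card_le_card_of_injective (fun x => (⟨x.1, hker _ x.2⟩ : {x | θ x = x}))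
      fun a b e => Subtype.ext (congrArg (Subtype.val (p := fun y => y ∈ {x | θ x = x})) e)
  · exact Nat.card_le_card_of_injective
      (fun x => (⟨x.1, by obtain ⟨w, hw⟩ := x.2; exact hw ▸ hran w⟩ : {x | θ x = x}))
      fun a b e => Subtype.ext (congrArg (Subtype.val (p := fun y => y ∈ {x | θ x = x})) e)

namespace Duo

variable (D : Duo F G)

/-- every involution of the common subgroup is conjugate to a central one -/
theorem conj_center {a : G} (ha : a ∈ D.J) (h2 : a * a = 1) (h1 : a ≠ 1) :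
    ∃ c ∈ D.one.L ⊔ D.two.L, ∃ z, z ≠ 0 ∧ a = c * D.one.v z 0 * c⁻¹ := by
  have key : ∀ B : Blk F G, a ∈ B.V → ∃ c ∈ B.L, ∃ z, z ≠ 0 ∧ a = c * B.v z 0 * c⁻¹ := fun B hB => by
    obtain ⟨z, y, rfl⟩ := (B.mem_V a).1 hB
    by_cases hz : z = 0
    · subst hz
      have hy : y ≠ 0 := fun e => h1 (by rw [e, B.v_zero])
      obtain ⟨l, hl, hπ⟩ := B.exists_lift (lo 1)
      obtain ⟨l', hl', hπ'⟩ := B.exists_lift (up 1)
      refine ⟨l' * l, mul_mem hl' hl, y, hy, ?_⟩
      rw [show l' * l * B.v y 0 * (l' * l)⁻¹ = l' * (l * B.v y 0 * l⁻¹) * l'⁻¹ by group,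
        B.act_lo hl hπ, B.act_up hl' hπ', one_mul, add_zero, one_mul, CharTwo.add_self_eq_zero]
    · obtain ⟨l, hl, hπ⟩ := B.exists_lift (lo (y / z))
      exact ⟨l, hl, z, hz, by rw [B.act_lo hl hπ, div_mul_cancel₀ _ hz, add_zero]⟩
  rcases D.sq_cases ha h2 with hV | hV
  · obtain ⟨c, hc, z, hz, e⟩ := key D.one hV
    exact ⟨c, mem_sup_left hc, z, hz, e⟩
  · obtain ⟨c, hc, z, hz, e⟩ := key D.two hV
    exact ⟨c, mem_sup_right hc, z, hz, by rw [D.hz]; exact e⟩

end Duo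

namespace Hyp

variable {D : Duo F G} (h : Hyp D) (hq : 8 ≤ Fintype.card F)
include h hq

/-- an involution exchanging the modules -/
theorem exists_invol {p : G} (hp : p ∈ normalizer (D.J : Set G)) (hps : p ∉ D.stab) {k : ℕ}
    (hk : p ^ 2 ^ k = 1) : ∃ u ∈ normalizer (D.J : Set G), u ∉ D.stab ∧ u * u = 1 := by
  have hsw := (D.norm_J_cases hp).resolve_left hps
  have hpp : p * p ∈ D.J := h.stab_two hq k (D.swa_mul_mem hsw hsw)
    (by rw [← pow_two, ← pow_mul, mul_comm, pow_mul, hk, one_pow])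
  obtain ⟨σ, α, δ, T⟩ := D.exists_swa hsw.1 hsw.2
  have hα : ∀ w, α * σ (α * σ w) = w := fun w => by
    have e := T.za (α * σ w)
    rw [← T.za w, show p * (p * D.one.v w 0 * p⁻¹) * p⁻¹ = p * p * D.one.v w 0 * (p * p)⁻¹ by group,
      ← D.z_central w hpp, mul_inv_cancel_right] at e
    exact (D.one.v_inj _ _ _ _ e).1.symm
  have hs : σ * σ = 1 := RingEquiv.ext fun w => by
    have e := hα w
    have e1 : α * σ α = 1 := by simpa using hα 1
    rw [map_mul, ← mul_assoc, e1, one_mul] at e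
    exact e
  obtain ⟨t, ht0, ht1, htf⟩ : ∃ t : F, t ≠ 0 ∧ t ≠ 1 ∧ σ t = t := by
    by_contra hno
    push Not at hno
    have hsub : ({x | σ x = x} : Set F) ⊆ {0, 1} := fun w hw => by
      by_contra hw'
      simp only [Set.mem_insert_iff, Set.mem_singleton_iff, not_or] at hw'
      exact hno w hw'.1 hw'.2 hw
    have hle : Nat.card ({x | σ x = x} : Set F) ≤ 2 := by
      rw [Nat.card_coe_set_eq]
      exact (Set.ncard_le_ncard hsub).trans ((Set.ncard_insert_le _ _).trans (by rw [Set.ncard_singleton]))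
    have h1 : Fintype.card F ≤ _ := fix_card σ.toAddMonoidHom fun x => congrArg (fun f : F ≃+* F => f x) hs
    have := h1.trans (Nat.mul_le_mul hle hle)
    omega
  obtain ⟨a, ha, hπa, -⟩ := D.one.exists_tor (Units.mk0 t ht0)
  obtain ⟨b, hb, hπb, -⟩ := D.two.exists_tor (Units.mk0 t ht0)
  have has : a ∈ D.stab := ⟨D.one.L_le_norm ha, D.norm_V2 (D.one.L_le_norm ha) (D.tor_J ha hπa)⟩
  have hbs : b ∈ D.stab := ⟨D.swap.norm_V2 (D.two.L_le_norm hb) (D.swap.tor_J hb hπb), D.two.L_le_norm hb⟩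
  have hgs : a * b ∈ D.stab := mul_mem has hbs
  have Tg : D.Tri (a * b) (RingEquiv.refl F) (t * t) t := by
    have T0 := (Duo.tri_tor (D := D) ha hπa).mul (Duo.tri_tor2 (D := D) hb hπb)
    simp only [RingEquiv.refl_apply, Units.val_inv_eq_inv_val, Units.val_mk0] at T0
    rwa [show t⁻¹ * (t * t) = t by field_simp] at T0
  generalize a * b = g at hgs Tg
  have hfix : ∀ u ∈ D.J, g * u = u * g → u = 1 := fun u hu hcu => Tg.cent_J
    (fun e => ht1 (mul_self_eq_one_iff.1 e |>.elim id fun e' => by rw [e', CharTwo.neg_eq])) ht1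
    (fun e => ht1 ((mul_eq_left₀ ht0).1 e)) hu hcu
  have hc : g⁻¹ * (p * g * p⁻¹) ∈ D.J := by
    have hpi : cjg p⁻¹ D.one.V = D.two.V ∧ cjg p⁻¹ D.two.V = D.one.V := by
      constructor
      · conv_lhs => rw [← hsw.2]
        rw [← cjg_mul, inv_mul_cancel, cjg_one]
      · conv_lhs => rw [← hsw.1]
        rw [← cjg_mul, inv_mul_cancel, cjg_one]
    have hcs : g⁻¹ * (p * g * p⁻¹) ∈ D.stab := mul_mem (inv_mem hgs) (D.swa_mul_mem
      ⟨by rw [cjg_mul, cjg_eq_iff.2 hgs.1, hsw.1], by rw [cjg_mul, cjg_eq_iff.2 hgs.2, hsw.2]⟩ hpi)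
    obtain ⟨τ, β, ε, Tc⟩ := D.exists_tri hcs.1 hcs.2
    have hz : ∀ w, β * τ w = w := fun w => by
      obtain ⟨v, rfl⟩ : ∃ v, α * σ v = w :=
        ⟨σ.symm (w / α), by rw [RingEquiv.apply_symm_apply]; field_simp [T.α0]⟩
      have e : g * (g⁻¹ * (p * g * p⁻¹) * (p * D.one.v v 0 * p⁻¹) * (g⁻¹ * (p * g * p⁻¹))⁻¹) * g⁻¹ =
          p * (g * D.one.v v 0 * g⁻¹) * p⁻¹ := by group
      simp only [T.za, Tc.za, Tg.za, RingEquiv.refl_apply, map_mul, htf] at e
      have e1 := (D.one.v_inj _ _ _ _ e).1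
      refine mul_left_cancel₀ (mul_ne_zero ht0 ht0) ?_
      rw [map_mul]
      linear_combination e1
    have hx : ∀ w, β / ε * τ w = w := fun w => by
      obtain ⟨v, rfl⟩ : ∃ v, δ * σ v = w :=
        ⟨σ.symm (w / δ), by rw [RingEquiv.apply_symm_apply]; field_simp [T.δ0]⟩
      obtain ⟨p1, hp1⟩ := T.ya v
      obtain ⟨p2, hp2⟩ := Tc.full2 p1 (δ * σ v)
      obtain ⟨p3, hp3⟩ := Tg.full2 p2 (β / ε * τ (δ * σ v))
      obtain ⟨p4, hp4⟩ := Tg.ya v
      obtain ⟨p5, hp5⟩ := T.full p4 (t * RingEquiv.refl F v)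
      have e : g * (g⁻¹ * (p * g * p⁻¹) * (p * D.one.v 0 v * p⁻¹) * (g⁻¹ * (p * g * p⁻¹))⁻¹) * g⁻¹ =
          p * (g * D.one.v 0 v * g⁻¹) * p⁻¹ := by group
      rw [hp1, hp2, hp3, hp4, hp5] at e
      have e1 := (D.two.v_inj _ _ _ _ e).2
      simp only [RingEquiv.refl_apply, map_mul, htf] at e1
      refine mul_left_cancel₀ ht0 ?_
      rw [map_mul]
      rw [show t * t / t = t by field_simp] at e1
      linear_combination e1
    have hβ : β = 1 := by simpa using hz 1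
    subst hβ
    have hτ : τ = RingEquiv.refl F := RingEquiv.ext fun w => by simpa using hz w
    subst hτ
    have hε : ε = 1 := by
      have := hx 1
      simpa using this
    subst hε
    exact h.mem_J_of_tri Tc hcs.1
  obtain ⟨v, hv, hva⟩ := exists_centralizing (D.stab_J hgs) hfix hc
  refine ⟨v * p, mul_mem (D.stab_J (D.J_le_stab hv)) hp, fun e => hps ?_, hfix _ ?_ ?_⟩
  · simpa using D.stab.mul_mem (inv_mem (D.J_le_stab hv)) e
  · have h1 := D.J.mul_mem (D.J.mul_mem hv ((mem_normalizer_iff.1 hp v).1 hv)) hpp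
    rwa [show v * (p * v * p⁻¹) * (p * p) = v * p * (v * p) by group] at h1
  · rw [← mul_assoc, ← hva, mul_assoc, ← hva, ← mul_assoc]

/-- **an exchanging involution is not conjugate into the centre** -/
theorem no_fusion {u : G} (hu : u ∈ normalizer (D.J : Set G)) (hus : u ∉ D.stab) (hu2 : u * u = 1)
    {z : F} (hz : z ≠ 0) {g : G} (e : g * D.one.v z 0 * g⁻¹ = u) : False := by
  have hsw := (D.norm_J_cases hu).resolve_left hus
  obtain ⟨σ, α, δ, T⟩ := D.exists_swa hsw.1 hsw.2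
  let θ : F →+ F :=
    { toFun := fun w => α * σ w
      map_zero' := by simp
      map_add' := fun a b => by rw [map_add, mul_add] }
  have hθ : ∀ w, θ (θ w) = w := fun w => by
    have e := T.za (α * σ w)
    rw [← T.za w, show u * (u * D.one.v w 0 * u⁻¹) * u⁻¹ = u * u * D.one.v w 0 * (u * u)⁻¹ by group, hu2,
      one_mul, inv_one, mul_one] at e
    exact (D.one.v_inj _ _ _ _ e).1.symm
  have h3 : 2 < Nat.card {x | θ x = x} := by
    have := fix_card θ hθ
    nlinarith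
  have hN : ∀ w, θ w = w → g⁻¹ * D.one.v w 0 * g ∈ normalizer (D.J : Set G) := fun w hw => by
    refine h.cent_z hq hz ?_
    have hcu : u * D.one.v w 0 = D.one.v w 0 * u :=
      mul_inv_eq_iff_eq_mul.1 ((T.za w).trans (congrArg (fun s => D.one.v s 0) hw))
    rw [← e] at hcu
    calc g⁻¹ * D.one.v w 0 * g * D.one.v z 0 = g⁻¹ * (D.one.v w 0 * (g * D.one.v z 0 * g⁻¹)) * g := by group
      _ = g⁻¹ * (g * D.one.v z 0 * g⁻¹ * D.one.v w 0) * g := by rw [hcu]
      _ = D.one.v z 0 * (g⁻¹ * D.one.v w 0 * g) := by group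
  have hsq : ∀ w, (g⁻¹ * D.one.v w 0 * g) * (g⁻¹ * D.one.v w 0 * g) = 1 := fun w => by
    rw [show (g⁻¹ * D.one.v w 0 * g) * (g⁻¹ * D.one.v w 0 * g) = g⁻¹ * (D.one.v w 0 * D.one.v w 0) * g by group,
      D.one.v_sq, mul_one, inv_mul_cancel]
  obtain ⟨w, hw0, hws⟩ : ∃ w, w ≠ 0 ∧ g⁻¹ * D.one.v w 0 * g ∈ D.stab := by
    by_contra hno
    push Not at hno
    haveI : Fintype {x | θ x = x} := Fintype.ofFinite _
    obtain ⟨a, b, c, hab, hac, hbc⟩ := Fintype.two_lt_card_iff.1 (Nat.card_eq_fintype_card (α := {x | θ x = x}) ▸ h3)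
    have hswap : ∀ a : {x | θ x = x}, (a : F) ≠ 0 →
        cjg (g⁻¹ * D.one.v a 0 * g) D.one.V = D.two.V ∧ cjg (g⁻¹ * D.one.v a 0 * g) D.two.V = D.one.V :=
      fun a ha => (D.norm_J_cases (hN a a.2)).resolve_left (hno a ha)
    have two : ∀ a b : {x | θ x = x}, a ≠ b → (a : F) ≠ 0 → (b : F) ≠ 0 → False := fun a b hne ha hb => by
      refine hno ((a : F) + b) (fun e => hne (Subtype.ext (CharTwo.add_eq_zero.1 e))) ?_
      have := D.swa_mul_mem (hswap a ha) (hswap b hb)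
      rwa [show g⁻¹ * D.one.v a 0 * g * (g⁻¹ * D.one.v b 0 * g) = g⁻¹ * (D.one.v a 0 * D.one.v b 0) * g by group,
        ← D.one.v_add, add_zero] at this
    by_cases ha : (a : F) = 0
    · exact two b c hbc (fun e => hab (Subtype.ext (ha.trans e.symm))) (fun e => hac (Subtype.ext (ha.trans e.symm)))
    by_cases hb : (b : F) = 0
    · exact two a c hac ha (fun e => hbc (Subtype.ext (hb.trans e.symm)))
    exact two a b hab ha hb
  have haJ : g⁻¹ * D.one.v w 0 * g ∈ D.J := h.stab_two hq 1 hws (by rw [pow_one, pow_two, hsq])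
  have key : ∀ B : Blk F G, B.V ≤ D.J → D.one.v z 0 ∈ B.V → g⁻¹ * D.one.v w 0 * g ∈ B.V → False := by
    intro B _ hzB hwB
    have hA : cjg g B.V ≤ D.J := by
      refine h.elem_norm ?_ (fun a ha => ?_) (by rw [card_cjg, B.card_V, Nat.card_eq_fintype_card])
      · rintro _ ⟨v, hv, rfl⟩
        refine h.cent_z hq hw0 ?_
        show g * v * g⁻¹ * D.one.v w 0 = D.one.v w 0 * (g * v * g⁻¹)
        calc g * v * g⁻¹ * D.one.v w 0 = g * (v * (g⁻¹ * D.one.v w 0 * g)) * g⁻¹ := by group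
          _ = g * (g⁻¹ * D.one.v w 0 * g * v) * g⁻¹ := by rw [B.comm_V hv hwB]
          _ = D.one.v w 0 * (g * v * g⁻¹) := by group
      · obtain ⟨v, hv, rfl⟩ := ha
        rw [← map_mul, B.sq_V hv, map_one]
    exact hus (D.J_le_stab (hA (e ▸ cjg_mem hzB)))
  rcases D.sq_cases haJ (hsq w) with hV | hV
  · exact key D.one D.V1_le_J (D.one.v_mem z 0) hV
  · exact key D.two D.V2_le_J (D.z_mem2 z) hV

/-- **a normal subgroup with the common subgroup as Sylow subgroup** -/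
theorem exists_sub : ∃ H : Subgroup G, H.Normal ∧ D.one.L ≤ H ∧ D.two.L ≤ H ∧
    ∀ p ∈ H, p ∈ normalizer (D.J : Set G) → ∀ k : ℕ, p ^ 2 ^ k = 1 → p ∈ D.J := by
  haveI : Fact (Nat.Prime 2) := ⟨Nat.prime_two⟩
  by_cases hex : ∀ p ∈ normalizer (D.J : Set G), ∀ k : ℕ, p ^ 2 ^ k = 1 → p ∈ D.stab
  · exact ⟨⊤, inferInstance, le_top, le_top, fun p _ hp k hk => h.stab_two hq k (hex p hp k hk) hk⟩
  push Not at hex
  obtain ⟨p₀, hp₀, k₀, hk₀, hp₀s⟩ := hex
  obtain ⟨u, hu, hus, hu2⟩ := h.exists_invol hq hp₀ hp₀s hk₀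
  have hU : IsPGroup 2 ↥(D.J ⊔ zpowers u) :=
    D.J_two.to_sup_of_normal_left' (two_of_pow (k := 1) (by rw [pow_one, pow_two, hu2])) (zpowers_le.2 hu)
  obtain ⟨S, hS⟩ := hU.exists_le_sylow
  have hJS : D.J ≤ S := le_sup_left.trans hS
  have huS : u ∈ (S : Subgroup G) := hS (mem_sup_right (mem_zpowers u))
  have hSn := h.le_norm_J S.isPGroup' hJS
  have hsplit : ∀ a ∈ (S : Subgroup G), a ∉ D.J →
      cjg a D.one.V = D.two.V ∧ cjg a D.two.V = D.one.V := fun a ha haJ => by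
    obtain ⟨k, hk⟩ := S.isPGroup' ⟨a, ha⟩
    exact (D.norm_J_cases (hSn ha)).resolve_left fun e => haJ (h.stab_two hq k e (congrArg Subtype.val hk))
  have hle := card_le_two_mul hJS fun a ha b hb haJ hbJ => by
    obtain ⟨k, hk⟩ := S.isPGroup' ⟨a * b, mul_mem ha hb⟩
    exact h.stab_two hq k (D.swa_mul_mem (hsplit a ha haJ) (hsplit b hb hbJ)) (congrArg Subtype.val hk)
  have hlt : Nat.card ↥D.J < Nat.card ↥(S : Subgroup G) := by
    refine lt_of_le_of_ne (card_le_of_le hJS) fun e => hus (D.J_le_stab ?_)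
    rw [eq_of_le_of_card_ge hJS e.ge]; exact huS
  have hcard : Nat.card ↥(S : Subgroup G) = 2 * Nat.card ↥D.J := by
    obtain ⟨m, hm⟩ := card_dvd_of_le hJS
    have hJpos : 0 < Nat.card ↥D.J := Nat.card_pos
    have : m = 2 := by nlinarith
    rw [hm, this, mul_comm]
  have hodd : Odd (S : Subgroup G).index := Nat.not_even_iff_odd.1 fun e => S.not_dvd_index e.two_dvd
  have hind : D.J.index = 2 * (S : Subgroup G).index := by
    have e1 := D.J.card_mul_index
    have e2 := (S : Subgroup G).card_mul_index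
    rw [hcard, ← e1, mul_comm 2, mul_assoc] at e2
    exact (Nat.eq_of_mul_eq_mul_left Nat.card_pos e2).symm
  have hu1 : u ≠ 1 := fun e => hus (e ▸ one_mem _)
  have hord : orderOf u = 2 := orderOf_eq_prime (by rw [pow_two, hu2]) hu1
  obtain ⟨M, hMn, hM2, huM⟩ := Cfsg.Lib.Transfer.exists_index_two_not_mem D.J hodd hind hord fun g hg => by
    have hne : g⁻¹ * u * g ≠ 1 := fun e => hu1 (by
      have : g * (g⁻¹ * u * g) * g⁻¹ = u := by group
      rw [← this, e, mul_one, mul_inv_cancel])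
    obtain ⟨c, -, z, hz, e⟩ := D.conj_center hg (by
      rw [show g⁻¹ * u * g * (g⁻¹ * u * g) = g⁻¹ * (u * u) * g by group, hu2, mul_one, inv_mul_cancel]) hne
    exact h.no_fusion hq hu hus hu2 hz (g := g * c) (by
      rw [show g * c * D.one.v z 0 * (g * c)⁻¹ = g * (c * D.one.v z 0 * c⁻¹) * g⁻¹ by group, ← e]; group)
  refine ⟨M, hMn, D.one.le_of_index_two h.card M hM2, D.two.le_of_index_two h.card M hM2,
    fun p hpM hp k hk => ?_⟩
  by_contra hpJ
  have hP : IsPGroup 2 ↥(D.J ⊔ zpowers p) :=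
    D.J_two.to_sup_of_normal_left' (two_of_pow hk) (zpowers_le.2 hp)
  have hPM : D.J ⊔ zpowers p ≤ M :=
    sup_le (D.J_le_L1.trans (D.one.le_of_index_two h.card M hM2)) (zpowers_le.2 hpM)
  obtain ⟨m, hm⟩ := IsPGroup.iff_card.1 hP
  obtain ⟨n, hn⟩ := IsPGroup.iff_card.1 S.isPGroup'
  obtain ⟨i, hi⟩ := IsPGroup.iff_card.1 D.J_two
  have him : i < m := by
    by_contra hle'
    push Not at hle'
    refine hpJ ?_
    have := eq_of_le_of_card_ge (le_sup_left : D.J ≤ D.J ⊔ zpowers p)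
      (by rw [hi, hm]; exact Nat.pow_le_pow_right (by norm_num) hle')
    rw [this]; exact mem_sup_right (mem_zpowers p)
  have hnm : n ≤ m := by
    have : 2 ^ n ≤ 2 ^ m := by
      rw [← hn, hcard, hi, ← pow_succ']; exact Nat.pow_le_pow_right (by norm_num) him
    exact (Nat.pow_le_pow_iff_right (by norm_num)).1 this
  have hdvd : Nat.card ↥(S : Subgroup G) ∣ Nat.card ↥M :=
    (by rw [hn, hm]; exact pow_dvd_pow 2 hnm : Nat.card ↥(S : Subgroup G) ∣ Nat.card ↥(D.J ⊔ zpowers p)).trans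
      (card_dvd_of_le hPM)
  obtain ⟨r, hr⟩ := hdvd
  have e := M.card_mul_index
  rw [hM2, hr, ← (S : Subgroup G).card_mul_index, mul_assoc] at e
  have e2 := Nat.eq_of_mul_eq_mul_left Nat.card_pos e
  exact Nat.not_even_iff_odd.2 hodd ⟨r, by rw [← e2]; ring⟩

end Hyp

end Cfsg.Lib.LTP
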