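import Cfsg.Agent.LThreePlane.Semi
import Cfsg.Agent.LThreePlane.Field

/-!
# Every 2-subgroup containing the common subgroup normalises it
-/

set_option autoImplicit false

namespace Cfsg.Lib.LTP

open Subgroup

variable {F : Type*} [Field F] [Fintype F] [CharP F 2] {G : Type*} [Group G] [Finite G]

namespace Duo

variable (D : Duo F G)

/-- the stabiliser of both modules -/
def stab : Subgroup G := normalizer (D.one.V : Set G) ⊓ normalizer (D.two.V : Set G)

theorem J_le_stab : D.J ≤ D.stab := le_inf (D.J_le_L1.trans D.one.L_le_norm) (D.J_le_L2.trans D.two.L_le_norm)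

theorem cjg_sup (g : G) : cjg g D.J = cjg g D.one.V ⊔ cjg g D.two.V := by
  rw [D.J_eq_sup]; exact Subgroup.map_sup _ _ _

theorem stab_J : D.stab ≤ normalizer (D.J : Set G) := fun g hg => by
  rw [← cjg_eq_iff, cjg_sup, cjg_eq_iff.2 hg.1, cjg_eq_iff.2 hg.2, ← D.J_eq_sup]

/-- the normaliser of the common subgroup fixes or exchanges the modules -/
theorem norm_J_cases {g : G} (hg : g ∈ normalizer (D.J : Set G)) :
    g ∈ D.stab ∨ (cjg g D.one.V = D.two.V ∧ cjg g D.two.V = D.one.V) := by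
  have hJ := cjg_eq_iff.2 hg
  have key : ∀ B : Blk F G, B.V ≤ D.J → cjg g B.V = D.one.V ∨ cjg g B.V = D.two.V := fun B hB => by
    have hle : cjg g B.V ≤ D.J := (Subgroup.map_mono hB).trans hJ.le
    rcases D.elem_le hle (fun a ha => by
        obtain ⟨u, hu, rfl⟩ := ha
        rw [← map_mul, B.sq_V hu, map_one]) with h | h
    · exact Or.inl (eq_of_le_of_card_ge h (by rw [card_cjg, B.card_V, D.one.card_V]))
    · exact Or.inr (eq_of_le_of_card_ge h (by rw [card_cjg, B.card_V, D.two.card_V]))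
  have hne : cjg g D.one.V ≠ cjg g D.two.V := fun e =>
    D.V1_ne_V2 (Subgroup.map_injective (MulAut.conj g).injective e)
  rcases key D.one D.V1_le_J with h1 | h1 <;> rcases key D.two D.V2_le_J with h2 | h2
  · exact absurd (h1.trans h2.symm) hne
  · exact Or.inl ⟨cjg_eq_iff.1 h1, cjg_eq_iff.1 h2⟩
  · exact Or.inr ⟨h1, h2⟩
  · exact absurd (h1.trans h2.symm) hne

theorem swa_mul_mem {a b : G} (ha : cjg a D.one.V = D.two.V ∧ cjg a D.two.V = D.one.V)
    (hb : cjg b D.one.V = D.two.V ∧ cjg b D.two.V = D.one.V) : a * b ∈ D.stab :=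
  ⟨cjg_eq_iff.1 (by rw [cjg_mul, hb.1, ha.2]), cjg_eq_iff.1 (by rw [cjg_mul, hb.2, ha.1])⟩

variable {D}

theorem Tri.sq {y : G} {σ : F ≃+* F} {α δ : F} (T : D.Tri y σ α δ) (h2 : y * y = 1) :
    σ * σ = 1 ∧ α * σ α = 1 ∧ δ * σ δ = 1 := by
  have S := T.mul T
  rw [h2] at S
  obtain ⟨e1, e2, e3⟩ := Tri.unique tri_one S
  exact ⟨RingEquiv.ext fun x => (congrArg (fun f : F ≃+* F => f x) e1).symm, e2.symm, e3.symm⟩

theorem Tri.pow {g : G} {α δ : F} (T : D.Tri g (RingEquiv.refl F) α δ) :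
    ∀ n : ℕ, D.Tri (g ^ n) (RingEquiv.refl F) (α ^ n) (δ ^ n)
  | 0 => by simpa using tri_one
  | n + 1 => by
    have h := (Tri.pow T n).mul T
    rw [pow_succ, pow_succ, pow_succ]
    exact h

/-- the fixed points of an outer involution on the first module -/
theorem Tri.fix_one {y : G} {σ : F ≃+* F} {α δ : F} (T : D.Tri y σ α δ) (h2 : y * y = 1) (hσ : σ ≠ 1)
    {A : Subgroup G} (hA : A ≤ D.one.V) (hc : ∀ a ∈ A, y * a = a * y) :
    Nat.card ↥A ≤ Fintype.card F := by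
  classical
  obtain ⟨hs, ha, hd⟩ := T.sq h2
  choose z w hzw using fun a : ↥A => (D.one.mem_V _).1 (hA a.2)
  have hfix : ∀ a : ↥A, δ * σ (w a) = w a := fun a => by
    obtain ⟨p, hp⟩ := T.full (z a) (w a)
    rw [← hzw, hc _ a.2, mul_inv_cancel_right, hzw] at hp
    exact ((D.one.v_inj _ _ _ _ hp).2).symm
  let rep : F → F := fun b => if h : ∃ a, w a = b then z h.choose else 0
  have hdiff : ∀ a, z a + rep (w a) ∈ fixSet σ α := fun a => by
    have hex : ∃ a', w a' = w a := ⟨a, rfl⟩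
    have e : (a : G) * (hex.choose : G) = D.one.v (z a + rep (w a)) 0 := by
      rw [hzw a, hzw hex.choose, ← D.one.v_add, hex.choose_spec, CharTwo.add_self_eq_zero]
      simp only [rep, dif_pos hex]
    have h1 := T.za (z a + rep (w a))
    rw [← e, hc _ (A.mul_mem a.2 hex.choose.2), mul_inv_cancel_right, e] at h1
    exact ((D.one.v_inj _ _ _ _ h1).1).symm
  rw [← (fixSet_sq hs hσ hd).1]
  refine le_trans (Nat.card_le_card_of_injective (β := fixSet σ α × fixSet σ δ)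
    (fun a => (⟨_, hdiff a⟩, ⟨w a, hfix a⟩)) fun a b h => ?_) ?_
  · have hw : w a = w b := congrArg (fun p : fixSet σ α × fixSet σ δ => (p.2 : F)) h
    have hz : z a + rep (w a) = z b + rep (w b) := congrArg (fun p : fixSet σ α × fixSet σ δ => (p.1 : F)) h
    rw [hw, add_left_inj] at hz
    exact Subtype.ext (by rw [hzw a, hzw b, hz, hw])
  · rw [Nat.card_prod]
    exact Nat.mul_le_mul_right _
      (Nat.mul_self_inj.1 ((fixSet_sq hs hσ ha).1.trans (fixSet_sq hs hσ hd).1.symm)).le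

end Duo

namespace Hyp

variable {D : Duo F G} (h : Hyp D)
include h

/-- a 2-element without field part lies in the common subgroup -/
theorem two_mem_J {g : G} {α δ : F} (T : D.Tri g (RingEquiv.refl F) α δ)
    (h1 : g ∈ normalizer (D.one.V : Set G)) {k : ℕ} (hk : g ^ 2 ^ k = 1) : g ∈ D.J := by
  have h2 := T.pow (2 ^ k)
  rw [hk] at h2
  obtain ⟨-, ea, ed⟩ := Duo.Tri.unique Duo.tri_one h2
  have one_of : ∀ a : F, a ≠ 0 → 1 = a ^ 2 ^ k → a = 1 := fun a ha e =>
    congrArg Units.val (two_pow_eq_one (t := Units.mk0 a ha) (Units.ext (by simpa using e.symm)))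
  rw [one_of α T.α0 ea, one_of δ T.δ0 ed] at T
  exact h.mem_J_of_tri T h1

/-- an outer element of the stabiliser in an elementary group -/
theorem outer_data {y : G} (hy : y ∈ D.stab) (h2 : y * y = 1) (hyJ : y ∉ D.J) :
    ∃ σ α δ, D.Tri y σ α δ ∧ σ ≠ 1 := by
  obtain ⟨σ, α, δ, T⟩ := D.exists_tri hy.1 hy.2
  refine ⟨σ, α, δ, T, fun e => hyJ ?_⟩
  subst e
  exact h.two_mem_J T hy.1 (k := 1) (by rw [pow_one, pow_two, h2])

theorem index_J {A : Subgroup G} (hA : A ≤ D.stab) (hsq : ∀ a ∈ A, a * a = 1) {a b : G}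
    (ha : a ∈ A) (hb : b ∈ A) (haJ : a ∉ D.J) (hbJ : b ∉ D.J) : a * b ∈ D.J := by
  obtain ⟨σ, α, δ, Ta, hσ⟩ := h.outer_data (hA ha) (hsq a ha) haJ
  obtain ⟨τ, β, ε, Tb, hτ⟩ := h.outer_data (hA hb) (hsq b hb) hbJ
  have e := invol_unique (Ta.sq (hsq a ha)).1 (Tb.sq (hsq b hb)).1 hσ hτ
  subst e
  have S := Ta.mul Tb
  have hr : σ.trans σ = RingEquiv.refl F :=
    RingEquiv.ext fun x => congrArg (fun f : F ≃+* F => f x) (Ta.sq (hsq a ha)).1
  rw [hr] at S
  exact h.two_mem_J S (hA (A.mul_mem ha hb)).1 (k := 1) (by rw [pow_one, pow_two, hsq _ (A.mul_mem ha hb)])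

omit h in
theorem card_le_two_mul {A B : Subgroup G} (hBA : B ≤ A)
    (hab : ∀ a ∈ A, ∀ b ∈ A, a ∉ B → b ∉ B → a * b ∈ B) :
    Nat.card ↥A ≤ 2 * Nat.card ↥B := by
  rw [show Nat.card ↥A = B.relIndex A * Nat.card ↥B by
    rw [← Nat.card_congr (subgroupOfEquivOfLe hBA).toEquiv, relIndex, mul_comm, card_mul_index]]
  refine Nat.mul_le_mul_right _ ?_
  by_contra hlt
  push Not at hlt
  by_cases hAB : A ≤ B
  · rw [relIndex_eq_one.2 hAB] at hlt; omega
  obtain ⟨a, ha, haB⟩ := SetLike.not_le_iff_exists.1 hAB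
  have h2 : B.relIndex A = 2 := by
    rw [relIndex, index_eq_two_iff]
    refine ⟨⟨a, ha⟩, fun b => ?_⟩
    by_cases hb : (b : G) ∈ B
    · refine Or.inr ⟨hb, fun h' => haB ?_⟩
      have := B.mul_mem (inv_mem hb) (mem_subgroupOf.1 h')
      simpa using this
    · exact Or.inl ⟨mem_subgroupOf.2 (hab b b.2 a ha hb haB), fun h' => hb h'⟩
  omega

/-- a large elementary subgroup in the stabiliser lies in the common subgroup -/
theorem elem_stab {A : Subgroup G} (hA : A ≤ D.stab) (hsq : ∀ a ∈ A, a * a = 1)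
    (hcard : Nat.card ↥A = Fintype.card F ^ 2) : A ≤ D.J := by
  by_contra hAJ
  obtain ⟨y, hy, hyJ⟩ := SetLike.not_le_iff_exists.1 hAJ
  obtain ⟨σ, α, δ, T, hσ⟩ := h.outer_data (hA hy) (hsq y hy) hyJ
  have hle := card_le_two_mul (inf_le_left : A ⊓ D.J ≤ A) fun a ha b hb haB hbB =>
    ⟨A.mul_mem ha hb, h.index_J hA hsq ha hb (fun e => haB ⟨ha, e⟩) (fun e => hbB ⟨hb, e⟩)⟩
  have hc : ∀ a ∈ A ⊓ D.J, y * a = a * y := fun a ha => by
    have e := hsq _ (A.mul_mem hy ha.1)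
    have ey := inv_eq_of_mul_eq_one_right (hsq y hy)
    have ea := inv_eq_of_mul_eq_one_right (hsq a ha.1)
    calc y * a = (y * a)⁻¹ := (inv_eq_of_mul_eq_one_right e).symm
      _ = a * y := by rw [mul_inv_rev, ey, ea]
  have hb : Nat.card ↥(A ⊓ D.J) ≤ Fintype.card F := by
    rcases D.elem_le (inf_le_right : A ⊓ D.J ≤ D.J) (fun a ha => hsq a ha.1) with hV | hV
    · exact T.fix_one (hsq y hy) hσ hV hc
    · have T' : D.swap.Tri y σ α (α / δ) := ⟨fun z => by
        show y * D.two.v z 0 * y⁻¹ = _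
        rw [← D.hz]; exact (T.za z).trans (D.hz _), T.xa, fun x => by
        obtain ⟨p, hp⟩ := T.ya x
        refine ⟨p, hp.trans ?_⟩
        show D.one.v p _ = D.one.v p _
        congr 1
        have := T.α0; have := T.δ0
        field_simp, T.α0, div_ne_zero T.α0 T.δ0⟩
      exact T'.fix_one (hsq y hy) hσ hV hc
  rw [hcard, pow_two] at hle
  have := Nat.le_trans hle (Nat.mul_le_mul_left 2 hb)
  have := h.card
  nlinarith

/-- a large elementary subgroup of the normaliser of the common subgroup lies in it -/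
theorem elem_norm {A : Subgroup G} (hA : A ≤ normalizer (D.J : Set G)) (hsq : ∀ a ∈ A, a * a = 1)
    (hcard : Nat.card ↥A = Fintype.card F ^ 2) : A ≤ D.J := by
  by_cases hs : A ≤ D.stab
  · exact h.elem_stab hs hsq hcard
  exfalso
  obtain ⟨s, hs', hsS⟩ := SetLike.not_le_iff_exists.1 hs
  have hswap := (D.norm_J_cases (hA hs')).resolve_left hsS
  have hle := card_le_two_mul (inf_le_left : A ⊓ D.stab ≤ A) fun a ha b hb haB hbB =>
    ⟨A.mul_mem ha hb, D.swa_mul_mem ((D.norm_J_cases (hA ha)).resolve_left fun e => haB ⟨ha, e⟩)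
      ((D.norm_J_cases (hA hb)).resolve_left fun e => hbB ⟨hb, e⟩)⟩
  have hle2 := card_le_two_mul (inf_le_left : A ⊓ D.stab ⊓ D.J ≤ A ⊓ D.stab) fun a ha b hb haB hbB =>
    ⟨(A ⊓ D.stab).mul_mem ha hb, h.index_J (inf_le_right : A ⊓ D.stab ≤ D.stab) (fun c hc => hsq c hc.1)
      ha hb (fun e => haB ⟨ha, e⟩) (fun e => hbB ⟨hb, e⟩)⟩
  have hcomm : ∀ a ∈ A, ∀ b ∈ A, a * b = b * a := fun a ha b hb => by
    have e := hsq _ (A.mul_mem ha hb)
    calc a * b = (a * b)⁻¹ := (inv_eq_of_mul_eq_one_right e).symm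
      _ = b * a := by
        rw [mul_inv_rev, inv_eq_of_mul_eq_one_right (hsq a ha), inv_eq_of_mul_eq_one_right (hsq b hb)]
  have hZ : ∀ a ∈ A ⊓ D.stab ⊓ D.J, ∃ z, a = D.one.v z 0 := fun a ha => by
    have e : s * a * s⁻¹ = a := by rw [hcomm s hs' a ha.1.1, mul_inv_cancel_right]
    rcases D.sq_cases ha.2 (hsq a ha.1.1) with hV | hV
    · exact D.inter_eq hV (hswap.1 ▸ e ▸ cjg_mem hV)
    · exact D.inter_eq (hswap.2 ▸ e ▸ cjg_mem hV) hV
  choose z hz using fun a : ↥(A ⊓ D.stab ⊓ D.J) => hZ a a.2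
  have hq : Nat.card ↥(A ⊓ D.stab ⊓ D.J) ≤ Fintype.card F := by
    rw [← Nat.card_eq_fintype_card]
    exact Nat.card_le_card_of_injective z fun a b e => Subtype.ext (by rw [hz a, hz b, e])
  have h4 := h.card
  rcases eq_or_ne (A ⊓ D.stab) (A ⊓ D.stab ⊓ D.J) with e | e
  · rw [← e] at hq
    rw [hcard] at hle
    nlinarith
  · obtain ⟨y, hy, hyJ⟩ : ∃ y ∈ A ⊓ D.stab, y ∉ D.J := by
      by_contra hh
      push Not at hh
      exact e (le_antisymm (le_inf le_rfl hh) inf_le_left)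
    obtain ⟨σ, α, δ, T, hσ⟩ := h.outer_data hy.2 (hsq y hy.1) hyJ
    obtain ⟨hs2, ha, -⟩ := T.sq (hsq y hy.1)
    have hsmall : Nat.card ↥(A ⊓ D.stab ⊓ D.J) ≤ Nat.card (fixSet σ α) :=
      Nat.card_le_card_of_injective (fun a => (⟨z a, by
        have e2 := T.za (z a)
        rw [← hz, hcomm y hy.1 a a.2.1.1, mul_inv_cancel_right, hz] at e2
        exact ((D.one.v_inj _ _ _ _ e2).1).symm⟩ : fixSet σ α))
        fun a b e2 => Subtype.ext (by
          rw [hz a, hz b, show z a = z b from congrArg (Subtype.val (p := fun x => x ∈ fixSet σ α)) e2])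
    have hf := (fixSet_sq hs2 hσ ha).1
    have : Fintype.card F ^ 2 ≤ 4 * Nat.card (fixSet σ α) := by
      rw [← hcard]
      calc Nat.card ↥A ≤ 2 * (2 * Nat.card ↥(A ⊓ D.stab ⊓ D.J)) := hle.trans (Nat.mul_le_mul_left 2 hle2)
        _ ≤ _ := by omega
    nlinarith

/-- **every 2-subgroup containing the common subgroup normalises it** -/
theorem le_norm_J {P : Subgroup G} (hP : IsPGroup 2 ↥P) (hJP : D.J ≤ P) :
    P ≤ normalizer (D.J : Set G) := by
  set P₀ := P ⊓ normalizer (D.J : Set G)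
  rcases eq_or_lt_of_le (inf_le_left : P₀ ≤ P) with e | hlt
  · exact e ▸ inf_le_right
  exfalso
  haveI : Fact (Nat.Prime 2) := ⟨Nat.prime_two⟩
  haveI := hP.isNilpotent
  have hsub : P₀.subgroupOf P < ⊤ := lt_top_iff_ne_top.2 fun e => hlt.not_ge (subgroupOf_eq_top.1 e)
  obtain ⟨p, hpn, hp0⟩ := SetLike.exists_of_lt (normalizerCondition_of_isNilpotent _ hsub)
  have hconj : ∀ u ∈ P₀, (p : G) * u * (p : G)⁻¹ ∈ P₀ := fun u hu =>
    (mem_normalizer_iff.1 hpn ⟨u, hu.1⟩).1 hu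
  have hJ0 : D.J ≤ P₀ := le_inf hJP le_normalizer
  refine hp0 (mem_subgroupOf.2 ⟨p.2, ?_⟩)
  refine cjg_eq_iff.1 ?_
  have key : ∀ B : Blk F G, B.V ≤ D.J → cjg (p : G) B.V ≤ D.J := fun B hB => by
    refine h.elem_norm ?_ (fun a ha => ?_) (by rw [card_cjg, B.card_V, Nat.card_eq_fintype_card])
    · rintro _ ⟨u, hu, rfl⟩
      exact (hconj u (hJ0 (hB hu))).2
    · obtain ⟨u, hu, rfl⟩ := ha
      rw [← map_mul, B.sq_V hu, map_one]
  refine eq_of_le_of_card_ge ?_ (card_cjg _ _).ge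
  rw [D.cjg_sup]
  exact sup_le (key D.one D.V1_le_J) (key D.two D.V2_le_J)

end Hyp

end Cfsg.Lib.LTP
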