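import Cfsg.Agent.LThreePlane.Sylow
import Cfsg.Agent.LThreePlane.Series

/-!
# The centraliser of an involution of the centre normalises the common subgroup
-/

set_option autoImplicit false

namespace Cfsg.Lib.LTP

open Subgroup

variable {F : Type*} [Field F]

theorem mul_closed_inv_mem [Finite F] {S : Set F} (h1 : (1 : F) ∈ S)
    (hm : ∀ a ∈ S, ∀ b ∈ S, a * b ∈ S) {e : F} (he : e ∈ S) (he0 : e ≠ 0) : e⁻¹ ∈ S := by
  letI := Fintype.ofFinite F
  have hp : ∀ n : ℕ, e ^ n ∈ S := fun n => by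
    induction n with
    | zero => simpa using h1
    | succ n ih => rw [pow_succ]; exact hm _ ih _ he
  have h := FiniteField.pow_card_sub_one_eq_one e he0
  have hc : 2 ≤ Fintype.card F := Fintype.one_lt_card
  rw [show e⁻¹ = e ^ (Fintype.card F - 2) from inv_eq_of_mul_eq_one_right (by
    rw [← pow_succ', show Fintype.card F - 2 + 1 = Fintype.card F - 1 by omega]; exact h)]
  exact hp _

/-- a proper subfield has at most square root many elements -/
theorem subfield_bound [Fintype F] {S : Set F} (h1 : (1 : F) ∈ S)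
    (ha : ∀ a ∈ S, ∀ b ∈ S, a - b ∈ S) (hm : ∀ a ∈ S, ∀ b ∈ S, a * b ∈ S) {w : F} (hw : w ∉ S) :
    Nat.card S * Nat.card S ≤ Fintype.card F := by
  rw [← Nat.card_prod, ← Nat.card_eq_fintype_card]
  refine Nat.card_le_card_of_injective (fun p : S × S => (p.1 : F) + w * p.2) ?_
  rintro ⟨⟨a, haS⟩, ⟨b, hbS⟩⟩ ⟨⟨a', ha'S⟩, ⟨b', hb'S⟩⟩ h
  simp only at h
  by_cases hb : b = b'
  · subst hb
    obtain rfl : a = a' := by linear_combination h
    rfl
  · exfalso
    refine hw ?_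
    have hne : b' - b ≠ 0 := sub_ne_zero.2 (Ne.symm hb)
    rw [show w = (a - a') * (b' - b)⁻¹ by field_simp; linear_combination -h]
    exact hm _ (ha _ haS _ ha'S) _ (mul_closed_inv_mem h1 hm (ha _ hb'S _ hbS) hne)

/-- the cubes are numerous -/
theorem cubes_card [Fintype F] {S : Set F} (h0 : (0 : F) ∈ S) (hS : ∀ t : Fˣ, (t : F) * t * t ∈ S) :
    Fintype.card F + 2 ≤ 3 * Nat.card S := by
  classical
  have h1 : Fintype.card Fˣ ≤ 3 * (Finset.univ.image fun t : Fˣ => t ^ 3).card := by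
    rw [← Finset.card_univ]
    refine Finset.card_le_mul_card_image _ _ fun b hb => ?_
    obtain ⟨t, -, rfl⟩ := Finset.mem_image.1 hb
    refine le_trans ?_ (IsCyclic.card_pow_eq_one_le (α := Fˣ) (n := 3) (by norm_num))
    refine Finset.card_le_card_of_injOn (fun a => a * t⁻¹) (fun a ha => ?_)
      (fun a _ b _ e => mul_right_cancel (b := t⁻¹) e)
    simp only [Finset.mem_coe, Finset.mem_filter, Finset.mem_univ, true_and] at ha ⊢
    rw [mul_pow, ha, inv_pow, mul_inv_cancel]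
  have h2 : (Finset.univ.image fun t : Fˣ => t ^ 3).card + 1 ≤ Nat.card S := by
    letI := Fintype.ofFinite S
    rw [Nat.card_eq_fintype_card, ← Finset.card_image_of_injective _ Units.val_injective,
      ← Finset.card_insert_of_notMem (a := (0 : F)) (by simp), ← Set.toFinset_card]
    refine Finset.card_le_card fun x hx => ?_
    rw [Set.mem_toFinset]
    rcases Finset.mem_insert.1 hx with rfl | hx
    · exact h0
    · obtain ⟨u, hu, rfl⟩ := Finset.mem_image.1 hx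
      obtain ⟨t, -, rfl⟩ := Finset.mem_image.1 hu
      simpa [pow_succ, mul_assoc] using hS t
  have h3 : Fintype.card Fˣ = Fintype.card F - 1 := Fintype.card_units F
  have h4 : 0 < Fintype.card F := Fintype.card_pos
  omega

/-- a subfield containing the cubes is everything -/
theorem cubes_subfield [Fintype F] [CharP F 2] (hq : 8 ≤ Fintype.card F) {S : Set F} (h0 : (0 : F) ∈ S)
    (h1 : (1 : F) ∈ S) (ha : ∀ a ∈ S, ∀ b ∈ S, a - b ∈ S) (hm : ∀ a ∈ S, ∀ b ∈ S, a * b ∈ S)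
    (hS : ∀ t : Fˣ, (t : F) * t * t ∈ S) (x : F) : x ∈ S := by
  by_contra hx
  have h2 := subfield_bound h1 ha hm hx
  have h3 := cubes_card h0 hS
  nlinarith

variable [Fintype F] [CharP F 2] {G : Type*} [Group G] [Finite G]

namespace Hyp

variable {D : Duo F G} (h : Hyp D)
include h

/-- the torus element fixing the centre -/
theorem exists_h (t : Fˣ) :
    ∃ k, k ∈ D.stab ∧ D.Tri k (RingEquiv.refl F) 1 ((t⁻¹ : Fˣ) * ((t⁻¹ : Fˣ) : F) * ((t⁻¹ : Fˣ) : F)) ∧
      ∀ w, k * D.one.v w 0 = D.one.v w 0 * k := by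
  obtain ⟨a, ha, hπa, -⟩ := D.one.exists_tor t
  obtain ⟨b, hb, hπb, -⟩ := D.two.exists_tor t⁻¹
  have Ta := Duo.tri_tor (D := D) ha hπa
  have Tb := Duo.tri_tor2 (D := D) hb hπb
  have hs : a * b ∈ D.stab := mul_mem
    (show a ∈ D.stab from ⟨D.one.L_le_norm ha, D.norm_V2 (D.one.L_le_norm ha) (D.tor_J ha hπa)⟩)
    (show b ∈ D.stab from ⟨D.swap.norm_V2 (D.two.L_le_norm hb) (D.swap.tor_J hb hπb), D.two.L_le_norm hb⟩)
  have T : D.Tri (a * b) (RingEquiv.refl F) 1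
      ((t⁻¹ : Fˣ) * ((t⁻¹ : Fˣ) : F) * ((t⁻¹ : Fˣ) : F)) := by
    have T0 := Ta.mul Tb
    rw [RingEquiv.refl_apply, RingEquiv.refl_apply, ← Units.val_mul, mul_inv_cancel, Units.val_one,
      ← mul_assoc] at T0
    exact T0
  refine ⟨a * b, hs, T, fun w => ?_⟩
  have e := T.za w
  rw [one_mul, RingEquiv.refl_apply] at e
  exact mul_inv_eq_iff_eq_mul.1 e

/-- fixing a central element in the first normaliser -/
theorem norm_J_of_fix {g : G} (hg : g ∈ normalizer (D.one.V : Set G)) {z : F} (hz : z ≠ 0)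
    (hc : g * D.one.v z 0 = D.one.v z 0 * g) : g ∈ normalizer (D.J : Set G) := by
  have hfix : g * D.one.v z 0 * g⁻¹ = D.one.v z 0 := by rw [hc, mul_inv_cancel_right]
  have hinv : g⁻¹ * D.one.v z 0 * g = D.one.v z 0 := by rw [mul_assoc, ← hc, inv_mul_cancel_left]
  refine cjg_eq_iff.1 (eq_of_le_of_card_ge ?_ (card_cjg _ _).ge)
  rintro _ ⟨u, hu, rfl⟩
  obtain ⟨hl, hπ⟩ := D.mem_J_iff.1 hu
  have hl' : g * u * g⁻¹ ∈ D.one.L := (mem_normalizer_iff.1 (h.norm1 ▸ hg) u).1 hl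
  refine D.mem_J_iff.2 ⟨hl', ?_⟩
  have h1 : g * u * g⁻¹ * D.one.v z 0 * (g * u * g⁻¹)⁻¹ = D.one.v z 0 := by
    have h2 : u * D.one.v z 0 * u⁻¹ = D.one.v z 0 := by rw [← D.z_central z hu, mul_inv_cancel_right]
    rw [show g * u * g⁻¹ * D.one.v z 0 * (g * u * g⁻¹)⁻¹ = g * (u * (g⁻¹ * D.one.v z 0 * g) * u⁻¹) * g⁻¹ by
      group, hinv, h2, hfix]
  rw [D.one.act _ hl', mul_zero, add_zero, mul_zero, add_zero] at h1
  obtain ⟨e1, e2⟩ := D.one.v_inj _ _ _ _ h1
  set M := D.one.π ⟨g * u * g⁻¹, hl'⟩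
  have h00 : M.1 0 0 = 1 := mul_right_cancel₀ hz (by rw [one_mul]; exact e1)
  have h10 : M.1 1 0 = 0 := (mul_eq_zero.1 e2).resolve_right hz
  have hd := det2 M
  rw [h00, h10, one_mul, mul_zero, sub_zero] at hd
  exact ⟨h00, h10, hd⟩

/-- a subgroup of the normaliser containing the common subgroup is recognised by it -/
theorem norm_of_invariant {R : Subgroup G} (hJR : D.J ≤ R) (hR : IsPGroup 2 ↥R) {g : G}
    (hg : g ∈ normalizer (R : Set G)) : g ∈ normalizer (D.J : Set G) := by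
  have hRJ := h.le_norm_J hR hJR
  have key : ∀ B : Blk F G, B.V ≤ D.J → cjg g B.V ≤ D.J := fun B hB => by
    refine h.elem_norm ?_ (fun a ha => ?_) (by rw [card_cjg, B.card_V, Nat.card_eq_fintype_card])
    · rintro _ ⟨u, hu, rfl⟩
      exact hRJ ((mem_normalizer_iff.1 hg u).1 (hJR (hB hu)))
    · obtain ⟨u, hu, rfl⟩ := ha
      rw [← map_mul, B.sq_V hu, map_one]
  refine cjg_eq_iff.1 (eq_of_le_of_card_ge ?_ (card_cjg _ _).ge)
  rw [D.cjg_sup]
  exact sup_le (key D.one D.V1_le_J) (key D.two D.V2_le_J)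

/-- the orthogonal cases for a subgroup of the common subgroup -/
theorem center_cases {R : Subgroup G} (hRJ : R ≤ D.J) (h1 : ¬ R ≤ D.one.V) (h2 : ¬ R ≤ D.two.V)
    (hC : ∀ u ∈ D.J, (∀ r ∈ R, u * r = r * u) → u ∈ R) :
    (∀ u, u ∈ R ∧ (∀ r ∈ R, u * r = r * u) ↔ ∃ z, u = D.one.v z 0) ∨
      (∀ u, u ∈ R ∧ u * u = 1 ↔ ∃ z, u = D.one.v z 0) := by
  have hZR : ∀ z, D.one.v z 0 ∈ R := fun z => hC _ (D.V1_le_J (D.one.v_mem z 0))
    fun r hr => D.z_central z (hRJ hr)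
  by_cases hex : ∃ y0 x0 : F, (y0 ≠ 0 ∨ x0 ≠ 0) ∧ ∀ z y x, D.j z y x ∈ R → x0 * y = x * y0
  · right
    obtain ⟨y0, x0, hne, horth⟩ := hex
    have hy0 : y0 ≠ 0 := fun e => by
      have hx0 : x0 ≠ 0 := hne.resolve_left (fun h => h e)
      refine h2 fun u hu => ?_
      obtain ⟨z, y, x, rfl⟩ := hRJ hu
      have := horth z y x hu
      rw [e, mul_zero, mul_eq_zero] at this
      rw [this.resolve_left hx0, ← D.two_eq_j]
      exact D.two.v_mem z x
    have hx0 : x0 ≠ 0 := fun e => by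
      refine h1 fun u hu => ?_
      obtain ⟨z, y, x, rfl⟩ := hRJ hu
      have := horth z y x hu
      rw [e, zero_mul, eq_comm, mul_eq_zero] at this
      rw [this.resolve_right hy0, ← D.one_eq_j]
      exact D.one.v_mem z y
    intro u
    refine ⟨fun ⟨hu, hu2⟩ => ?_, fun ⟨z, hz⟩ => hz ▸ ⟨hZR z, D.one.v_sq z 0⟩⟩
    obtain ⟨z, y, x, rfl⟩ := hRJ hu
    have e := horth z y x hu
    rw [D.j_sq, ← D.j_zero] at hu2
    rcases mul_eq_zero.1 (D.j_inj hu2).1 with hx | hy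
    · rw [hx, zero_mul, mul_eq_zero] at e
      exact ⟨z, by rw [hx, e.resolve_left hx0, D.one_eq_j]⟩
    · rw [hy, mul_zero, eq_comm, mul_eq_zero] at e
      exact ⟨z, by rw [hy, e.resolve_right hy0, D.one_eq_j]⟩
  · left
    push Not at hex
    intro u
    refine ⟨fun ⟨hu, hcom⟩ => ?_, fun ⟨z, hz⟩ => hz ▸ ⟨hZR z, fun r hr => D.z_central z (hRJ hr)⟩⟩
    obtain ⟨z, y, x, rfl⟩ := hRJ hu
    by_cases hz : y = 0 ∧ x = 0
    · exact ⟨z, by rw [hz.1, hz.2, D.one_eq_j]⟩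
    · obtain ⟨z', y', x', hr, hne⟩ := hex y x (by tauto)
      exact absurd ((D.commute_j z y x z' y' x').1 (hcom _ hr)) hne

end Hyp

end Cfsg.Lib.LTP
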